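import Cfsg.Agent.Lib.LocalEvenB.PushFam.Core
import Cfsg.Agent.Lib.LocalEven.EGroupPSL
import Cfsg.Agent.Lib.LocalEvenB.PushingUpCL.Main
import Cfsg.Agent.Lib.LocalEvenB.CentrallyLarge
import Cfsg.Agent.Lib.PLocal.PStable
import Cfsg.Agent.Lib.PGroups.Basic

/-!
# Pushing-up families: the case division for an abstract `p`-group
-/

set_option autoImplicit false

namespace CfsgLib.PushFam

open Subgroup Cfsg CfsgLib.PushUp CfsgLib.LocalEvenB
open CfsgLib.LocalEvenB.PushCL (phi map_phi map_frattini_eq_phi card_invariants_eq)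
open scoped commutatorElement Pointwise

universe u

/-- `Z(J(S))`. -/
abbrev zj (S : Type*) [Group S] : Subgroup S :=
  thompsonSubgroupA S ⊓ centralizer (thompsonSubgroupA S : Set S)

/-- The centralizer of `Z(J(S))`. -/
abbrev jt (S : Type*) [Group S] : Subgroup S := centralizer (zj S : Set S)

/-- A pair of characteristic subgroups which works for all embeddings. -/
def PairFor (p : ℕ) (S : Type u) [Group S] (S1 S2 : Subgroup S) : Prop :=
  S1 ≠ ⊥ ∧ S2 ≠ ⊥ ∧ S1.Characteristic ∧ S2.Characteristic ∧ S1 ≤ Subgroup.center S ∧ S2 ≤ jt S ∧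
    (S2.subgroupOf (jt S)).Characteristic ∧
    ∀ (G : Type u) [Group G] [Finite G] (τ : S →* G), Situ p τ → (S1.map τ).Normal ∨ (S2.map τ).Normal

section General

variable {S S' : Type*} [Group S] [Group S']

theorem center_eq_inf : Subgroup.center S = ⊤ ⊓ centralizer ((⊤ : Subgroup S) : Set S) := by
  rw [top_inf_eq, coe_top, centralizer_univ]

theorem le_center_iff {H : Subgroup S} : H ≤ Subgroup.center S ↔ H ≤ centralizer ((⊤ : Subgroup S) : Set S) := by
  rw [coe_top, centralizer_univ]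

theorem map_center' {G : Type*} [Group G] {τ : S →* G} (hτ : Function.Injective τ) :
    (Subgroup.center S).map τ = τ.range ⊓ centralizer (τ.range : Set G) := by
  rw [center_eq_inf, map_inf_centralizer' hτ, ← MonoidHom.range_eq_map]

theorem map_zj_range {G : Type*} [Group G] {τ : S →* G} (hτ : Function.Injective τ) :
    (zj S).map τ = centerThompsonAOf τ.range := by
  have hJ : (thompsonSubgroupA S).map τ = thompsonSubgroupAOf τ.range := by
    rw [thompsonSubgroupAOf, ← CfsgLib.PLocal.map_equiv_thompsonA (MonoidHom.ofInjective hτ), Subgroup.map_map]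
    rfl
  rw [centerThompsonAOf, ← hJ]
  exact map_inf_centralizer' hτ _ _

theorem map_jt_range {G : Type*} [Group G] {τ : S →* G} (hτ : Function.Injective τ) :
    (jt S).map τ = τ.range ⊓ centralizer (centerThompsonAOf τ.range : Set G) := by
  rw [← map_zj_range hτ, MonoidHom.range_eq_map, ← map_inf_centralizer' hτ, top_inf_eq]

theorem zj_char : (zj S).Characteristic := characteristic_iff_map_eq.2 fun φ => by
  rw [zj, map_inf_centralizer' φ.injective, CfsgLib.PLocal.map_equiv_thompsonA]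

theorem jt_char : (jt S).Characteristic := characteristic_iff_map_eq.2 fun φ => by
  have h := map_inf_centralizer' (f := φ.toMonoidHom) φ.injective (⊤ : Subgroup S) (zj S)
  rwa [top_inf_eq, Subgroup.map_top_of_surjective φ.toMonoidHom φ.surjective, top_inf_eq,
    characteristic_iff_map_eq.1 zj_char φ] at h

theorem inf_char {A B : Subgroup S} (hA : A.Characteristic) (hB : B.Characteristic) : (A ⊓ B).Characteristic :=
  characteristic_iff_map_eq.2 fun φ => by
    rw [map_inf _ _ φ.toMonoidHom φ.injective, characteristic_iff_map_eq.1 hA φ, characteristic_iff_map_eq.1 hB φ]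

theorem map_powerClosure (f : S →* S') (p : ℕ) (H : Subgroup S) :
    (powerClosure p 1 H).map f = powerClosure p 1 (H.map f) := by
  rw [powerClosure, powerClosure, MonoidHom.map_closure]
  congr 1
  ext y
  constructor
  · rintro ⟨_, ⟨x, hx, rfl⟩, rfl⟩
    exact ⟨f x, ⟨x, hx, rfl⟩, map_pow f x _⟩
  · rintro ⟨_, ⟨x, hx, rfl⟩, rfl⟩
    exact ⟨_, ⟨x, hx, rfl⟩, map_pow f x _⟩

/-- A characteristic subgroup stays characteristic inside the whole group. -/
theorem char_subgroupOf_top {T X : Subgroup S} (hT : T = ⊤) (hX : X.Characteristic) :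
    (X.subgroupOf T).Characteristic := by
  subst hT
  refine characteristic_iff_map_le.2 fun φ => ?_
  rintro _ ⟨x, hx, rfl⟩
  have h1 : ((topEquiv.symm.trans (φ.trans topEquiv)) (x : S) : S) ∈ X :=
    characteristic_iff_map_le.1 hX _ ⟨(x : S), hx, rfl⟩
  exact h1

variable [Finite S]

theorem center_le_zj : Subgroup.center S ≤ zj S :=
  le_inf ((center_le_centralizer _).trans centralizer_le_of_thompsonA) (center_le_centralizer _)

theorem center_le_jt : Subgroup.center S ≤ jt S := center_le_centralizer _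

theorem thompsonA_le_jt : thompsonSubgroupA S ≤ jt S :=
  le_centralizer_iff.1 inf_le_right

/-- A subgroup holding a centrally large subgroup. -/
theorem maxCentralProduct_of_le {T R : Subgroup S} (hR : IsCentrallyLarge R) (hRT : R ≤ T) :
    maxCentralProduct ↥T = maxCentralProduct S := by
  have hinv : ∀ X : Subgroup ↥T, Nat.card ↥X * Nat.card (Subgroup.center ↥X) =
      Nat.card ↥(X.map T.subtype) * Nat.card (Subgroup.center ↥(X.map T.subtype)) := fun X => by
    obtain ⟨h1, h2, -⟩ := card_invariants_eq 2 T.subtype T.subtype_injective X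
    rw [card_center_eq, card_center_eq, h1, h2]
  refine le_antisymm (csSup_le ⟨_, ⊥, rfl⟩ ?_) ?_
  · rintro k ⟨X, rfl⟩
    rw [hinv]
    exact le_csSup bddAbove_centralProduct ⟨_, rfl⟩
  · rw [← hR]
    refine le_csSup bddAbove_centralProduct ⟨R.subgroupOf T, ?_⟩
    rw [hinv, subgroupOf_map_subtype, inf_eq_left.2 hRT]

variable [Finite S'] (e : S ≃* S')

theorem cl_map {R : Subgroup S} (hR : IsCentrallyLarge R) : IsCentrallyLarge (R.map e.toMonoidHom) := by
  have hinv : ∀ X : Subgroup S, Nat.card ↥X * Nat.card (Subgroup.center ↥X) =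
      Nat.card ↥(X.map e.toMonoidHom) * Nat.card (Subgroup.center ↥(X.map e.toMonoidHom)) := fun X => by
    obtain ⟨h1, h2, -⟩ := card_invariants_eq 2 e.toMonoidHom e.injective X
    rw [card_center_eq, card_center_eq, h1, h2]
  show _ = maxCentralProduct S'
  rw [← hinv]
  refine le_antisymm (le_csSup bddAbove_centralProduct ⟨R.map e.toMonoidHom, (hinv R).symm⟩) (csSup_le ⟨_, ⊥, rfl⟩ ?_)
  rintro k ⟨Y, rfl⟩
  have h1 := hinv (Y.comap e.toMonoidHom)
  rw [map_comap_eq_self_of_surjective (f := e.toMonoidHom) e.surjective] at h1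
  rw [← h1]
  exact (le_csSup bddAbove_centralProduct ⟨_, rfl⟩).trans_eq hR.symm

theorem mcl_map {R : Subgroup S} (hR : IsMinimalCentrallyLarge R) :
    IsMinimalCentrallyLarge (R.map e.toMonoidHom) := by
  refine ⟨cl_map e hR.1, fun Y hY hYl => ?_⟩
  have h1 : Y.map e.symm.toMonoidHom = R := by
    refine hR.2 _ ?_ (cl_map e.symm hYl)
    rintro _ ⟨y, hy, rfl⟩
    obtain ⟨x, hx, rfl⟩ := hY hy
    show e.symm (e x) ∈ R
    rwa [e.symm_apply_apply]
  rw [← h1, Subgroup.map_map]
  convert (map_id Y).symm using 2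
  ext y
  simp

theorem map_mclJoin_le : (minimalCentrallyLargeJoin S).map e.toMonoidHom ≤ minimalCentrallyLargeJoin S' := by
  rw [map_le_iff_le_comap]
  exact sSup_le fun R hR => map_le_iff_le_comap.1 (le_sSup (mcl_map e hR))

theorem map_mclJoin : (minimalCentrallyLargeJoin S).map e.toMonoidHom = minimalCentrallyLargeJoin S' := by
  refine le_antisymm (map_mclJoin_le e) fun y hy => ⟨e.symm y, map_mclJoin_le e.symm ⟨y, hy, rfl⟩, ?_⟩
  exact e.apply_symm_apply y

end General

section Main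

variable {p : ℕ} [hp : Fact p.Prime] {S : Type u} [Group S] [Finite S]

theorem Situ.setup {G : Type*} [Group G] [Finite G] {τ : S →* G} (hs : Situ p τ) :
    (⁅centerThompsonAOf τ.range, τ.range⁆ ⊓ (τ.range ⊓ centralizer (τ.range : Set G))).Normal ∨
        (τ.range ⊓ centralizer (centerThompsonAOf τ.range : Set G)).Normal := by
  obtain ⟨-, ⟨P, hP⟩, hC, hM, K, hK, F, iF, iF', n, -, hF, ⟨e⟩⟩ := hs
  haveI : CharP F p := charP_of_card_eq_prime_pow hF
  have c : CfsgLib.LocalEven.EPSL.Setup P (e.toMonoidHom.comp (QuotientGroup.mk' K)) n :=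
    ⟨e.surjective.comp (QuotientGroup.mk'_surjective K), hF, hC, by rw [hP]; exact hM⟩
  have h := c.commutator_central
  simp only [CfsgLib.LocalEven.EPSL.zJ, CfsgLib.LocalEven.EPSL.zS, hP] at h
  exact h

theorem Situ.setup_pow {G : Type*} [Group G] [Finite G] {τ : S →* G} (hs : Situ p τ) :
    (powerClosure p 1 (τ.range ⊓ centralizer (τ.range : Set G))).Normal ∨
        (τ.range ⊓ centralizer (centerThompsonAOf τ.range : Set G)).Normal := by
  obtain ⟨-, ⟨P, hP⟩, hC, hM, K, hK, F, iF, iF', n, -, hF, ⟨e⟩⟩ := hs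
  haveI : CharP F p := charP_of_card_eq_prime_pow hF
  have c : CfsgLib.LocalEven.EPSL.Setup P (e.toMonoidHom.comp (QuotientGroup.mk' K)) n :=
    ⟨e.surjective.comp (QuotientGroup.mk'_surjective K), hF, hC, by rw [hP]; exact hM⟩
  have h := c.pow_central
  simp only [CfsgLib.LocalEven.EPSL.zJ, CfsgLib.LocalEven.EPSL.zS, hP] at h
  exact h

theorem Situ.pushing [Nontrivial S] {G : Type*} [Group G] {τ : S →* G} (hs : Situ p τ) :
    IsPushingUpSituation p τ.range := by
  obtain ⟨hτ, hP, hC, hM, K, hK, F, iF, iF', n, -, hF, he⟩ := hs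
  haveI : Nontrivial G := hτ.nontrivial
  exact ⟨bot_ne_top.symm, hP, hC, hM, K, hK, F, iF, iF', n, hF, he⟩

theorem situ_of_pushing {G : Type*} [Group G] {P : Subgroup G} (e : S ≃* ↥P) (h : IsPushingUpSituation p P) :
    Situ p (P.subtype.comp (e : S ≃* ↥P).toMonoidHom) := by
  obtain ⟨-, hP, hC, hM, K, hK, F, iF, iF', n, hF, he⟩ := h
  have hr : (P.subtype.comp (e : S ≃* ↥P).toMonoidHom).range = P := by
    rw [MonoidHom.range_comp, MonoidHom.range_eq_top.2 e.surjective, ← MonoidHom.range_eq_map, range_subtype]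
  refine ⟨P.subtype_injective.comp e.injective, by rwa [hr], hC, by rwa [hr], K, hK, F, iF, iF', n, ?_, hF, he⟩
  by_contra hn
  have := Fintype.one_lt_card (α := F)
  rw [hF, show n = 0 by omega, pow_zero] at this
  omega

variable [Nontrivial S] (hS : IsPGroup p S)
include hS

theorem center_ne_bot : Subgroup.center S ≠ ⊥ := by
  haveI := hS.center_nontrivial
  exact (Subgroup.nontrivial_iff_ne_bot _).1 this

theorem jt_ne_bot : jt S ≠ ⊥ := fun h => center_ne_bot hS (eq_bot_iff.2 (center_le_jt.trans h.le))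

omit hS in
theorem jt_subgroupOf_char : ((jt S).subgroupOf (jt S)).Characteristic := by
  rw [subgroupOf_self]; infer_instance

/-- `[Z(J(S)),S] ≠ 1`. -/
theorem pair_of_zj (h : ¬ zj S ≤ Subgroup.center S) :
    PairFor p S (⁅zj S, ⊤⁆ ⊓ Subgroup.center S) (jt S) := by
  haveI := zj_char (S := S)
  haveI hn : (⁅zj S, (⊤ : Subgroup S)⁆).Normal := inferInstance
  refine ⟨CfsgLib.PGroups.inf_center_ne_bot hS fun e => h (le_center_iff.2 (commutator_eq_bot_iff_le_centralizer.1 e)),
    jt_ne_bot hS, inf_char ?_ inferInstance, jt_char, inf_le_right, le_rfl, jt_subgroupOf_char, fun G _ _ τ hs => ?_⟩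
  · exact characteristic_iff_map_eq.2 fun φ => by
      rw [map_commutator, characteristic_iff_map_eq.1 zj_char φ, Subgroup.map_top_of_surjective φ.toMonoidHom φ.surjective]
  · rw [map_inf _ _ τ hs.1, map_commutator, map_zj_range hs.1, map_jt_range hs.1, map_center' hs.1,
      ← MonoidHom.range_eq_map]
    exact hs.setup

/-- The centre is not elementary. -/
theorem pair_of_pow {z : S} (hz : z ∈ Subgroup.center S) (hzp : z ^ p ≠ 1) :
    PairFor p S (powerClosure p 1 (Subgroup.center S)) (jt S) := by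
  refine ⟨fun e => hzp ?_, jt_ne_bot hS, characteristic_iff_map_eq.2 fun φ => ?_, jt_char, ?_, le_rfl,
    jt_subgroupOf_char, fun G _ _ τ hs => ?_⟩
  · have h1 : z ^ p ∈ powerClosure p 1 (Subgroup.center S) := subset_closure ⟨z, hz, by rw [pow_one]⟩
    rwa [e, mem_bot] at h1
  · rw [map_powerClosure, characteristic_iff_map_eq.1 inferInstance φ]
  · refine (closure_le _).2 ?_
    rintro _ ⟨x, hx, rfl⟩
    exact pow_mem hx _
  · rw [map_powerClosure, map_jt_range hs.1, map_center' hs.1]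
    exact hs.setup_pow

omit hS in
/-- An abelian group. -/
theorem pair_of_comm (h : IsMulCommutative S) : PairFor p S ⊤ ⊤ := by
  have hc : Subgroup.center S = ⊤ := eq_top_iff.2 fun x _ => Subgroup.mem_center_iff.2 fun y => h.is_comm.comm y x
  have hj : jt S = ⊤ := eq_top_iff.2 (hc.ge.trans center_le_jt)
  refine ⟨top_ne_bot, top_ne_bot, inferInstance, inferInstance, hc.ge, hj.ge, char_subgroupOf_top hj inferInstance,
    fun G _ _ τ hs => Or.inl ?_⟩
  obtain ⟨hτ, ⟨P, hP⟩, hC, -⟩ := hs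
  rw [← MonoidHom.range_eq_map]
  have h1 : Cfsg.pCore p G ≤ τ.range := hP ▸ CfsgLib.Core.pCore_le_sylow P
  have h2 : τ.range ≤ Cfsg.pCore p G := by
    refine le_trans ?_ hC
    rintro _ ⟨x, rfl⟩
    refine mem_centralizer_iff.2 fun y hy => ?_
    obtain ⟨w, rfl⟩ := h1 hy
    rw [← map_mul, ← map_mul, h.is_comm.comm w x]
  rw [le_antisymm h2 h1]
  exact CfsgLib.Core.normal_pCore p G

/-- A nonabelian minimal centrally large subgroup. -/
theorem pair_of_mcl (hj : jt S = ⊤) {Q : Subgroup S} (hQ : IsMinimalCentrallyLarge Q)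
    (hQc : ¬ IsMulCommutative Q) :
    PairFor p S (Subgroup.center S ⊓ ⁅Q, Q⁆) (minimalCentrallyLargeJoin S) := by
  haveI hD := PushCL.commutator_characteristic hQ
  have hD0 : ⁅Q, Q⁆ ≠ ⊥ := fun e =>
    hQc (Subgroup.le_centralizer_iff_isMulCommutative.1 (commutator_eq_bot_iff_le_centralizer.1 e))
  have hQ0 : minimalCentrallyLargeJoin S ≠ ⊥ := by
    intro e
    refine hD0 (eq_bot_iff.2 ((commutator_mono ?_ ?_).trans (commutator_bot_left (⊥ : Subgroup S)).le))
    all_goals exact (le_sSup (show Q ∈ {R : Subgroup S | IsMinimalCentrallyLarge R} from hQ)).trans e.le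
  have hJc : (minimalCentrallyLargeJoin S).Characteristic :=
    characteristic_iff_map_eq.2 fun φ => map_mclJoin φ
  refine ⟨inf_comm (Subgroup.center S) ⁅Q, Q⁆ ▸ CfsgLib.PGroups.inf_center_ne_bot hS hD0, hQ0,
    inf_char inferInstance hD, hJc, inf_le_left, hj ▸ le_top, char_subgroupOf_top hj hJc, fun G _ _ τ hs => ?_⟩
  have h := PushCL.commutator_inf_or_join_normal hs.pushing (mcl_map (MonoidHom.ofInjective hs.1) hQ)
  rw [← map_mclJoin (MonoidHom.ofInjective hs.1), ← map_commutator, Subgroup.map_map, Subgroup.map_map] at h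
  rw [map_inf _ _ τ hs.1, map_center' hs.1]
  exact h

/-- All minimal centrally large subgroups are abelian. -/
theorem res_of_abelian (hz : zj S ≤ Subgroup.center S) (hZ : ∀ z ∈ Subgroup.center S, z ^ p = 1)
    (hab : ∀ Q : Subgroup S, IsMinimalCentrallyLarge Q → IsMulCommutative Q) :
    Res p (⊤ : Subgroup S) ∧ om p (⊤ : Subgroup S) = Subgroup.center S ∧ thompsonSubgroupA S = ⊤ ∧
      (∀ A, MaxAb p (⊤ : Subgroup S) A ↔ A ∈ maxAbelianSubgroups S) ∧
      (∀ A, MaxAb p (⊤ : Subgroup S) A → IsCentrallyLarge A) ∧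
      mu p (⊤ : Subgroup S) = Nat.card S * Nat.card ↥(Subgroup.center S) := by
  have hom : om p (⊤ : Subgroup S) = Subgroup.center S := by
    ext x
    exact ⟨fun hx => Subgroup.mem_center_iff.2 fun s => hx.2.1 s trivial,
      fun hx => ⟨trivial, fun s _ => Subgroup.mem_center_iff.1 hx s, hZ x hx⟩⟩
  have hmu : mu p (⊤ : Subgroup S) = Nat.card S * Nat.card ↥(Subgroup.center S) := by
    rw [mu, hom, card_top]
  have hjt : jt S = ⊤ := eq_top_iff.2 fun x _ => mem_centralizer_iff.2 fun y hy =>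
    (Subgroup.mem_center_iff.1 (hz hy) x).symm
  obtain ⟨X, hX⟩ := exists_isCentrallyLarge (G := S)
  obtain ⟨Q, -, hQ⟩ := exists_isMinimalCentrallyLarge_le hX
  have hQA := (mcl_iff_maxAbelian (hab Q hQ) hQ Q).1 hQ
  obtain ⟨hJ, hJle⟩ := cl_sup_thompsonA hQ.1
  rw [sup_eq_right.2 (show Q ≤ thompsonSubgroupA S from le_sSup hQA)] at hJ hJle
  have hJtop : thompsonSubgroupA S = ⊤ := eq_top_iff.2 (hjt.ge.trans hJle)
  have hmax : maxCentralizerProduct S = mu p (⊤ : Subgroup S) := by
    rw [← maxCentralProduct_eq, hmu, ← (show _ = maxCentralProduct S from hJ), card_center_eq, hJtop, card_top,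
      ← center_eq_inf]
  have hQsq : Nat.card Q * Nat.card Q = mu p (⊤ : Subgroup S) := hmax ▸ (cl_abelian_card (hab Q hQ) hQ.1).symm
  have hiff : ∀ A, MaxAb p (⊤ : Subgroup S) A ↔ A ∈ maxAbelianSubgroups S := by
    intro A
    constructor
    · intro hA
      refine ⟨Subgroup.le_centralizer_iff_isMulCommutative.1 hA.comm, fun B hB => ?_⟩
      exact (hQA.2 B hB).trans (Nat.mul_self_inj.1 (hQsq.trans hA.card.symm)).le
    · intro hA
      refine ⟨le_top, LocalEvenB.le_centralizer_iff_isMulCommutative.1 hA.1, ?_⟩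
      rw [le_antisymm (hQA.2 A hA.1) (hA.2 Q hQA.1), hQsq]
  have hcl : ∀ A, MaxAb p (⊤ : Subgroup S) A → IsCentrallyLarge A := fun A hA =>
    ((mcl_iff_maxAbelian (hab Q hQ) hQ A).2 ((hiff A).1 hA)).1
  refine ⟨⟨hS.to_subgroup _, fun x _ hx => hZ x (Subgroup.mem_center_iff.2 fun s => hx s trivial), fun X _ => ?_,
    fun H hH => hJtop ▸ sSup_le fun A hA => hH A ((hiff A).2 hA), fun X hX => ?_⟩, hom, hJtop, hiff, hcl, hmu⟩
  · rw [top_inf_eq, ← hmax]
    exact cdMeasure_le X
  · have hXl : IsCentrallyLarge X := by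
      show _ = maxCentralProduct S
      rw [card_center_eq, hX.card, ← hmax, maxCentralProduct_eq]
    obtain ⟨R, hR, hRm⟩ := exists_isMinimalCentrallyLarge_le hXl
    exact ⟨R, (hiff R).2 ((mcl_iff_maxAbelian (hab Q hQ) hQ R).1 hRm), hR⟩

omit hS [Nontrivial S] in
theorem szero_char : (szero p (⊤ : Subgroup S)).Characteristic := characteristic_iff_map_eq.2 fun φ => by
  rw [map_szero, Subgroup.map_top_of_surjective φ.toMonoidHom φ.surjective]

/-- The division into cases. -/
theorem pair_or_exceptional :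
    (∃ S1 S2, PairFor p S S1 S2 ∧ maxCentralProduct ↥S2 = maxCentralProduct ↥(jt S)) ∨
      (¬ IsMulCommutative S ∧ zj S ≤ Subgroup.center S ∧ (∀ z ∈ Subgroup.center S, z ^ p = 1) ∧
        (∀ Q : Subgroup S, IsMinimalCentrallyLarge Q → IsMulCommutative Q) ∧
        szero p (⊤ : Subgroup S) = ⊥) := by
  by_cases hz : zj S ≤ Subgroup.center S
  swap
  · exact Or.inl ⟨_, _, pair_of_zj hS hz, rfl⟩
  by_cases hZ : ∀ z ∈ Subgroup.center S, z ^ p = 1
  swap
  · push Not at hZ
    obtain ⟨z, hz1, hz2⟩ := hZ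
    exact Or.inl ⟨_, _, pair_of_pow hS hz1 hz2, rfl⟩
  have hjt : jt S = ⊤ := eq_top_iff.2 fun x _ => mem_centralizer_iff.2 fun y hy =>
    (Subgroup.mem_center_iff.1 (hz hy) x).symm
  obtain ⟨X, hX⟩ := exists_isCentrallyLarge (G := S)
  have hmax : ∀ {T R : Subgroup S}, IsCentrallyLarge R → R ≤ T →
      maxCentralProduct ↥T = maxCentralProduct ↥(jt S) := fun hR hRT => by
    rw [maxCentralProduct_of_le hR hRT, maxCentralProduct_of_le hX (hjt ▸ le_top)]
  by_cases hc : IsMulCommutative S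
  · exact Or.inl ⟨_, _, pair_of_comm hc, hmax hX le_top⟩
  by_cases hab : ∀ Q : Subgroup S, IsMinimalCentrallyLarge Q → IsMulCommutative Q
  swap
  · push Not at hab
    obtain ⟨Q, hQ, hQc⟩ := hab
    exact Or.inl ⟨_, _, pair_of_mcl hS hjt hQ hQc, hmax hQ.1 (le_sSup hQ)⟩
  by_cases h0 : szero p (⊤ : Subgroup S) = ⊥
  · exact Or.inr ⟨hc, hz, hZ, hab, h0⟩
  obtain ⟨hr, hom, -, -, hcl, -⟩ := res_of_abelian hS hz hZ hab
  haveI := szero_char (p := p) (S := S)
  obtain ⟨S1, S2, h1, h2, h3, h4, h5, ⟨A, hA, hAS⟩, h7⟩ := hr.exists_pair (by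
    rw [hom, inf_comm]; exact CfsgLib.PGroups.inf_center_ne_bot hS h0)
  exact Or.inl ⟨S1, S2, ⟨h1, h2, h3, h4, h5, hjt ▸ le_top, char_subgroupOf_top hjt h4, h7⟩, hmax (hcl A hA) hAS⟩

end Main

end CfsgLib.PushFam
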