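import Cfsg.Agent.Lib.LocalEven.PushUp.Setup

/-!
# Pushing-up families: the local setup

`Bad`: the standing hypotheses of pushing up for one group, with the requirement that the centre of `S` is
not centralized by `G` in place of the absence of characteristic normal subgroups.
-/

set_option autoImplicit false
set_option linter.all false

namespace CfsgLib.PushFam

open Subgroup CfsgLib.PushUp
open scoped commutatorElement

variable {W : Type*} [Group W]

/-- The standing hypotheses for one group. -/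
structure Bad (p : ℕ) (G S Q M : Subgroup W) : Prop where
  SG : S ≤ G
  MG : M ≤ G
  SM : S ≤ M
  Mne : M ≠ G
  pS : IsPGroup p S
  syl : ∀ H : Subgroup W, H ≤ G → S ≤ H → ∀ D : Subgroup W, D ≤ H → IsPGroup p D → ∃ h ∈ H, D ≤ cj h S
  huniq : ∀ H : Subgroup W, S ≤ H → H ≤ G → H ≠ G → H ≤ M
  QS : Q ≤ S
  SQ : ¬ S ≤ Q
  Qn : Stable G Q
  Qmax : ∀ D : Subgroup W, D ≤ S → Stable G D → D ≤ Q
  selfC : G ⊓ centralizer (Q : Set W) ≤ Q
  ti : ∀ g ∈ G, g ∉ M → ∀ x ∈ S, g⁻¹ * x * g ∈ S → x ∈ Q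
  ab : ∀ x ∈ S, ∀ y ∈ S, ⁅x, y⁆ ∈ Q
  pw : ∀ x ∈ S, x ^ p ∈ Q
  nfix : ¬ om p S ≤ centralizer (G : Set W)

variable {p : ℕ} [Fact p.Prime] {G S Q M : Subgroup W}

theorem Bad.stable_cj (h : Bad p G S Q M) {g : W} (hg : g ∈ G) : cj g S ≤ G := by
  intro x hx
  have := mul_mem (mul_mem hg (h.SG (mem_cj.1 hx))) (inv_mem hg)
  simpa [mul_assoc] using this

theorem Bad.Q_le_cj (h : Bad p G S Q M) {g : W} (hg : g ∈ G) : Q ≤ cj g S :=
  fun _ hx => mem_cj.2 (h.QS (h.Qn.inv hg hx))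

theorem Bad.exists_out (h : Bad p G S Q M) : ∃ g ∈ G, g ∉ M := by
  by_contra hc
  push Not at hc
  exact h.Mne (le_antisymm h.MG hc)

variable [Finite W]

/-- An element carrying `S` into itself lies in `M`. -/
theorem Bad.mem_M_of_normalizes (h : Bad p G S Q M) {g : W} (hg : g ∈ G)
    (hS : ∀ x ∈ S, g * x * g⁻¹ ∈ S) : g ∈ M := by
  by_contra hc
  refine h.SQ fun x hx => ?_
  have he := cj_eq_of_forall hS
  exact h.ti g hg hc x hx (mem_cj.1 (he.ge hx))

/-- `G` is generated by `S` and a conjugate outside `M`. -/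
theorem Bad.gen (h : Bad p G S Q M) {g : W} (hg : g ∈ G) (hgM : g ∉ M) : S ⊔ cj g S = G := by
  by_contra hne
  have hle := h.huniq _ le_sup_left (sup_le h.SG (h.stable_cj hg)) hne
  obtain ⟨m, hm, hgm⟩ := h.syl M h.MG h.SM (cj g S) (le_sup_right.trans hle) (h.pS.map _)
  have h1 : ∀ x ∈ S, (m⁻¹ * g) * x * (m⁻¹ * g)⁻¹ ∈ S := fun x hx => by
    simpa [mul_assoc] using mem_cj.1 (hgm (conj_mem_cj hx))
  exact hgM (by simpa using M.mul_mem hm (h.mem_M_of_normalizes (mul_mem (inv_mem (h.MG hm)) hg) h1))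

/-- A `G`-stable subgroup containing `S` is `G`. -/
theorem Bad.eq_of_stable (h : Bad p G S Q M) {H : Subgroup W} (hH : H ≤ G) (hst : Stable G H)
    (hS : S ≤ H) : H = G := by
  obtain ⟨g, hg, hgM⟩ := h.exists_out
  refine le_antisymm hH ?_
  rw [← h.gen hg hgM]
  refine sup_le hS fun x hx => ?_
  have := hst g hg _ (hS (mem_cj.1 hx))
  simpa [mul_assoc] using this

/-- A `G`-stable subgroup of `M` meets `S` in `Q`. -/
theorem Bad.inf_le_Q (h : Bad p G S Q M) {H : Subgroup W} (hH : H ≤ M) (hst : Stable G H) :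
    H ⊓ S ≤ Q := by
  obtain ⟨D, hD⟩ : ∃ D, D = H ⊓ S := ⟨_, rfl⟩
  rw [← hD]
  refine h.Qmax D (hD ▸ inf_le_right) ?_
  obtain ⟨NG, hNG⟩ : ∃ NG, NG = G ⊓ normalizer (D : Set W) := ⟨_, rfl⟩
  have hSN : S ≤ NG := by
    rw [hNG]
    refine le_inf h.SG (le_normalizer_iff.2 fun s hs x hx => ?_)
    rw [hD] at hx ⊢
    exact ⟨hst s (h.SG hs) x hx.1, S.mul_mem (S.mul_mem hs hx.2) (S.inv_mem hs)⟩
  intro g hg x hx
  by_cases hN : NG = G
  · have : g ∈ normalizer (D : Set W) := (hNG ▸ hN.ge hg : g ∈ G ⊓ normalizer (D : Set W)).2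
    exact (mem_normalizer_iff.1 this x).1 hx
  exfalso
  have hNM := h.huniq _ hSN (hNG ▸ inf_le_left) hN
  obtain ⟨k, hk, hkM⟩ := h.exists_out
  have hle : cj k D ≤ H ⊔ S := by
    rintro _ ⟨y, hy, rfl⟩
    exact mem_sup_left (hst k hk y (hD ▸ hy : y ∈ H ⊓ S).1)
  obtain ⟨m, hm, hkm⟩ := h.syl (H ⊔ S) (sup_le (hH.trans h.MG) h.SG) le_sup_right _ hle
    ((h.pS.to_le (hD ▸ inf_le_right)).map _)
  have hmM : m ∈ M := sup_le hH h.SM hm
  have hmk : m⁻¹ * k ∈ normalizer (D : Set W) := by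
    have he : cj (m⁻¹ * k) D = D := cj_eq_of_forall fun y hy => by
      rw [hD] at hy ⊢
      refine ⟨hst _ (mul_mem (inv_mem (h.MG hmM)) hk) y hy.1, ?_⟩
      simpa [mul_assoc] using mem_cj.1 (hkm (conj_mem_cj (hD ▸ hy : y ∈ D)))
    rw [mem_normalizer_iff]
    refine fun y => ⟨fun hy => he.le (conj_mem_cj hy), fun hy => ?_⟩
    have := mem_cj.1 (he.ge hy)
    simpa [mul_assoc] using this
  exact hkM (by simpa using M.mul_mem hmM (hNM (hNG.ge ⟨G.mul_mem (G.inv_mem (h.MG hmM)) hk, hmk⟩)))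

theorem Bad.om_le_Q (h : Bad p G S Q M) : om p S ≤ Q := fun x hx =>
  h.selfC ⟨h.SG hx.1, mem_centralizer_iff.2 fun q hq => hx.2.1 q (h.QS hq)⟩

theorem Bad.zc_le (h : Bad p G S Q M) : zc p G S ≤ Q ⊓ centralizer (Q : Set W) := by
  refine (closure_le _).2 ?_
  rintro x ⟨g, hg, hx⟩
  refine ⟨?_, mem_centralizer_iff.2 fun q hq => ?_⟩
  · simpa [mul_assoc] using h.Qn g hg _ (h.om_le_Q hx)
  · have h1 := hx.2.1 _ (h.QS (h.Qn.inv hg hq))
    calc q * x = g * ((g⁻¹ * q * g) * (g⁻¹ * x * g)) * g⁻¹ := by group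
      _ = g * ((g⁻¹ * x * g) * (g⁻¹ * q * g)) * g⁻¹ := by rw [h1]
      _ = x * q := by group

theorem Bad.zc_le_Q (h : Bad p G S Q M) : zc p G S ≤ Q := h.zc_le.trans inf_le_left

theorem Bad.zc_le_S (h : Bad p G S Q M) : zc p G S ≤ S := h.zc_le_Q.trans h.QS

theorem Bad.zc_comm (h : Bad p G S Q M) {x y : W} (hx : x ∈ zc p G S) (hy : y ∈ Q) : x * y = y * x :=
  (mem_centralizer_iff.1 (h.zc_le hx).2 y hy).symm

theorem Bad.zc_pow (h : Bad p G S Q M) : ∀ x ∈ zc p G S, x ^ p = 1 := by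
  intro x hx
  induction hx using closure_induction with
  | mem y hy =>
    obtain ⟨g, -, hy⟩ := hy
    calc y ^ p = g * (g⁻¹ * y * g) ^ p * g⁻¹ := by rw [← conj_pow]; group
      _ = 1 := by rw [hy.2.2]; group
  | one => exact one_pow _
  | mul a b ha hb ha' hb' =>
    rw [(show Commute a b from h.zc_comm ha (h.zc_le_Q hb)).mul_pow, ha', hb', one_mul]
  | inv a _ ha => rw [inv_pow, ha, inv_one]

theorem Bad.zc_centralizer (h : Bad p G S Q M) :
    zc p G S ⊓ centralizer (S : Set W) = om p S :=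
  le_antisymm (fun x hx => ⟨h.zc_le_S hx.1, fun s hs => mem_centralizer_iff.1 hx.2 s hs, h.zc_pow x hx.1⟩)
    (fun x hx => ⟨om_le_zc G S hx, mem_centralizer_iff.2 fun s hs => hx.2.1 s hs⟩)

theorem Bad.S_ne_bot (h : Bad p G S Q M) : S ≠ ⊥ := fun e => h.SQ (e ▸ bot_le)

theorem Bad.om_ne_bot (h : Bad p G S Q M) : om p S ≠ ⊥ := by
  haveI : Nontrivial S := (Subgroup.nontrivial_iff_ne_bot S).2 h.S_ne_bot
  haveI := h.pS.center_nontrivial
  obtain ⟨z, hz⟩ := exists_prime_orderOf_dvd_card' (G := Subgroup.center ↥S) p (by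
    obtain ⟨n, hn⟩ := (h.pS.to_subgroup (Subgroup.center ↥S)).exists_card_eq
    rw [hn]
    refine dvd_pow_self p fun e => ?_
    subst e
    rw [pow_zero] at hn
    exact not_subsingleton (Subgroup.center ↥S) (Nat.card_eq_one_iff_unique.1 hn).1)
  intro e
  have : (((z : ↥S) : W)) ∈ om p S :=
    ⟨(z : ↥S).2, fun s hs => congrArg Subtype.val (Subgroup.mem_center_iff.1 z.2 ⟨s, hs⟩), by
      have := pow_orderOf_eq_one z
      rw [hz] at this
      exact congrArg (fun u : Subgroup.center ↥S => (((u : ↥S)) : W)) this⟩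
  rw [e, mem_bot] at this
  have hz1 : z = 1 := Subtype.ext (Subtype.ext this)
  rw [hz1, orderOf_one] at hz
  exact (Fact.out : p.Prime).one_lt.ne hz

theorem Bad.cz_stable (_h : Bad p G S Q M) :
    Stable G (G ⊓ centralizer (zc p G S : Set W)) := by
  rintro g hg x ⟨hxG, hxC⟩
  refine ⟨G.mul_mem (G.mul_mem hg hxG) (G.inv_mem hg), mem_centralizer_iff.2 fun z hz => ?_⟩
  have h1 := mem_centralizer_iff.1 hxC _ ((zc_stable G S).inv hg hz)
  calc z * (g * x * g⁻¹) = g * ((g⁻¹ * z * g) * x) * g⁻¹ := by group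
    _ = g * (x * (g⁻¹ * z * g)) * g⁻¹ := by rw [h1]
    _ = g * x * g⁻¹ * z := by group

/-- The centralizer of the module lies in `M`. -/
theorem Bad.cz_le_M (h : Bad p G S Q M) : G ⊓ centralizer (zc p G S : Set W) ≤ M := by
  by_contra hc
  obtain ⟨H, hH⟩ : ∃ H, H = S ⊔ (G ⊓ centralizer (zc p G S : Set W)) := ⟨_, rfl⟩
  have hHG : H = G := by
    by_contra hne
    exact hc ((le_sup_right : G ⊓ centralizer (zc p G S : Set W) ≤ _).trans
      (hH ▸ h.huniq H (hH ▸ le_sup_left) (hH ▸ sup_le h.SG inf_le_left) hne))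
  refine h.nfix fun x hx => mem_centralizer_iff.2 fun g hg => ?_
  have : H ≤ centralizer ({x} : Set W) := by
    rw [hH]
    refine sup_le (fun s hs => mem_centralizer_singleton_iff.2 (hx.2.1 s hs)) fun c hc' =>
      mem_centralizer_singleton_iff.2 (mem_centralizer_iff.1 hc'.2 x (om_le_zc G S hx)).symm
  rw [hHG] at this
  exact mem_centralizer_singleton_iff.1 (this hg)

/-- `C_S(Z) = Q`. -/
theorem Bad.inf_cz (h : Bad p G S Q M) : S ⊓ centralizer (zc p G S : Set W) = Q :=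
  le_antisymm (fun _ hx => h.inf_le_Q h.cz_le_M h.cz_stable ⟨⟨h.SG hx.1, hx.2⟩, hx.1⟩)
    (le_inf h.QS fun _ hq => mem_centralizer_iff.2 fun _ hz => h.zc_comm hz hq)

end CfsgLib.PushFam
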