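import Cfsg.Agent.Lib.LocalEvenB.PushFam.Endpoint

/-!
# Pushing-up families: all modules lie in all cores
-/

set_option autoImplicit false

namespace CfsgLib.PushFam

open Subgroup CfsgLib.PushUp
open CfsgLib.LocalEvenB.PushCL (phi map_phi)
open scoped commutatorElement

variable {W : Type*} [Group W] [Finite W] {p : ℕ} [Fact p.Prime] {At : Vx W → Subgroup W → Prop} (hs : Sys p At)
include hs

/-- Extension, for every critical pair. -/
theorem Sys.extend' {b : ℕ} (d : DistV At b) {a c a' : Vx W} {T T0 : Subgroup W} (hc : CritV At b a c)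
    (hn : NearV At (b - 1) a a') (ha' : At a' T) (hcT : At c T) (hT0 : At a T0) (hle0 : c.Z ≤ T0) :
    ∃ δ T1, At a T1 ∧ At δ T1 ∧ T1 ⊔ T0 = a.G ∧ CritV At b δ a' :=
  hs.extend d hc hn ha' hcT hT0 hle0 (hs.not_centType d hc)

set_option maxHeartbeats 400000 in
/-- The critical distance is at most two. -/
theorem Sys.dist_le_two {b : ℕ} (d : DistV At b) : b ≤ 2 := by
  by_contra hb
  push Not at hb
  obtain ⟨a0, c0, hc0⟩ := d.exists_crit
  obtain ⟨d0, T00, hn0, hd0, hcT0, -⟩ := hs.pred d hc0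
  obtain ⟨-, Ta, -, -, hTa, hleTa⟩ := hs.pred d (hs.crit_symm d hc0)
  obtain ⟨δ1, E0, hE0, hδ1, -, hc1⟩ := hs.extend' d hc0 hn0 hd0 hcT0 hTa hleTa
  have hadj1 : AdjV At δ1 a0 := ⟨E0, hδ1, hE0⟩
  obtain ⟨z1, hz1, hz1c⟩ := hs.noncentral d hc1 hadj1 hn0
  have hP : ∀ k, 2 ≤ k → k ≤ b → ∃ x w p1 E1, CritV At b x w ∧ NearV At (k - 2) x p1 ∧
      At p1 E1 ∧ At δ1 E1 ∧ E1 ⊔ E0 = δ1.G ∧ NearV At (b - k) a0 w := by
    intro k hk2
    induction k, hk2 using Nat.le_induction with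
    | base =>
      intro _
      obtain ⟨d1, hadj10, hn10⟩ := NearV.head (k := b - 2) (u := d0) (v := a0) (by
        rw [show b - 2 + 1 = b - 1 by omega]; exact hn0.symm)
      obtain ⟨T, hd0', hd1⟩ := hadj10
      have hn1' : NearV At (b - 1) δ1 d1 := by
        have := hadj1.near.trans hn10.symm
        rwa [show 1 + (b - 2) = b - 1 by omega] at this
      have hle : d0.Z ≤ E0 := (d.le_Q hn0.symm (by omega)).trans (hs.Q_le hE0)
      obtain ⟨δ2, E1, hE1, hδ2, ho, hc2⟩ := hs.extend' d hc1 hn1' hd1 hd0' hδ1 hle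
      exact ⟨δ2, d1, δ2, E1, hc2, (NearV.refl hδ2).mono (Nat.zero_le _), hδ2, hE1, ho, hn10.symm⟩
    | succ k hk2 ih =>
      intro hkb
      obtain ⟨x, w, p1, E1, hcx, hxp, hp1, hE1, ho, hw⟩ := ih (by omega)
      obtain ⟨dd, ⟨T, hwT, hddT⟩, hndd⟩ := NearV.head (k := b - (k + 1)) (u := w) (v := a0) (by
        rw [show b - (k + 1) + 1 = b - k by omega]; exact hw.symm)
      have hnx : NearV At (b - 1) x dd := by
        have := ((hxp.trans (AdjV.near ⟨E1, hp1, hE1⟩)).trans hadj1.near).trans hndd.symm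
        exact this.mono (by omega)
      obtain ⟨-, Tx, -, -, hTx, hleTx⟩ := hs.pred d (hs.crit_symm d hcx)
      obtain ⟨δ, T', hxT', hδT', -, hcd⟩ := hs.extend' d hcx hnx hddT hwT hTx hleTx
      refine ⟨δ, dd, p1, E1, hcd, ?_, hp1, hE1, ho, hndd.symm⟩
      exact ((AdjV.near (⟨T', hδT', hxT'⟩ : AdjV At δ x)).trans hxp).mono (by omega)
  obtain ⟨x, w, p1, E1, hcx, hxp, hp1, hE1, ho, hw⟩ := hP b (by omega) le_rfl
  rw [Nat.sub_self] at hw
  obtain ⟨rfl, -⟩ := hw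
  have hxd : NearV At (b - 1) x δ1 := (hxp.trans (AdjV.near ⟨E1, hp1, hE1⟩)).mono (by omega)
  obtain ⟨-, Tx, -, -, hTx, hleTx⟩ := hs.pred d (hs.crit_symm d hcx)
  obtain ⟨x', Tx', hxT', hx'T', -, hcx'⟩ := hs.extend' d hcx hxd hδ1 hE0 hTx hleTx
  have hx'x : AdjV At x' x := ⟨Tx', hx'T', hxT'⟩
  -- the second vertex of the path
  obtain ⟨pp, hxpp, hpp1⟩ := NearV.head (k := b - 3) (u := x) (v := p1) (by
    rwa [show b - 3 + 1 = b - 2 by omega])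
  have hpd : NearV At (b - 2) pp δ1 := (hpp1.trans (AdjV.near ⟨E1, hp1, hE1⟩)).mono (by omega)
  have hpa : NearV At (b - 1) pp a0 := (hpd.trans hadj1.near).mono (by omega)
  obtain ⟨q, ⟨Tq, hppT, hqT⟩, hqa⟩ := NearV.head (k := b - 2) (u := pp) (v := a0) (by
    rwa [show b - 2 + 1 = b - 1 by omega])
  -- the translate over an opposite edge
  obtain ⟨E, hE, hoE⟩ := hs.exists_opp hE0
  obtain ⟨g, hg, hgE⟩ := hs.edge_conj hE0 hE
  have hδ' : At (δ1.tr g) E := hgE ▸ hs.conj hδ1 g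
  have hδq : (δ1.tr g).Z ≤ Tq := by
    refine (d.le_Q (j := b - 1) ?_ (by omega)).trans (hs.Q_le hqT)
    have := (AdjV.near (⟨E, hδ', hE⟩ : AdjV At (δ1.tr g) a0)).trans hqa.symm
    exact this.mono (by omega)
  have hxE0 : x.Z ≤ E0 := (d.le_Q hxd (by omega)).trans (hs.Q_le hδ1)
  have hcommute : ∀ y ∈ (δ1.tr g).Z, ∀ t ∈ pp.Z, t * y = y * t := by
    intro y hy t ht
    obtain ⟨r, hr⟩ : ∃ r, r = ⁅y, t⁆ := ⟨_, rfl⟩
    have hta : t ∈ a0.Q := d.le_Q hpa (by omega) ht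
    have hrE : r ∈ om p E := hr ▸ hs.quad hδ' (hs.Q_le hE hta) hy
    have hrp : r ∈ pp.Z := hr ▸ (hs.Zn hppT).comm_right (hs.T_le hppT (hδq hy)) ht
    have hrE0 : r ∈ om p E0 := by
      obtain ⟨x0, hx0, hx0Q⟩ := SetLike.not_le_iff_exists.1 hcx.nle
      refine hs.fixed hE0 (hxE0 hx0) hx0Q (hs.om_le_Z hE hrE) ?_
      exact (hs.comm_Q hppT hrp (d.le_Q hxpp.near (by omega) hx0)).symm
    have hgen : ∀ {u : Vx W} {T T' : Subgroup W}, T ⊔ T' = u.G → r ∈ om p T → r ∈ om p T' →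
        ∀ s ∈ u.G, s * r = r * s := by
      intro u T T' hopp h1 h2 s hs'
      have hle : u.G ≤ centralizer ({r} : Set W) := hopp.ge.trans (sup_le
        (fun v hv => mem_centralizer_singleton_iff.2 (h1.2.1 v hv))
        (fun v hv => mem_centralizer_singleton_iff.2 (h2.2.1 v hv)))
      exact mem_centralizer_singleton_iff.1 (hle hs')
    have hra : ∀ s ∈ a0.G, s * r = r * s := hgen hoE hrE hrE0
    have hre1 : r ∈ om p E1 := by
      obtain ⟨x2, hx2, hx2Q⟩ := SetLike.not_le_iff_exists.1 hcx'.nle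
      refine hs.fixed hE1 ?_ hx2Q (hs.om_le_Z hδ1 hrE0) ?_
      · exact hs.Q_le hp1 (d.le_Q ((hx'x.near.trans hxp).mono (by omega : 1 + (b - 2) ≤ b - 1)) (by omega) hx2)
      · exact (hs.comm_Q hppT hrp (d.le_Q ((hx'x.near.trans hxpp.near).mono (by omega : 1 + 1 ≤ 2)) (by omega) hx2)).symm
    have hrδ : ∀ s ∈ δ1.G, s * r = r * s := hgen ho hre1 hrE0
    have hgr : g⁻¹ * r * g = r := by rw [mul_assoc, ← hra g hg, inv_mul_cancel_left]
    have ht1 : g⁻¹ * t * g ∈ E0 := hs.Q_le hE0 ((hs.Qn hE0).inv hg hta)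
    have hy1 : g⁻¹ * y * g ∈ δ1.Z := mem_cj.1 hy
    have e1' : g⁻¹ * y * g * (g⁻¹ * t * g) * (g⁻¹ * y * g)⁻¹ * (g⁻¹ * t * g)⁻¹ = r := by
      calc g⁻¹ * y * g * (g⁻¹ * t * g) * (g⁻¹ * y * g)⁻¹ * (g⁻¹ * t * g)⁻¹ = g⁻¹ * ⁅y, t⁆ * g := by
            rw [commutatorElement_def]; group
        _ = r := by rw [← hr, hgr]
    have h2 := hs.mov hδ1 ht1 hy1 (e1'.symm ▸ mem_centralizer_iff.2 fun s hs' => hrδ s hs')
    calc t * y = g * ((g⁻¹ * t * g) * (g⁻¹ * y * g)) * g⁻¹ := by group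
      _ = g * ((g⁻¹ * y * g) * (g⁻¹ * t * g)) * g⁻¹ := by rw [h2]
      _ = y * t := by group
  -- the translate is central
  obtain ⟨Txp, hxT, hppxT⟩ := hxpp
  refine hz1c ?_
  have hcent : CentV a0 (g * z1 * g⁻¹) := by
    have hy : g * z1 * g⁻¹ ∈ (δ1.tr g).Z := conj_mem_cj hz1
    have hyQ : g * z1 * g⁻¹ ∈ pp.Q := hs.mem_Q hppT (hδq hy) fun t ht => hcommute _ hy t ht
    have hle' : a0.Z ≤ Txp := (d.le_Q hpa.symm (by omega)).trans (hs.Q_le hppxT)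
    refine hs.cent_of_opp hE hoE (hs.near_mod hδ' hE hy) ?_
    exact hs.mod_far d (hs.crit_symm d hcx) hxT hle' hE0 hxE0 (hs.Q_le hppxT hyQ)
      fun q hq => hs.near_mod hδ' hE hy q (hs.Q_le hE hq)
  have := hs.cent_conj hE0 (inv_mem hg) hcent
  simpa [mul_assoc] using this

/-- There is no critical distance. -/
theorem Sys.comm_all : ∀ k, CommV At k := by
  by_contra hne
  obtain ⟨b, d⟩ := hs.exists_dist hne
  have hb : b = 2 := le_antisymm (hs.dist_le_two d) (hs.two_le_dist d)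
  subst hb
  obtain ⟨a, c, hc⟩ := d.exists_crit
  obtain ⟨v, ⟨T1, ha, hv⟩, hn⟩ := NearV.head (k := 1) hc.near
  obtain ⟨x, ⟨T2, hv2, hc2⟩, hn2⟩ := NearV.head (k := 0) hn
  obtain ⟨rfl, -⟩ := hn2
  have hnv : NearV At 1 v x := AdjV.near ⟨T2, hv2, hc2⟩
  have hxv : x.Z ≤ v.Q := d.le_Q hnv.symm (by omega)
  have hcQ1 : x.Z ≤ T1 := hxv.trans (hs.Q_le hv)
  have hfull := hs.full d (hs.crit_symm d hc) ha hcQ1
  have haQv : a.Z ≤ v.Q := d.le_Q (AdjV.near ⟨T1, ha, hv⟩) (by omega)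
  have hfull2 := hs.full d hc hc2 (haQv.trans (hs.Q_le hv2))
  obtain ⟨δ, E0, hE0, hδ, -, hcd⟩ := hs.extend' d hc (a' := v) (AdjV.near ⟨T1, ha, hv⟩) hv2 hc2 ha hcQ1
  have hδT1 : δ.Z ≤ T1 := (d.le_Q (AdjV.near ⟨E0, hδ, hE0⟩) (by omega)).trans (hs.Q_le ha)
  obtain ⟨Q, hQ⟩ : ∃ Q, Q = a.Q ⊓ v.Q := ⟨_, rfl⟩
  obtain ⟨X, hX⟩ : ∃ X, X = phi p Q ⊔ om p T1 := ⟨_, rfl⟩
  have hQs : Stable T1 Q := hQ ▸ st_inter (st_mono (hs.Qn ha) (hs.T_le ha)) (st_mono (hs.Qn hv) (hs.T_le hv))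
  have hXs : Stable T1 X := by
    intro g hg y hy
    have e : cj g X ≤ X := by
      rw [hX, cj, Subgroup.map_sup]
      refine sup_le_sup (st_cj_eq (phi_stable hQs) hg).le ?_
      rintro _ ⟨z, hz, rfl⟩
      show g * z * g⁻¹ ∈ _
      rw [hz.2.1 g hg, mul_inv_cancel_right]
      exact hz
    exact e (conj_mem_cj hy)
  have hdec : ∀ y ∈ v.Q, ∃ c0 ∈ x.Z, ∃ q ∈ Q, c0 * q = y := by
    intro y hy
    obtain ⟨c0, hc0, q, hq, e⟩ := mem_sup_mul ((hcQ1.trans (hs.T_le ha)).trans (st_le_normalizer (hs.Qn ha)))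
      (hfull.ge (hs.Q_le hv hy))
    refine ⟨c0, hc0, q, ?_, e⟩
    rw [hQ]
    refine ⟨hq, ?_⟩
    have h1 := v.Q.mul_mem (v.Q.inv_mem (hxv hc0)) hy
    rwa [← e, inv_mul_cancel_left] at h1
  have hcq : ∀ c0 ∈ x.Z, ∀ q ∈ Q, ⁅c0, q⁆ ∈ X := by
    intro c0 hc0 q hq
    have hq' : q ∈ a.Q ⊓ v.Q := hQ ▸ hq
    obtain ⟨z, hz, t, ht, e⟩ := mem_sup_mul (((haQv.trans (hs.Q_le hv2)).trans (hs.T_le hc2)).trans
      (st_le_normalizer (hs.Qn hc2))) (hfull2.ge (hs.Q_le hv2 hq'.2))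
    rw [hX]
    refine mem_sup_right ?_
    have h1 := inv_mem (hs.quad ha (hcQ1 hc0) hz)
    convert h1 using 1
    have e2 : t * c0⁻¹ * t⁻¹ = c0⁻¹ := by rw [← hs.comm_Q hc2 (inv_mem hc0) ht, mul_inv_cancel_right]
    rw [← e, commutatorElement_inv, commutatorElement_def, commutatorElement_def]
    calc c0 * (z * t) * c0⁻¹ * (z * t)⁻¹ = c0 * z * (t * c0⁻¹ * t⁻¹) * z⁻¹ := by group
      _ = _ := by rw [e2]
  have hqq : ∀ q ∈ Q, ∀ q' ∈ Q, ⁅q, q'⁆ ∈ X := fun q hq q' hq' => hX ▸ mem_sup_left (comm_mem_phi hq hq')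
  have hQT : Q ≤ T1 := hQ ▸ inf_le_left.trans (hs.Q_le ha)
  obtain ⟨M, bv⟩ := hs.loc hc2
  have hzp : ∀ c0 ∈ x.Z, c0 ^ p = 1 := fun c0 hc0 => bv.zc_pow c0 (hs.zeq hc2 ▸ hc0)
  have hphi : phi p v.Q ≤ X := by
    refine phi_le (fun y hy y' hy' => ?_) fun y hy => ?_
    · obtain ⟨c0, hc0, q, hq, rfl⟩ := hdec y hy
      obtain ⟨c1, hc1, q', hq', rfl⟩ := hdec y' hy'
      have hcT := hcQ1 hc1
      have h1 : ⁅q, c1 * q'⁆ ∈ X := by
        have h2 := X.mul_mem (X.inv_mem (hcq c1 hc1 q hq)) (hXs c1 hcT _ (hqq q hq q' hq'))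
        convert h2 using 1
        simp only [commutatorElement_def]
        group
      have h3 : ⁅c0, c1 * q'⁆ ∈ X := by
        have h4 : ⁅c0, c1⁆ = 1 := commutatorElement_eq_one_iff_mul_comm.2
          (hs.comm_Q hc2 hc0 (hs.Z_le_Q hc2 hc1))
        have h5 := X.mul_mem (h4 ▸ X.one_mem : ⁅c0, c1⁆ ∈ X) (hXs c1 hcT _ (hcq c0 hc0 q' hq'))
        convert h5 using 1
        simp only [commutatorElement_def]
        group
      have h6 := X.mul_mem (hXs c0 (hcQ1 hc0) _ h1) h3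
      convert h6 using 1
      simp only [commutatorElement_def]
      group
    · obtain ⟨c0, hc0, q, hq, rfl⟩ := hdec y hy
      have key : ∀ n : ℕ, (c0 * q) ^ n * (c0 ^ n * q ^ n)⁻¹ ∈ X := by
        intro n
        induction n with
        | zero => simp
        | succ n ih =>
          have h1 := X.mul_mem ih (hXs (c0 ^ n) (pow_mem (hcQ1 hc0) n) _
            (X.inv_mem (hcq c0 hc0 (q ^ n) (pow_mem hq n))))
          convert h1 using 1
          rw [commutatorElement_inv, commutatorElement_def, pow_succ (c0 * q), pow_succ c0, pow_succ q]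
          group
      have h1 := X.mul_mem (key p) (show c0 ^ p * q ^ p ∈ X by
        rw [hzp c0 hc0, one_mul, hX]; exact mem_sup_left (pow_mem_phi hq))
      rwa [inv_mul_cancel_right] at h1
  have hXδ : X ≤ δ.Q := by
    obtain ⟨M', bd⟩ := hs.loc hδ
    rw [hX]
    refine sup_le ?_ ((hs.om_le_Z ha).trans (d.le_Q (AdjV.near ⟨E0, hE0, hδ⟩) (by omega)))
    exact (phi_mono (hQ ▸ inf_le_left.trans (hs.Q_le hE0) : Q ≤ E0)).trans
      (phi_le (fun u hu w hw => bd.ab u hu w hw) bd.pw)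
  obtain ⟨x0, hx0, hx0Q⟩ := SetLike.not_le_iff_exists.1 hcd.nle
  have hline : v.Z ⊓ phi p v.Q ≤ om p T1 := fun w hw =>
    hs.fixed hv (hδT1 hx0) hx0Q hw.1 (hs.comm_Q hδ hx0 (hXδ (hphi hw.2)))
  refine hs.phiG hv fun w hw => ?_
  obtain ⟨M', b0⟩ := hs.loc hv
  obtain ⟨g, hg, hgM⟩ := b0.exists_out
  have h2 : g⁻¹ * w * g ∈ v.Z ⊓ phi p v.Q :=
    ⟨(hs.Zn hv).inv hg hw.1, (phi_stable (hs.Qn hv)).inv hg hw.2⟩
  refine mem_centralizer_iff.2 fun y hy => ?_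
  have hle : v.G ≤ centralizer ({w} : Set W) := (b0.gen hg hgM).ge.trans (sup_le
    (fun t ht => mem_centralizer_singleton_iff.2 ((hline hw).2.1 t ht))
    (fun t ht => mem_centralizer_singleton_iff.2 (by
      have h3 := (hline h2).2.1 _ (mem_cj.1 ht)
      calc t * w = g * ((g⁻¹ * t * g) * (g⁻¹ * w * g)) * g⁻¹ := by group
        _ = g * ((g⁻¹ * w * g) * (g⁻¹ * t * g)) * g⁻¹ := by rw [h3]
        _ = w * t := by group)))
  exact mem_centralizer_singleton_iff.1 (hle hy)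

end CfsgLib.PushFam
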