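import Cfsg.Agent.Lib.LocalEvenB.PushFam.Graph

/-!
# Pushing-up families: no endpoint of a critical pair has only central neighbours
-/

set_option autoImplicit false

namespace CfsgLib.PushFam

open Subgroup CfsgLib.PushUp
open CfsgLib.LocalEvenB.PushCL (phi map_phi)
open CfsgLib.LocalEvenB (card_mul_card_le_sup_inf)
open scoped commutatorElement

variable {W : Type*} [Group W] [Finite W]

/-- A `p`-group acting on a larger subgroup fixes a point outside the smaller one modulo it. -/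
theorem exists_fixed_mod {p : ℕ} [Fact p.Prime] {T A X K : Subgroup W} (hT : IsPGroup p T) (hA : A ≤ T)
    (hX : X ≤ T) (hAX : Stable A X) (hne : ¬ X ≤ K) : ∃ u ∈ X, u ∉ K ∧ ∀ a ∈ A, ⁅a, u⁆ ∈ K := by
  classical
  obtain ⟨n, hn⟩ := (Subgroup.isNilpotent_iff_lowerCentralSeries T).1 hT.isNilpotent
  have hex : ∃ m, X ⊓ T.lowerCentralSeries m ≤ K := ⟨n, by rw [hn, inf_bot_eq]; exact bot_le⟩
  obtain ⟨m, hm⟩ : ∃ m, Nat.find hex = m + 1 := by
    refine ⟨Nat.find hex - 1, (Nat.succ_pred_eq_of_pos ?_).symm⟩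
    refine Nat.pos_of_ne_zero fun e => hne ?_
    have := Nat.find_spec hex
    rwa [e, Subgroup.lowerCentralSeries_zero, inf_eq_left.2 hX] at this
  obtain ⟨u, hu, huK⟩ := SetLike.not_le_iff_exists.1 (Nat.find_min hex (show m < Nat.find hex by omega))
  refine ⟨u, hu.1, huK, fun a ha => ?_⟩
  have h1 := Nat.find_spec hex
  rw [hm] at h1
  refine h1 ⟨?_, ?_⟩
  · rw [commutatorElement_def]
    exact X.mul_mem (hAX a ha u hu.1) (X.inv_mem hu.1)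
  · rw [Subgroup.lowerCentralSeries_succ, ← commutatorElement_inv]
    exact Subgroup.inv_mem _ (commutator_mem_commutator hu.2 (hA ha))

theorem Cl.move {p : ℕ} {T T' X : Subgroup W} (hX : Cl p T X) (hle : X ≤ T')
    (h1 : Nat.card ↥T = Nat.card ↥T') (h2 : Nat.card ↥(om p T) = Nat.card ↥(om p T')) : Cl p T' X :=
  ⟨hle, by rw [hX.card, mu, mu, h1, h2]⟩

variable {p : ℕ} [Fact p.Prime] {At : Vx W → Subgroup W → Prop} (hs : Sys p At)
include hs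

theorem Sys.core_cl {v : Vx W} {T : Subgroup W} (h : At v T) :
    Cl p T v.Q ∧ v.Q ⊓ centralizer (v.Q : Set W) = v.Z := by
  obtain ⟨M, b⟩ := hs.loc h
  rw [hs.zeq h]
  exact ⟨(b.core_cl (hs.res h)).1, (b.core_cl (hs.res h)).2.1⟩

/-- A module in the core not centralizing `A ∩ Q` spans with `Z (A ∩ Q)` an `A`-invariant subgroup. -/
theorem Sys.span {v u : Vx W} {T T' A : Subgroup W} (hv : At v T) (hu : At u T') (hA : MaxAb p T A)
    (hAQ : ¬ A ≤ v.Q) (hA0 : A ⊓ v.Q ≤ T') (huQ : u.Z ≤ v.Q) (hnle : ¬ u.Z ≤ v.Z ⊔ (A ⊓ v.Q)) :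
    Stable A (u.Z ⊔ (v.Z ⊔ (A ⊓ v.Q))) ∧ (A ⊓ v.Q) ⊔ u.Q = T' := by
  obtain ⟨M, b⟩ := hs.loc hv
  have r := hs.res hv
  obtain ⟨hZA, -, hR, hC⟩ := b.outer r hA hAQ
  rw [← hs.zeq hv] at hZA hR hC
  obtain ⟨A0, hA0'⟩ : ∃ A0, A0 = A ⊓ v.Q := ⟨_, rfl⟩
  rw [← hA0'] at hR hC hA0 hnle ⊢
  obtain ⟨R, hR'⟩ : ∃ R, R = v.Z ⊔ A0 := ⟨_, rfl⟩
  rw [← hR'] at hR hC hnle ⊢
  have hA0A : A0 ≤ A := hA0' ▸ inf_le_left
  have hA0R : A0 ≤ R := hR' ▸ le_sup_right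
  have hZR : v.Z ≤ R := hR' ▸ le_sup_left
  have hRQ : R ≤ v.Q := hC.ge.trans inf_le_left
  have hAG : A ≤ v.G := hA.le.trans (hs.T_le hv)
  have hAR : Stable A R := by
    intro a ha x hx
    rw [hR'] at hx ⊢
    obtain ⟨z, hz, y, hy, e⟩ := mem_sup_mul (((hs.Z_cent hv).trans (centralizer_anti (hA0' ▸ inf_le_right))).trans
      (centralizer_le_normalizer _)) hx
    have e2 : a * y * a⁻¹ = y := by rw [mem_comm hA.comm (hA0A hy) ha, mul_inv_cancel_right]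
    have h1 := Subgroup.mul_mem_sup (hs.Zn hv a (hAG ha) z hz) (show a * y * a⁻¹ ∈ A0 by rw [e2]; exact hy)
    convert h1 using 1
    rw [← e]; group
  obtain ⟨C0, hC0⟩ : ∃ C0, C0 = A0 ⊓ u.Q := ⟨_, rfl⟩
  obtain ⟨X, hX⟩ : ∃ X, X = closure ((R : Set W) ∪ {x | ∃ a ∈ A, a⁻¹ * x * a ∈ u.Z}) := ⟨_, rfl⟩
  have huX : u.Z ≤ X := fun w hw => hX.ge (subset_closure (Or.inr ⟨1, one_mem _, by simpa using hw⟩))
  have hRX : R ≤ X := fun w hw => hX.ge (subset_closure (Or.inl hw))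
  have hXst : Stable A X := by
    intro a ha x hx
    rw [hX] at hx ⊢
    induction hx using closure_induction with
    | mem y hy =>
      rcases hy with hy | ⟨a', ha', hy⟩
      · exact subset_closure (Or.inl (hAR a ha y hy))
      · exact subset_closure (Or.inr ⟨a * a', mul_mem ha ha', by simpa [mul_assoc] using hy⟩)
    | one => simp
    | mul s t _ _ hs' ht => simpa [mul_assoc] using mul_mem hs' ht
    | inv s _ hs' => simpa [mul_assoc] using inv_mem hs'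
  have hXQ : X ≤ v.Q := by
    rw [hX, closure_le]
    rintro x (hx | ⟨a, ha, hx⟩)
    · exact hRQ hx
    · simpa [mul_assoc] using hs.Qn hv a (hAG ha) _ (huQ hx)
  have hXC0 : C0 ≤ centralizer (X : Set W) := by
    refine comm_symm ?_
    rw [hX, closure_le]
    rintro x (hx | ⟨a, ha, hx⟩)
    · exact hR.comm.trans (centralizer_anti ((hC0 ▸ inf_le_left : C0 ≤ A0).trans hA0R)) hx
    · refine mem_centralizer_iff.2 fun c hc => ?_
      rw [SetLike.mem_coe, hC0] at hc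
      have h1 := hs.comm_Q hu hx hc.2
      have h2 : a⁻¹ * c * a = c := by
        rw [mul_assoc, ← mem_comm hA.comm (hA0A hc.1) ha, inv_mul_cancel_left]
      calc c * x = a * ((a⁻¹ * c * a) * (a⁻¹ * x * a)) * a⁻¹ := by group
        _ = a * ((a⁻¹ * x * a) * (a⁻¹ * c * a)) * a⁻¹ := by rw [h2, h1]
        _ = x * c := by group
  obtain ⟨E, hE⟩ : ∃ E, E = v.Z ⊔ C0 := ⟨_, rfl⟩
  have hEle : E ≤ T ⊓ centralizer (X : Set W) := hE ▸ sup_le
    (le_inf ((hs.Z_le_Q hv).trans (hs.Q_le hv)) ((hs.Z_cent hv).trans (centralizer_anti hXQ)))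
    (le_inf ((hC0 ▸ inf_le_left : C0 ≤ A0).trans (hA0A.trans hA.le)) hXC0)
  have e1 := (Nat.mul_le_mul_left _ (card_le_of_le hEle)).trans (r.cd X (hXQ.trans (hs.Q_le hv)))
  rw [← hR.card] at e1
  have e2 : Nat.card ↥v.Z * Nat.card ↥C0 ≤ Nat.card ↥E * Nat.card ↥(om p T) := by
    rw [hE]
    refine (card_mul_card_le_sup_inf _ _).trans (Nat.mul_le_mul_left _ (card_le_of_le ?_))
    exact le_trans (inf_le_inf_left _ ((hC0 ▸ inf_le_left : C0 ≤ A0).trans hA0A)) hZA.le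
  have e3 := CfsgLib.Core.card_sup_mul_card_inf v.Z A0
    (((hs.Z_cent hv).trans (centralizer_anti (hA0' ▸ inf_le_right))).trans (centralizer_le_normalizer _))
  rw [← hR', show v.Z ⊓ A0 = om p T by
    rw [hA0', ← inf_assoc, hZA, inf_eq_left.2 ((hs.om_le_Z hv).trans (hs.Z_le_Q hv))]] at e3
  obtain ⟨x0, hx0, hx0Q⟩ : ∃ x ∈ A0, x ∉ u.Q := by
    by_contra hcon
    push Not at hcon
    refine hnle fun w hw => hC.le ⟨huQ hw, mem_centralizer_iff.2 fun y hy => ?_⟩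
    exact (hs.comm_Q hu hw (hcon y hy)).symm
  have e4 : Nat.card ↥(u.Z ⊓ R) ≤ Nat.card ↥(om p T') := card_le_of_le fun z hz =>
    hs.fixed hu (hA0 hx0) hx0Q hz.1 (mem_comm hR.comm hz.2 (hA0R hx0))
  have e5 : Nat.card ↥u.Z * Nat.card ↥R ≤ Nat.card ↥(u.Z ⊔ R) * Nat.card ↥(om p T') :=
    (card_mul_card_le_sup_inf _ _).trans (Nat.mul_le_mul_left _ e4)
  obtain ⟨M', F⟩ := hs.facts hu
  have e6 := F.cardZ
  rw [← hs.zeq hu] at e6
  have e7 := CfsgLib.Core.card_sup_mul_card_inf A0 u.Q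
    ((hA0.trans (hs.T_le hu)).trans (st_le_normalizer (hs.Qn hu)))
  rw [← hC0] at e7
  have e8 : Nat.card ↥(A0 ⊔ u.Q) ≤ Nat.card ↥T' := card_le_of_le (sup_le hA0 (hs.Q_le hu))
  have e9 : Nat.card ↥X * Nat.card ↥C0 ≤ Nat.card ↥R * Nat.card ↥A0 := by
    refine Nat.le_of_mul_le_mul_right ?_ (Nat.card_pos (α := v.Z))
    calc Nat.card ↥X * Nat.card ↥C0 * Nat.card ↥v.Z = Nat.card ↥X * (Nat.card ↥v.Z * Nat.card ↥C0) := by ring
      _ ≤ Nat.card ↥X * (Nat.card ↥E * Nat.card ↥(om p T)) := Nat.mul_le_mul_left _ e2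
      _ = (Nat.card ↥X * Nat.card ↥E) * Nat.card ↥(om p T) := by ring
      _ ≤ (Nat.card ↥R * Nat.card ↥R) * Nat.card ↥(om p T) := Nat.mul_le_mul_right _ e1
      _ = Nat.card ↥R * (Nat.card ↥R * Nat.card ↥(om p T)) := by ring
      _ = _ := by rw [e3]; ring
  have e10 : Nat.card ↥R * Nat.card ↥T' ≤ Nat.card ↥(u.Z ⊔ R) * Nat.card ↥u.Q := by
    refine Nat.le_of_mul_le_mul_right ?_ (Nat.card_pos (α := ↥(om p T')))
    calc Nat.card ↥R * Nat.card ↥T' * Nat.card ↥(om p T')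
        = Nat.card ↥R * (Nat.card ↥u.Z * Nat.card ↥u.Q) := by rw [e6]; ring
      _ = (Nat.card ↥u.Z * Nat.card ↥R) * Nat.card ↥u.Q := by ring
      _ ≤ (Nat.card ↥(u.Z ⊔ R) * Nat.card ↥(om p T')) * Nat.card ↥u.Q := Nat.mul_le_mul_right _ e5
      _ = _ := by ring
  have hle : u.Z ⊔ R ≤ X := sup_le huX hRX
  have e11 : Nat.card ↥X * Nat.card ↥u.Q ≤ Nat.card ↥R * Nat.card ↥T' := by
    refine Nat.le_of_mul_le_mul_right ?_ (Nat.card_pos (α := C0))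
    calc Nat.card ↥X * Nat.card ↥u.Q * Nat.card ↥C0 = (Nat.card ↥X * Nat.card ↥C0) * Nat.card ↥u.Q := by ring
      _ ≤ (Nat.card ↥R * Nat.card ↥A0) * Nat.card ↥u.Q := Nat.mul_le_mul_right _ e9
      _ = Nat.card ↥R * (Nat.card ↥A0 * Nat.card ↥u.Q) := by ring
      _ = Nat.card ↥R * (Nat.card ↥(A0 ⊔ u.Q) * Nat.card ↥C0) := by rw [e7]
      _ ≤ Nat.card ↥R * (Nat.card ↥T' * Nat.card ↥C0) := Nat.mul_le_mul_left _ (Nat.mul_le_mul_right _ e8)
      _ = _ := by ring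
  have heq : u.Z ⊔ R = X :=
    eq_of_le_of_card_ge hle (Nat.le_of_mul_le_mul_right (e11.trans e10) (Nat.card_pos (α := u.Q)))
  refine ⟨heq ▸ hXst, eq_of_le_of_card_ge (sup_le hA0 (hs.Q_le hu)) ?_⟩
  refine Nat.le_of_mul_le_mul_left ?_ (Nat.mul_pos (Nat.card_pos (α := R)) (Nat.card_pos (α := C0)))
  calc Nat.card ↥R * Nat.card ↥C0 * Nat.card ↥T' = (Nat.card ↥R * Nat.card ↥T') * Nat.card ↥C0 := by ring
    _ ≤ (Nat.card ↥X * Nat.card ↥u.Q) * Nat.card ↥C0 := Nat.mul_le_mul_right _ (heq ▸ e10)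
    _ = (Nat.card ↥X * Nat.card ↥C0) * Nat.card ↥u.Q := by ring
    _ ≤ (Nat.card ↥R * Nat.card ↥A0) * Nat.card ↥u.Q := Nat.mul_le_mul_right _ e9
    _ = Nat.card ↥R * (Nat.card ↥(A0 ⊔ u.Q) * Nat.card ↥C0) := by rw [e7]; ring
    _ = _ := by ring

/-- The commutators of a neighbouring module with the core are centralized. -/
theorem Sys.comm_core {b : ℕ} (d : DistV At b) {a v : Vx W} {T : Subgroup W} (ha : At a T) (hv : At v T)
    (hnc : ∃ z ∈ a.Z, ¬ CentV v z) :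
    ∀ z ∈ a.Z, ∀ q ∈ v.Q, ⁅z, q⁆ ∈ v.Z ⊓ centralizer (v.G : Set W) := by
  obtain ⟨F, hF⟩ : ∃ F, F = v.Z ⊓ centralizer (v.G : Set W) := ⟨_, rfl⟩
  rw [← hF]
  obtain ⟨M, b0⟩ := hs.loc hv
  have r := hs.res hv
  obtain ⟨A, hA, hAQ⟩ := b0.exists_outer r
  obtain ⟨g, hg, hgM⟩ := b0.exists_out
  have hv' : At v (cj g T) := hs.at_conj hv hg
  have hu : At (a.tr g) (cj g T) := hs.conj ha g
  have hb := hs.two_le_dist d
  have huQ : (a.tr g).Z ≤ v.Q := d.le_Q (AdjV.near ⟨_, hu, hv'⟩) (by omega)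
  obtain ⟨hZA, hAQT, hR, hC⟩ := b0.outer r hA hAQ
  rw [← hs.zeq hv] at hZA hR hC
  have hnle : ¬ (a.tr g).Z ≤ v.Z ⊔ (A ⊓ v.Q) := by
    intro hle
    obtain ⟨z, hz, hzc⟩ := hnc
    refine hzc (hs.cent_of_opp hv (T' := cj g⁻¹ T)
      (b0.gen (inv_mem hg) fun hm => hgM (inv_mem_iff.1 hm)) (hs.near_mod ha hv hz) fun x hx => ?_)
    have hw : g * z * g⁻¹ ∈ (a.tr g).Z := conj_mem_cj hz
    have hx' : g * x * g⁻¹ ∈ T := by
      have := mem_cj.1 hx; simpa using this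
    obtain ⟨a', ha', q, hq, e⟩ := mem_sup_mul ((hA.le.trans (hs.T_le hv)).trans (st_le_normalizer (hs.Qn hv)))
      (hAQT.ge hx')
    obtain ⟨z0, hz0, y, hy, e'⟩ := mem_sup_mul (((hs.Z_cent hv).trans (centralizer_anti inf_le_right)).trans
      (centralizer_le_normalizer _)) (hle hw)
    have ha'G := hs.T_le hv (hA.le ha')
    have h1 : ⁅g * z * g⁻¹, q⁆ ∈ v.Z := hs.near_mod hu hv' hw q (hs.Q_le hv' hq)
    have h2 : ⁅g * z * g⁻¹, a'⁆ ∈ v.Z := by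
      have h3 := (hs.Zn hv).comm_left ha'G hz0
      have e2 : y * a' * y⁻¹ = a' := by rw [mem_comm hA.comm ha' hy.1, mul_inv_cancel_right]
      convert h3 using 1
      rw [← e', commutatorElement_def, commutatorElement_def]
      calc z0 * y * a' * (z0 * y)⁻¹ * a'⁻¹ = z0 * (y * a' * y⁻¹) * z0⁻¹ * a'⁻¹ := by group
        _ = _ := by rw [e2]
    have h4 := hs.Zn hv g⁻¹ (inv_mem hg) _ (v.Z.mul_mem h2 (hs.Zn hv a' ha'G _ h1))
    convert h4 using 1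
    rw [show x = g⁻¹ * (a' * q) * g by rw [e]; group]
    simp only [commutatorElement_def]
    group
  obtain ⟨hst, hfull⟩ := hs.span hv hu hA hAQ (inf_le_right.trans (hs.Q_le hv')) huQ hnle
  obtain ⟨X, hX⟩ : ∃ X, X = (a.tr g).Z ⊔ (v.Z ⊔ (A ⊓ v.Q)) := ⟨_, rfl⟩
  rw [← hX] at hst
  have hXQ : X ≤ v.Q := hX ▸ sup_le huQ (hC.ge.trans inf_le_left)
  have homc : ∀ f ∈ om p (cj g T), ∀ q ∈ v.Q, q * f = f * q := fun f hf q hq => hf.2.1 q (hs.Q_le hv' hq)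
  have hFc : ∀ f ∈ F, ∀ x ∈ v.G, x * f = f * x := fun f hf x hx => by
    rw [hF] at hf; exact mem_centralizer_iff.1 hf.2 x hx
  have hom : ∀ x ∈ X, ∀ e ∈ A ⊓ v.Q, ⁅x, e⁆ ∈ om p (cj g T) := by
    obtain ⟨K, hK⟩ : ∃ K : Subgroup W, ∀ x, x ∈ K ↔ x ∈ v.Q ∧ ∀ e ∈ A ⊓ v.Q, ⁅x, e⁆ ∈ om p (cj g T) :=
      ⟨{ carrier := {x | x ∈ v.Q ∧ ∀ e ∈ A ⊓ v.Q, ⁅x, e⁆ ∈ om p (cj g T)}
         one_mem' := ⟨one_mem _, fun e _ => by rw [commutatorElement_one_left]; exact one_mem _⟩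
         mul_mem' := fun {x y} hx hy => ⟨mul_mem hx.1 hy.1, fun e he => by
           have h1 := (om p (cj g T)).mul_mem (hy.2 e he) (hx.2 e he)
           convert h1 using 1
           have e2 : x * ⁅y, e⁆ * x⁻¹ = ⁅y, e⁆ := by rw [homc _ (hy.2 e he) x hx.1, mul_inv_cancel_right]
           conv_rhs => rw [← e2]
           simp only [commutatorElement_def]
           group⟩
         inv_mem' := fun {x} hx => ⟨inv_mem hx.1, fun e he => by
           have h1 := inv_mem (hx.2 e he)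
           convert h1 using 1
           have e2 : x⁻¹ * ⁅x, e⁆ * x = ⁅x, e⁆ := by
             rw [mul_assoc, ← homc _ (hx.2 e he) x hx.1, inv_mul_cancel_left]
           conv_rhs => rw [← e2]
           simp only [commutatorElement_def]
           group⟩ }, fun _ => Iff.rfl⟩
    intro x hx
    rw [hX] at hx
    have hle : (a.tr g).Z ⊔ (v.Z ⊔ (A ⊓ v.Q)) ≤ K :=
      sup_le (fun w hw => (hK w).2 ⟨huQ hw, fun e he => hs.quad hu (hs.Q_le hv' he.2) hw⟩)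
        fun w hw => (hK w).2 ⟨(hC.ge hw).1, fun e he => by
          rw [commutatorElement_eq_one_iff_mul_comm.2 (mem_comm hR.comm (mem_sup_right he) hw)]
          exact one_mem _⟩
    exact ((hK x).1 (hle hx)).2
  obtain ⟨K0, hK0⟩ : ∃ K0 : Subgroup W, ∀ x, x ∈ K0 ↔ x ∈ X ∧ ∀ e ∈ A ⊓ v.Q, ⁅x, e⁆ ∈ F :=
    ⟨{ carrier := {x | x ∈ X ∧ ∀ e ∈ A ⊓ v.Q, ⁅x, e⁆ ∈ F}
       one_mem' := ⟨one_mem _, fun e _ => by rw [commutatorElement_one_left]; exact one_mem _⟩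
       mul_mem' := fun {x y} hx hy => ⟨mul_mem hx.1 hy.1, fun e he => by
         have h1 := F.mul_mem (hy.2 e he) (hx.2 e he)
         convert h1 using 1
         have e2 : x * ⁅y, e⁆ * x⁻¹ = ⁅y, e⁆ := by
           rw [hFc _ (hy.2 e he) x (hs.Q_le_G hv (hXQ hx.1)), mul_inv_cancel_right]
         conv_rhs => rw [← e2]
         simp only [commutatorElement_def]
         group⟩
       inv_mem' := fun {x} hx => ⟨inv_mem hx.1, fun e he => by
         have h1 := inv_mem (hx.2 e he)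
         convert h1 using 1
         have e2 : x⁻¹ * ⁅x, e⁆ * x = ⁅x, e⁆ := by
           rw [mul_assoc, ← hFc _ (hx.2 e he) x (hs.Q_le_G hv (hXQ hx.1)), inv_mul_cancel_left]
         conv_rhs => rw [← e2]
         simp only [commutatorElement_def]
         group⟩ }, fun _ => Iff.rfl⟩
  have hXK : X ≤ K0 := by
    by_contra hcon
    obtain ⟨u, hu', huK, hfix⟩ := exists_fixed_mod r.pT hA.le (hXQ.trans (hs.Q_le hv)) hst hcon
    refine huK ((hK0 u).2 ⟨hu', fun e he => ?_⟩)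
    obtain ⟨a', ha', haQ⟩ := SetLike.not_le_iff_exists.1 hAQ
    obtain ⟨f, hf⟩ : ∃ f, f = ⁅u, e⁆ := ⟨_, rfl⟩
    have hfom : f ∈ om p (cj g T) := hf ▸ hom u hu' e he
    have hfZ : f ∈ v.Z := hs.om_le_Z hv' hfom
    obtain ⟨k, hk⟩ : ∃ k, k = ⁅a', u⁆ := ⟨_, rfl⟩
    have hkK : k ∈ K0 := hk ▸ hfix a' ha'
    have hkQ : k ∈ v.Q := hXQ ((hK0 k).1 hkK).1
    have hke : ⁅k, e⁆ ∈ F := ((hK0 k).1 hkK).2 e he
    have e1 : a' * f * a'⁻¹ = f * ⁅k, e⁆ := by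
      have e2 : a' * e * a'⁻¹ = e := by rw [mem_comm hA.comm he.1 ha', mul_inv_cancel_right]
      have e3 : k * f * k⁻¹ = f := by rw [homc f hfom k hkQ, mul_inv_cancel_right]
      have e4 : a' * u * a'⁻¹ = k * u := by rw [hk, commutatorElement_def]; group
      calc a' * f * a'⁻¹ = ⁅a' * u * a'⁻¹, a' * e * a'⁻¹⁆ := by
            rw [hf, commutatorElement_def, commutatorElement_def]; group
        _ = ⁅k * u, e⁆ := by rw [e2, e4]
        _ = (k * f * k⁻¹) * ⁅k, e⁆ := by rw [hf]; simp only [commutatorElement_def]; group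
        _ = _ := by rw [e3]
    have hmov : a' * f = f * a' := by
      refine hs.mov hv (hA.le ha') hfZ ?_
      have e5 : f * a' * f⁻¹ * a'⁻¹ = ⁅k, e⁆⁻¹ := by
        have e6 : f * ⁅k, e⁆ = ⁅k, e⁆ * f := hFc _ hke f (hs.T_le hv (hs.Q_le hv (hs.Z_le_Q hv hfZ)))
        rw [show f * a' * f⁻¹ * a'⁻¹ = f * (a' * f * a'⁻¹)⁻¹ by group, e1, e6]
        group
      rw [e5]
      rw [hF] at hke
      exact inv_mem hke.2
    have hfom' : f ∈ om p T := hs.fixed hv (hA.le ha') haQ hfZ hmov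
    rw [← hf, hF]
    refine ⟨hfZ, mem_centralizer_iff.2 fun x hx => ?_⟩
    have hle : v.G ≤ centralizer ({f} : Set W) := (b0.gen hg hgM).ge.trans (sup_le
      (fun y hy => mem_centralizer_singleton_iff.2 (hfom'.2.1 y hy))
      (fun y hy => mem_centralizer_singleton_iff.2 (hfom.2.1 y hy)))
    exact mem_centralizer_singleton_iff.1 (hle hx)
  intro z hz q hq
  have hw : g * z * g⁻¹ ∈ (a.tr g).Z := conj_mem_cj hz
  obtain ⟨e, he, t, ht, e'⟩ := mem_sup_mul ((inf_le_right.trans ((hs.Q_le hv').trans (hs.T_le hu))).trans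
    (st_le_normalizer (hs.Qn hu))) (hfull.ge (hs.Q_le hv' (hs.Qn hv g hg q hq)))
  have h1 : ⁅g * z * g⁻¹, e⁆ ∈ F := ((hK0 _).1 (hXK (hX ▸ mem_sup_left hw))).2 e he
  have h2 : ⁅g * z * g⁻¹, g * q * g⁻¹⁆ = ⁅g * z * g⁻¹, e⁆ := by
    rw [← e', commutatorElement_def, commutatorElement_def]
    obtain ⟨w, hw'⟩ : ∃ w, w = g * z * g⁻¹ := ⟨_, rfl⟩
    rw [← hw'] at hw ⊢
    have e3 : t * w⁻¹ * t⁻¹ = w⁻¹ := by rw [← hs.comm_Q hu (inv_mem hw) ht, mul_inv_cancel_right]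
    calc w * (e * t) * w⁻¹ * (e * t)⁻¹ = w * e * (t * w⁻¹ * t⁻¹) * e⁻¹ := by group
      _ = _ := by rw [e3]
  rw [← h2] at h1
  have h3 : ⁅z, q⁆ = ⁅g * z * g⁻¹, g * q * g⁻¹⁆ := by
    have e4 : g * ⁅g * z * g⁻¹, g * q * g⁻¹⁆ = ⁅g * z * g⁻¹, g * q * g⁻¹⁆ * g := hFc _ h1 g hg
    calc ⁅z, q⁆ = g⁻¹ * ⁅g * z * g⁻¹, g * q * g⁻¹⁆ * g := by simp only [commutatorElement_def]; group
      _ = g⁻¹ * (g * ⁅g * z * g⁻¹, g * q * g⁻¹⁆) := by rw [e4, mul_assoc]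
      _ = _ := inv_mul_cancel_left _ _
  rw [h3]
  exact h1

/-- The intersection with a neighbouring core is stable when the neighbours are central. -/
theorem Sys.stable_inf {a v : Vx W} {T : Subgroup W} (ha : At a T) (hv : At v T) (hct : CentType At a) :
    Stable a.G (a.Q ⊓ v.Q) := by
  rintro g hg x ⟨hxa, hxv⟩
  refine ⟨hs.Qn ha g hg x hxa, hs.mem_Q hv (hs.Q_le ha (hs.Qn ha g hg x hxa)) fun z hz => ?_⟩
  obtain ⟨w, hw⟩ : ∃ w, w = ⁅z⁻¹, g⁻¹⁆ := ⟨_, rfl⟩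
  have hwZ : w ∈ a.Z := hw ▸ hct v ⟨T, hv, ha⟩ _ (inv_mem hz) _ (inv_mem hg)
  have e1 : g⁻¹ * z * g = z * w := by rw [hw, commutatorElement_def]; group
  have e2 : (z * w) * x = x * (z * w) := by
    rw [mul_assoc, hs.comm_Q ha hwZ hxa, ← mul_assoc, hs.comm_Q hv hz hxv, mul_assoc]
  calc z * (g * x * g⁻¹) = g * ((g⁻¹ * z * g) * x) * g⁻¹ := by group
    _ = g * (x * (g⁻¹ * z * g)) * g⁻¹ := by rw [e1, e2]
    _ = _ := by group

end CfsgLib.PushFam
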