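import Cfsg.Agent.Lib.LocalEvenB.PushFam.Embed

/-!
# Pushing-up families: the pair of characteristic subgroups
-/

set_option autoImplicit false

namespace CfsgLib.PushFam

open Subgroup CfsgLib.PushUp
open CfsgLib.LocalEvenB.PushCL (phi map_phi)

universe u

variable {p : ℕ} [Fact p.Prime] {S : Type u} [Group S] [Finite S]

/-- A witness: a group in which neither subgroup is normal. -/
structure Wit (p : ℕ) (S : Type u) [Group S] (S1 : Subgroup S) where
  G : Type u
  grp : Group G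
  fin : Finite G
  τ : S →* G
  situ : @Situ p S G _ grp τ
  nn : ¬ (S1.map τ).Normal

theorem normal_of_le_centralizer {G : Type*} [Group G] {H : Subgroup G}
    (h : H ≤ centralizer ((⊤ : Subgroup G) : Set G)) : H.Normal :=
  ⟨fun x hx g => by rw [mem_centralizer_iff.1 (h hx) g trivial, mul_inv_cancel_right]; exact hx⟩

variable (r : Res p (⊤ : Subgroup S))
include r

/-- The data of a witness. -/
theorem Res.exists_bad {G : Type u} [Group G] [Finite G] {τ : S →* G} (hs : Situ p τ)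
    (hnn : ¬ ((om p (⊤ : Subgroup S) ⊓ szero p (⊤ : Subgroup S)).map τ).Normal) :
    Res p τ.range ∧ (∃ M, Bad p (⊤ : Subgroup G) τ.range (Cfsg.pCore p G) M) ∧
      ¬ zc p (⊤ : Subgroup G) τ.range ⊓ phi p (Cfsg.pCore p G) ≤ centralizer ((⊤ : Subgroup G) : Set G) := by
  have hτ := hs.1
  have hr : Res p τ.range := by
    have := r.map hτ
    rwa [← MonoidHom.range_eq_map] at this
  have hle : (om p (⊤ : Subgroup S) ⊓ szero p (⊤ : Subgroup S)).map τ ≤ om p τ.range ⊓ szero p τ.range := by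
    refine (map_inf_le _ _ τ).trans ?_
    rw [map_om hτ, map_szero, ← MonoidHom.range_eq_map]
  obtain ⟨M, hM⟩ := hs.exists_bad fun e => hnn (normal_of_le_centralizer (hle.trans (inf_le_left.trans e)))
  exact ⟨hr, ⟨M, hM⟩, fun e => hnn (normal_of_le_centralizer (hle.trans (hM.szero_central hr e)))⟩

/-- The pair. -/
theorem Res.exists_pair (h0 : om p (⊤ : Subgroup S) ⊓ szero p (⊤ : Subgroup S) ≠ ⊥) :
    ∃ S1 S2 : Subgroup S, S1 ≠ ⊥ ∧ S2 ≠ ⊥ ∧ S1.Characteristic ∧ S2.Characteristic ∧ S1 ≤ Subgroup.center S ∧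
      (∃ A, MaxAb p (⊤ : Subgroup S) A ∧ A ≤ S2) ∧
      ∀ (G : Type u) [Group G] [Finite G] (τ : S →* G), Situ p τ → (S1.map τ).Normal ∨ (S2.map τ).Normal := by
  classical
  obtain ⟨S1, hS1⟩ : ∃ S1, S1 = om p (⊤ : Subgroup S) ⊓ szero p (⊤ : Subgroup S) := ⟨_, rfl⟩
  rw [← hS1] at h0
  have h1char : S1.Characteristic := characteristic_iff_map_eq.2 fun φ => by
    rw [hS1, map_inf _ _ φ.toMonoidHom φ.injective, map_om (f := φ.toMonoidHom) φ.injective, map_szero,
      Subgroup.map_top_of_surjective φ.toMonoidHom φ.surjective]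
  have h1Z : S1 ≤ Subgroup.center S := fun x hx => Subgroup.mem_center_iff.2 fun s =>
    (hS1.le hx).1.2.1 s trivial
  obtain ⟨Good, hGood⟩ : ∃ Good : Subgroup S → Prop, ∀ T, Good T ↔
      ∀ (G : Type u) [Group G] [Finite G] (τ : S →* G), Situ p τ → (S1.map τ).Normal ∨ (T.map τ).Normal :=
    ⟨_, fun _ => Iff.rfl⟩
  obtain ⟨Ti, hTi⟩ : ∃ Ti, Ti = sSup {T : Subgroup S | T.Characteristic ∧ Good T} := ⟨_, rfl⟩
  have hTchar : Ti.Characteristic := characteristic_iff_map_le.2 fun φ => by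
    rw [hTi, sSup_eq_iSup, Subgroup.map_iSup]
    simp only [Subgroup.map_iSup]
    exact iSup₂_le fun T hT => le_iSup₂_of_le T hT (characteristic_iff_map_le.1 hT.1 φ)
  have hTn : ∀ (G : Type u) [Group G] [Finite G] (τ : S →* G), Situ p τ → ¬ (S1.map τ).Normal →
      (Ti.map τ).Normal := by
    intro G _ _ τ hs hnn
    refine ⟨fun x hx g => ?_⟩
    have hle : (Ti.map τ).map (MulAut.conj g).toMonoidHom ≤ Ti.map τ := by
      rw [hTi, sSup_eq_iSup, Subgroup.map_iSup, Subgroup.map_iSup]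
      simp only [Subgroup.map_iSup]
      refine iSup₂_le fun T hT => le_iSup₂_of_le T hT ?_
      rintro _ ⟨y, hy, rfl⟩
      exact (((hGood T).1 hT.2 G τ hs).resolve_left hnn).conj_mem y hy g
    exact hle ⟨x, hx, rfl⟩
  have hTzc : ∀ (G : Type u) [Group G] [Finite G] (τ : S →* G), Situ p τ → ¬ (S1.map τ).Normal →
      zc p (⊤ : Subgroup G) τ.range ≤ Ti.map τ := by
    intro G iG iF τ hs hnn
    have hw : ∀ T : {T : Subgroup S // ¬ Good T}, ∃ w : Wit p S S1,
        letI := w.grp; ¬ ((T : Subgroup S).map w.τ).Normal := by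
      intro T
      by_contra hcon
      push Not at hcon
      refine T.2 ((hGood _).2 fun G' iG' iF' τ' hs' => ?_)
      by_cases hn : (S1.map τ').Normal
      · exact Or.inl hn
      · exact Or.inr (hcon ⟨G', iG', iF', τ', hs', hn⟩)
    choose w hw using hw
    let fam : Option {T : Subgroup S // ¬ Good T} → Wit p S S1 := fun o => o.elim ⟨G, iG, iF, τ, hs, hnn⟩ w
    letI : ∀ i, Group (fam i).G := fun i => (fam i).grp
    letI : ∀ i, Finite (fam i).G := fun i => (fam i).fin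
    obtain ⟨T, hT, hTall⟩ := exists_char_inv r (fun i => (fam i).G) (fun i => (fam i).τ)
      (fun i => (fam i).situ.1) (fun i => (r.exists_bad (fam i).situ (hS1 ▸ (fam i).nn)).2.1)
      (fun i => (r.exists_bad (fam i).situ (hS1 ▸ (fam i).nn)).2.2)
    have hgood : Good T := by
      by_contra hb
      exact hw ⟨T, hb⟩ (hTall (some ⟨T, hb⟩)).1
    exact (hTall none).2.trans (map_mono (hTi ▸ le_sSup ⟨hT, hgood⟩))
  -- the second subgroup
  obtain ⟨fam2, hfam2⟩ : ∃ fam2 : Set (Subgroup S), fam2 = {A | MaxAb p (⊤ : Subgroup S) A ∧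
      ∀ B, MaxAb p (⊤ : Subgroup S) B → Nat.card ↥(B ⊓ Ti) ≤ Nat.card ↥(A ⊓ Ti)} := ⟨_, rfl⟩
  obtain ⟨A0, hA0⟩ : ∃ A0, MaxAb p (⊤ : Subgroup S) A0 := by
    by_contra hcon
    push Not at hcon
    have h1 := r.gen ⊥ fun A hA => absurd hA (hcon A)
    exact h0 (eq_bot_iff.2 fun x _ => h1 (mem_top x))
  obtain ⟨A1, hA1m, hA1⟩ := Set.exists_max_image {A | MaxAb p (⊤ : Subgroup S) A}
    (fun A => Nat.card ↥(A ⊓ Ti)) (Set.toFinite _) ⟨A0, hA0⟩
  have hA1' : A1 ∈ fam2 := hfam2 ▸ ⟨hA1m, hA1⟩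
  refine ⟨S1, sSup fam2, h0, ?_, h1char, ?_, h1Z, ⟨A1, hA1m, le_sSup hA1'⟩, fun G _ _ τ hs => ?_⟩
  · intro e
    have h1 : A1 = ⊥ := le_bot_iff.1 ((le_sSup hA1').trans e.le)
    have h2 := hA1m.card
    rw [h1, card_bot, one_mul, mu] at h2
    have h3 := (mul_eq_one.1 h2.symm).2
    exact h0 (eq_bot_iff.2 ((hS1 ▸ inf_le_left : S1 ≤ om p (⊤ : Subgroup S)).trans (eq_bot_of_card_eq _ h3).le))
  · refine characteristic_iff_map_le.2 fun φ => ?_
    rw [sSup_eq_iSup, Subgroup.map_iSup]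
    simp only [Subgroup.map_iSup]
    refine iSup₂_le fun A hA => le_iSup₂_of_le (A.map φ.toMonoidHom) ?_ le_rfl
    rw [hfam2] at hA ⊢
    refine ⟨?_, fun B hB => ?_⟩
    · have := hA.1.map (f := φ.toMonoidHom) φ.injective
      rwa [Subgroup.map_top_of_surjective φ.toMonoidHom φ.surjective] at this
    · refine (hA.2 B hB).trans_eq ?_
      conv_rhs => rw [← (characteristic_iff_map_eq.1 hTchar) φ, ← map_inf _ _ φ.toMonoidHom φ.injective,
        card_map_of_injective (f := φ.toMonoidHom) φ.injective]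
  · by_cases hnn : (S1.map τ).Normal
    · exact Or.inl hnn
    right
    have hτ := hs.1
    obtain ⟨hr, ⟨M, hM⟩, -⟩ := r.exists_bad hs (hS1 ▸ hnn)
    have hn := hTn G τ hs hnn
    have hz := hTzc G τ hs hnn
    have hTQ : Ti.map τ ≤ Cfsg.pCore p G :=
      hM.Qmax _ (map_le_range τ Ti) fun g _ x hx => hn.conj_mem x hx g
    have hcard : ∀ B : Subgroup S, Nat.card ↥(B ⊓ Ti) = Nat.card ↥(B.map τ ⊓ Ti.map τ) := fun B => by
      rw [← map_inf _ _ τ hτ, card_map_of_injective hτ]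
    have htop : (⊤ : Subgroup S).map τ = τ.range := (MonoidHom.range_eq_map τ).symm
    have hin : ∀ A ∈ fam2, A.map τ ≤ Cfsg.pCore p G := by
      intro A hA
      rw [hfam2] at hA
      by_contra hAQ
      have hAm : MaxAb p τ.range (A.map τ) := htop ▸ hA.1.map hτ
      obtain ⟨hZA, -, hR, -⟩ := hM.outer hr hAm hAQ
      have hR2 : MaxAb p ((⊤ : Subgroup S).map τ)
          (zc p (⊤ : Subgroup G) τ.range ⊔ (A.map τ ⊓ Cfsg.pCore p G)) := by rw [htop]; exact hR
      have h1 := hA.2 _ (hR2.comap hτ)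
      rw [hcard, hcard, map_comap_eq_self (hR.le.trans (le_refl τ.range))] at h1
      have h2 : A.map τ ⊓ Ti.map τ ≤
          (zc p (⊤ : Subgroup G) τ.range ⊔ (A.map τ ⊓ Cfsg.pCore p G)) ⊓ Ti.map τ :=
        le_inf ((le_inf inf_le_left (inf_le_right.trans hTQ)).trans le_sup_right) inf_le_right
      have h3 := eq_of_le_of_card_ge h2 h1
      have h4 : zc p (⊤ : Subgroup G) τ.range ≤ A.map τ :=
        (le_inf le_sup_left hz).trans (h3.ge.trans inf_le_left)
      have h5 := (hM.natural hr).cardZ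
      rw [show zc p (⊤ : Subgroup G) τ.range = om p τ.range from (inf_eq_left.2 h4).symm.trans hZA,
        mul_comm, Nat.mul_left_inj Nat.card_pos.ne'] at h5
      exact hM.SQ (eq_of_le_of_card_ge hM.QS h5.ge).ge
    refine ⟨fun x hx g => ?_⟩
    have hle : ((sSup fam2).map τ).map (MulAut.conj g).toMonoidHom ≤ (sSup fam2).map τ := by
      rw [sSup_eq_iSup, Subgroup.map_iSup, Subgroup.map_iSup]
      simp only [Subgroup.map_iSup]
      refine iSup₂_le fun A hA => ?_
      have hAQ : cj g (A.map τ) ≤ τ.range :=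
        (cj_le (hin A hA)).trans ((st_cj_eq hM.Qn (mem_top g)).le.trans hM.QS)
      have hA' : A ∈ fam2 := hA
      rw [hfam2] at hA'
      have hm := (htop ▸ hA'.1.map hτ : MaxAb p τ.range (A.map τ)).of_cj hAQ
      have hmem : (cj g (A.map τ)).comap τ ∈ fam2 := by
        rw [hfam2]
        refine ⟨(htop ▸ hm : MaxAb p ((⊤ : Subgroup S).map τ) _).comap hτ, fun B hB => (hA'.2 B hB).trans_eq ?_⟩
        rw [hcard, hcard, map_comap_eq_self hAQ, ← card_cj g (A.map τ ⊓ Ti.map τ), cj_inf,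
          st_cj_eq (fun a _ y hy => hn.conj_mem y hy a : Stable (⊤ : Subgroup G) (Ti.map τ)) (mem_top g)]
      refine le_iSup₂_of_le _ hmem ?_
      rw [map_comap_eq_self hAQ]
    exact hle ⟨x, hx, rfl⟩

end CfsgLib.PushFam
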