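import Cfsg.Agent.Lib.LocalEvenB.PushFam.Frattini

/-!
# Pushing-up families: the subgroup `S₀` for `p ≤ 3`, and the reduction for `p > 3`
-/

set_option autoImplicit false

namespace CfsgLib.PushFam

open Subgroup CfsgLib.PushUp
open CfsgLib.LocalEvenB.PushCL (phi map_phi)
open scoped commutatorElement

variable {W : Type*} [Group W]

/-- `S₀`. -/
def szero (p : ℕ) (S : Subgroup W) : Subgroup W :=
  if p = 2 then ⁅phi p S, S⁆ ⊔ phi p (phi p S)
  else if p = 3 then ⁅⁅phi p S, S⁆, S⁆ ⊔ phi p (phi p S)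
  else ⁅phi p S, S⁆ ⊔ closure ((fun x => x ^ p) '' (S : Set W))

variable [Finite W] {p : ℕ} [Fact p.Prime] {G S Q M : Subgroup W}
variable (h : Bad p G S Q M) (r : Res p S)
  (hW : zc p G S ⊓ phi p Q ≤ centralizer (G : Set W))
include h

theorem Bad.stable_S {X : Subgroup W} (hX : Stable G X) : Stable S X := fun g hg => hX g (h.SG hg)

theorem Bad.om_stable_S : Stable S (om p S) := om_stable fun _ hg _ hx => mul_mem (mul_mem hg hx) (inv_mem hg)

include r hW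

/-- A subgroup central in the module and in `Φ(Q)` lies in the centralizer. -/
theorem Bad.zc_inf_sup_le : zc p G S ⊓ ((zc p G S ⊓ centralizer (G : Set W)) ⊔ phi p Q) ≤ centralizer (G : Set W) := by
  rintro x ⟨hxZ, hx⟩
  obtain ⟨f, hf, φ, hφ, e⟩ := mem_sup_mul ((inf_le_left.trans (h.zc_le_S.trans h.SG)).trans
    (st_le_normalizer h.phi_stable')) hx
  have h1 : φ ∈ zc p G S := by
    have h2 := (zc p G S).mul_mem ((zc p G S).inv_mem hf.1) hxZ
    rwa [← e, inv_mul_cancel_left] at h2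
  rw [← e]
  exact mul_mem hf.2 (hW ⟨h1, hφ⟩)

omit hW in
/-- If the commutators of `Q` with one outer subgroup lie in `T`, so does `Φ(S)`. -/
theorem Bad.phi_le_tset {X : Subgroup W} (hXQ : Stable Q X) (hXS : Stable S X) (hΦX : phi p Q ≤ X)
    {A : Subgroup W} (hA : MaxAb p S A) (hAQ : ¬ A ≤ Q)
    (hc : ∀ o ∈ Q, ∀ a ∈ A, ⁅o, a⁆ ∈ tset Q S X hXQ) : phi p S ≤ tset Q S X hXQ := by
  obtain ⟨T, hT⟩ : ∃ T, T = tset Q S X hXQ := ⟨_, rfl⟩
  rw [← hT] at hc ⊢
  have hTs : Stable S T := hT ▸ tset_stable (h.stable_S h.Qn) hXS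
  have hΦT : phi p Q ≤ T := fun x hx => hT ▸ ⟨phi_le_self Q hx, fun s hs =>
    hΦX ((h.conj_mem_phi (h.SG hs) hx).2)⟩
  have hdec : ∀ s ∈ S, ∃ a ∈ A, ∃ q ∈ Q, a * q = s := fun s hs =>
    mem_sup_mul ((hA.le.trans h.SG).trans (st_le_normalizer h.Qn)) ((h.outer r hA hAQ).2.1.ge hs)
  have hA0 : A ⊓ Q ≤ T := by
    intro x hx
    rw [hT]
    refine ⟨hx.2, fun s hs => hΦX ?_⟩
    obtain ⟨a, ha, q, hq, rfl⟩ := hdec s hs
    have h1 := h.phi_stable' a (h.SG (hA.le ha)) _ (comm_mem_phi (p := p) hx.2 hq)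
    convert h1 using 1
    have hxa : x * a * x⁻¹ = a := by rw [mem_comm hA.comm ha hx.1, mul_inv_cancel_right]
    rw [commutatorElement_def, commutatorElement_def]
    calc x * (a * q) * x⁻¹ * (a * q)⁻¹ = (x * a * x⁻¹) * (x * q * x⁻¹ * q⁻¹) * a⁻¹ := by group
      _ = _ := by rw [hxa]
  have hall : ∀ o ∈ Q, ∀ s ∈ S, ⁅o, s⁆ ∈ T := by
    intro o ho s hs
    obtain ⟨a, ha, q, hq, rfl⟩ := hdec s hs
    have h1 := mul_mem (hc o ho a ha) (hTs a (hA.le ha) _ (hΦT (comm_mem_phi ho hq)))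
    convert h1 using 1
    simp only [commutatorElement_def]
    group
  refine phi_le (fun s hs t ht => ?_) fun s hs => ?_
  · obtain ⟨a, ha, q, hq, rfl⟩ := hdec s hs
    obtain ⟨a', ha', q', hq', rfl⟩ := hdec t ht
    have h1 : ⁅a, a' * q'⁆ ∈ T := by
      have h2 := hTs a' (hA.le ha') _ (inv_mem (hall q' hq' a (hA.le ha)))
      convert h2 using 1
      have e : a * a' * a⁻¹ = a' := by rw [mem_comm hA.comm ha' ha, mul_inv_cancel_right]
      rw [commutatorElement_inv, commutatorElement_def, commutatorElement_def]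
      calc a * (a' * q') * a⁻¹ * (a' * q')⁻¹ = (a * a' * a⁻¹) * (a * q' * a⁻¹ * q'⁻¹) * a'⁻¹ := by group
        _ = _ := by rw [e]
    have h3 := mul_mem (hTs a (hA.le ha) _ (hall q hq (a' * q') (mul_mem (hA.le ha') (h.QS hq')))) h1
    convert h3 using 1
    simp only [commutatorElement_def]
    group
  · obtain ⟨a, ha, q, hq, rfl⟩ := hdec s hs
    have key : ∀ n : ℕ, (a * q) ^ n * (a ^ n * q ^ n)⁻¹ ∈ T := by
      intro n
      induction n with
      | zero => simp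
      | succ n ih =>
        have h1 := mul_mem ih (hTs (a ^ n) (pow_mem (hA.le ha) n) _ (hall (q ^ n) (pow_mem hq n) a (hA.le ha)))
        convert h1 using 1
        rw [commutatorElement_def, pow_succ (a * q), pow_succ a, pow_succ q]
        group
    have h1 := mul_mem (key p) (mul_mem (hA0 ⟨pow_mem ha p, h.pw a (hA.le ha)⟩) (hΦT (pow_mem_phi hq)))
    rwa [inv_mul_cancel_right] at h1

/-- The commutators lie in `T` once `[a, [o, a]]` is trivial on the module. -/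
theorem Bad.commutator_tset
    {A : Subgroup W} (hA : MaxAb p S A) (hAQ : ¬ A ≤ Q)
    (hsq : ∀ o ∈ Q, ∀ a ∈ A, a ∉ Q → ⁅a, ⁅o, a⁆⁆ ∈ (zc p G S ⊓ centralizer (G : Set W)) ⊔ phi p Q) :
    phi p S ≤ tset Q S (phi p Q) (fun g hg => h.phi_stable' g (h.SG (h.QS hg))) := by
  refine h.phi_le_tset r _ (h.stable_S h.phi_stable') le_rfl hA hAQ fun o ho a ha => ?_
  refine mem_tset.2 ⟨?_, fun s hs => ?_⟩
  · rw [commutatorElement_def, mul_assoc, mul_assoc, ← mul_assoc a]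
    exact mul_mem ho (h.Qn a (h.SG (hA.le ha)) _ (inv_mem ho))
  by_cases haQ : a ∈ Q
  · exact (h.conj_mem_phi (h.SG hs) (comm_mem_phi ho haQ)).2
  obtain ⟨Φ, hΦ⟩ : ∃ Φ, Φ = phi p Q := ⟨_, rfl⟩
  have hΦs : Stable G Φ := hΦ ▸ h.phi_stable'
  have haG := h.SG (hA.le ha)
  obtain ⟨w, hw, k, hk, e⟩ := mem_sup_mul ((h.zc_cent (sup_le inf_le_right (phi_le_self Q))).trans
    (centralizer_le_normalizer _)) (h.commutator_mem r hW hA hAQ ho ha)
  obtain ⟨a0, ha0, φ, hφ, e'⟩ := mem_sup_mul ((inf_le_left.trans (hA.le.trans h.SG)).trans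
    (st_le_normalizer h.phi_stable')) hk
  rw [← hΦ] at hφ
  have hwG := h.SG (h.zc_le_S hw)
  have ha0G := h.SG (hA.le ha0.1)
  -- `[a, k]` lies in `Φ(Q)`
  have h1 : ⁅a, k⁆ ∈ Φ := by
    have h2 := hΦs a0 ha0G _ (hΦs.comm_right haG hφ)
    convert h2 using 1
    have ec : a * a0 * a⁻¹ = a0 := by rw [mem_comm hA.comm ha0.1 ha, mul_inv_cancel_right]
    rw [← e', commutatorElement_def, commutatorElement_def]
    calc a * (a0 * φ) * a⁻¹ * (a0 * φ)⁻¹ = (a * a0 * a⁻¹) * (a * φ * a⁻¹ * φ⁻¹) * a0⁻¹ := by group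
      _ = _ := by rw [ec]
  -- so `w` lies on the line
  have h3 : ⁅a, w⁆ ∈ zc p G S ⊓ ((zc p G S ⊓ centralizer (G : Set W)) ⊔ phi p Q) := by
    refine ⟨(zc_stable G S).comm_right haG hw, ?_⟩
    show ⁅a, w⁆ ∈ (zc p G S ⊓ centralizer (G : Set W)) ⊔ phi p Q
    have h4 := Subgroup.mul_mem _ (hsq o ho a ha haQ) (mem_sup_right (hΦ ▸ hΦs w hwG _ (inv_mem h1)))
    convert h4 using 1
    rw [← e]
    simp only [commutatorElement_def]
    group
  have hmov : a * w = w * a := by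
    refine (h.natural r).mov a (hA.le ha) w hw ?_
    have h5 := inv_mem (h.zc_inf_sup_le r hW h3)
    convert h5 using 1
    rw [commutatorElement_def]
    group
  have hwom : w ∈ om p S := (h.natural r).fixed a (hA.le ha) haQ w hw hmov
  -- the commutator with `s`
  obtain ⟨a', ha', q, hq, es⟩ := mem_sup_mul ((hA.le.trans h.SG).trans (st_le_normalizer h.Qn))
    ((h.outer r hA hAQ).2.1.ge hs)
  have h6 : ⁅a0, s⁆ ∈ Φ := by
    have h7 := hΦs a' (h.SG (hA.le ha')) _ (hΦ ▸ comm_mem_phi (p := p) ha0.2 hq)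
    convert h7 using 1
    have ec : a0 * a' * a0⁻¹ = a' := by rw [mem_comm hA.comm ha' ha0.1, mul_inv_cancel_right]
    rw [← es, commutatorElement_def, commutatorElement_def]
    calc a0 * (a' * q) * a0⁻¹ * (a' * q)⁻¹ = (a0 * a' * a0⁻¹) * (a0 * q * a0⁻¹ * q⁻¹) * a'⁻¹ := by group
      _ = _ := by rw [ec]
  have h8 : ⁅k, s⁆ ∈ Φ := by
    rw [← e']
    have h9 := mul_mem (hΦs a0 ha0G _ (hΦs.comm_left (h.SG hs) hφ)) h6
    convert h9 using 1
    simp only [commutatorElement_def]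
    group
  have h10 : ⁅w * k, s⁆ = w * ⁅k, s⁆ * w⁻¹ := by
    have ec : w * s * w⁻¹ = s := by rw [← hwom.2.1 s hs, mul_inv_cancel_right]
    rw [commutatorElement_def, commutatorElement_def]
    calc w * k * s * (w * k)⁻¹ * s⁻¹ = w * (k * s * k⁻¹) * (w⁻¹ * s⁻¹) := by group
      _ = w * (k * s * k⁻¹) * (s⁻¹ * w⁻¹) := by
          rw [← _root_.mul_inv_rev, ← _root_.mul_inv_rev, hwom.2.1 s hs]
      _ = _ := by group
  rw [← e, h10, ← hΦ]
  exact hΦs w hwG _ h8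

/-- For `p = 2` the square of the action is trivial. -/
theorem Bad.sq_two (hp : p = 2) {A : Subgroup W} (hA : MaxAb p S A) :
    ∀ o ∈ Q, ∀ a ∈ A, a ∉ Q → ⁅a, ⁅o, a⁆⁆ ∈ (zc p G S ⊓ centralizer (G : Set W)) ⊔ phi p Q := by
  intro o ho a ha _
  refine mem_sup_right ?_
  have haG := h.SG (hA.le ha)
  obtain ⟨c, hc⟩ : ∃ c, c = ⁅o, a⁆ := ⟨_, rfl⟩
  have hcQ : c ∈ Q := hc ▸ h.Qn.comm_left haG ho
  have h1 : c * (a * c * a⁻¹) ∈ phi p Q := by
    have h2 := comm_mem_phi (p := p) ho (hp ▸ h.pw a (hA.le ha) : a ^ 2 ∈ Q)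
    convert h2 using 1
    rw [hc, commutatorElement_def, commutatorElement_def, pow_two]
    group
  have h3 : c ^ 2 ∈ phi p Q := hp ▸ pow_mem_phi hcQ
  have h4 := mul_mem (h.phi_stable' _ (h.SG (h.QS (inv_mem hcQ))) _ h1) (inv_mem h3)
  rw [← hc]
  convert h4 using 1
  rw [commutatorElement_def, pow_two]
  group

omit h r hW in
theorem szero_two (hp : p = 2) : szero p S = ⁅phi p S, S⁆ ⊔ phi p (phi p S) := if_pos hp

/-- `S₀ ∩ Z` is central for `p = 2`. -/
theorem Bad.szero_central_two (hp : p = 2) : om p S ⊓ szero p S ≤ centralizer (G : Set W) := by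
  obtain ⟨A, hA, hAQ⟩ := h.exists_outer r
  have hT := h.commutator_tset r hW hA hAQ (h.sq_two r hW hp hA)
  rw [szero_two hp]
  refine le_trans (inf_le_inf (om_le_zc G S) (sup_le (commutator_le.2 fun x hx s hs => ?_)
    (phi_mono fun x hx => ?_))) hW
  · exact (mem_tset.1 (hT hx)).2 s hs
  · exact (mem_tset.1 (hT hx)).1

/-- `S₀ ∩ Z` is central for `p = 3`. -/
theorem Bad.szero_central_three (hp : p = 3) : om p S ⊓ szero p S ≤ centralizer (G : Set W) := by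
  obtain ⟨A, hA, hAQ⟩ := h.exists_outer r
  obtain ⟨X, hX⟩ : ∃ X, X = om p S ⊔ phi p Q := ⟨_, rfl⟩
  have hΦn : ∀ {H : Subgroup W}, H ≤ S → H ≤ normalizer (phi p Q : Set W) :=
    fun hH => (hH.trans h.SG).trans (st_le_normalizer h.phi_stable')
  have homS : om p S ≤ S := fun x hx => hx.1
  have hXS : Stable S X := by
    intro g hg x hx
    rw [hX] at hx ⊢
    obtain ⟨z, hz, φ, hφ, e⟩ := mem_sup_mul (hΦn homS) hx
    have h1 := Subgroup.mul_mem _ (mem_sup_left (h.om_stable_S g hg z hz) : g * z * g⁻¹ ∈ om p S ⊔ phi p Q)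
      (mem_sup_right (h.phi_stable' g (h.SG hg) φ hφ))
    convert h1 using 1
    rw [← e]
    group
  have hXQ : Stable Q X := fun g hg => hXS g (h.QS hg)
  have hmem : ∀ x ∈ X, ∀ s ∈ S, ⁅x, s⁆ ∈ phi p Q := by
    intro x hx s hs
    rw [hX] at hx
    obtain ⟨z, hz, φ, hφ, rfl⟩ := mem_sup_mul (hΦn homS) hx
    have h1 := h.phi_stable' z (h.SG hz.1) _ (h.conj_mem_phi (h.SG hs) hφ).2
    convert h1 using 1
    have ec : z * s * z⁻¹ = s := by rw [← hz.2.1 s hs, mul_inv_cancel_right]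
    rw [commutatorElement_def, commutatorElement_def]
    calc z * φ * s * (z * φ)⁻¹ * s⁻¹ = z * (φ * s * φ⁻¹) * (z⁻¹ * s⁻¹) := by group
      _ = z * (φ * s * φ⁻¹) * (s⁻¹ * z⁻¹) := by rw [← _root_.mul_inv_rev, ← _root_.mul_inv_rev, hz.2.1 s hs]
      _ = _ := by group
  have hΦX : phi p Q ≤ X := hX ▸ le_sup_right
  have hZT : zc p G S ≤ tset Q S X hXQ := fun z hz => ⟨h.zc_le_Q hz, fun s hs => by
    rw [hX]
    refine mem_sup_left ?_
    have := inv_mem ((h.natural r).quad s hs z hz)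
    convert this using 1
    rw [commutatorElement_def]
    group⟩
  have hA0T : A ⊓ Q ≤ tset Q S X hXQ := by
    intro x hx
    refine ⟨hx.2, fun s hs => hΦX ?_⟩
    obtain ⟨a', ha', q, hq, rfl⟩ := mem_sup_mul ((hA.le.trans h.SG).trans (st_le_normalizer h.Qn))
      ((h.outer r hA hAQ).2.1.ge hs)
    have h7 := h.phi_stable' a' (h.SG (hA.le ha')) _ (comm_mem_phi (p := p) hx.2 hq)
    convert h7 using 1
    have ec : x * a' * x⁻¹ = a' := by rw [mem_comm hA.comm ha' hx.1, mul_inv_cancel_right]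
    rw [commutatorElement_def, commutatorElement_def]
    calc x * (a' * q) * x⁻¹ * (a' * q)⁻¹ = (x * a' * x⁻¹) * (x * q * x⁻¹ * q⁻¹) * a'⁻¹ := by group
      _ = _ := by rw [ec]
  have hΦT : phi p Q ≤ tset Q S X hXQ := fun x hx =>
    ⟨phi_le_self Q hx, fun s hs => hΦX (h.conj_mem_phi (h.SG hs) hx).2⟩
  have hT := h.phi_le_tset r hXQ hXS hΦX hA hAQ fun o ho a ha =>
    sup_le hZT (sup_le hA0T hΦT) (h.commutator_mem r hW hA hAQ ho ha)
  have h1 : ⁅phi p S, S⁆ ≤ X := commutator_le.2 fun x hx s hs => (mem_tset.1 (hT hx)).2 s hs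
  rw [szero, if_neg (by omega : ¬ p = 2), if_pos hp]
  refine le_trans (inf_le_inf (om_le_zc G S) (sup_le (commutator_le.2 fun x hx s hs => hmem x (h1 hx) s hs)
    (phi_mono fun x hx => (mem_tset.1 (hT hx)).1))) hW

end CfsgLib.PushFam
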