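import Cfsg.Agent.Lib.LocalEven.PushUp.Local
import Cfsg.Agent.Lib.LocalEvenB.PushFam.Szero

/-!
# Pushing-up families: transport along an injective homomorphism
-/

set_option autoImplicit false

namespace CfsgLib.PushFam

open Subgroup CfsgLib.PushUp
open CfsgLib.LocalEvenB.PushCL (phi map_phi)
open scoped commutatorElement

variable {K W : Type*} [Group K] [Group W] {p : ℕ} {f : K →* W}

theorem mem_map_inj (hf : Function.Injective f) {A : Subgroup K} {x : K} : f x ∈ A.map f ↔ x ∈ A :=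
  ⟨fun ⟨y, hy, e⟩ => hf e ▸ hy, fun hx => ⟨x, hx, rfl⟩⟩

theorem map_inf_centralizer' (hf : Function.Injective f) (T X : Subgroup K) :
    (T ⊓ centralizer (X : Set K)).map f = T.map f ⊓ centralizer ((X.map f : Subgroup W) : Set W) := by
  ext y
  constructor
  · rintro ⟨x, hx, rfl⟩
    refine ⟨⟨x, hx.1, rfl⟩, mem_centralizer_iff.2 ?_⟩
    rintro _ ⟨z, hz, rfl⟩
    rw [← map_mul, ← map_mul, mem_centralizer_iff.1 hx.2 z hz]
  · rintro ⟨⟨x, hx, rfl⟩, hc⟩
    refine ⟨x, ⟨hx, mem_centralizer_iff.2 fun z hz => hf ?_⟩, rfl⟩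
    rw [map_mul, map_mul, mem_centralizer_iff.1 hc (f z) ⟨z, hz, rfl⟩]

theorem map_om (hf : Function.Injective f) (T : Subgroup K) : (om p T).map f = om p (T.map f) := by
  ext y
  constructor
  · rintro ⟨x, ⟨hx, hc, hp⟩, rfl⟩
    refine ⟨⟨x, hx, rfl⟩, ?_, by rw [← map_pow, hp, map_one]⟩
    rintro _ ⟨s, hs, rfl⟩
    rw [← map_mul, ← map_mul, hc s hs]
  · rintro ⟨⟨x, hx, rfl⟩, hc, hp⟩
    exact ⟨x, ⟨hx, fun s hs => hf (by rw [map_mul, map_mul, hc _ ⟨s, hs, rfl⟩]), hf (by rw [map_pow, hp, map_one])⟩, rfl⟩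

theorem map_zc (hf : Function.Injective f) (G T : Subgroup K) :
    (zc p G T).map f = zc p (G.map f) (T.map f) := by
  rw [zc, zc, MonoidHom.map_closure, ← map_om hf]
  congr 1
  ext y
  constructor
  · rintro ⟨x, ⟨g, hg, hx⟩, rfl⟩
    exact ⟨f g, ⟨g, hg, rfl⟩, ⟨_, hx, by rw [map_mul, map_mul, map_inv]⟩⟩
  · rintro ⟨_, ⟨g, hg, rfl⟩, ⟨z, hz, e⟩⟩
    refine ⟨g * z * g⁻¹, ⟨g, hg, by simpa [mul_assoc] using hz⟩, ?_⟩
    rw [map_mul, map_mul, map_inv, e]; group

theorem map_szero (f : K →* W) (T : Subgroup K) : (szero p T).map f = szero p (T.map f) := by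
  unfold szero
  split_ifs
  · rw [Subgroup.map_sup, map_commutator, map_phi, map_phi, map_phi]
  · rw [Subgroup.map_sup, map_commutator, map_commutator, map_phi, map_phi, map_phi]
  · rw [Subgroup.map_sup, map_commutator, map_phi, MonoidHom.map_closure, Set.image_image, coe_map, Set.image_image]
    simp only [map_pow]

theorem map_mu (hf : Function.Injective f) (T : Subgroup K) : mu p (T.map f) = mu p T := by
  rw [mu, mu, ← map_om hf, card_map_of_injective hf, card_map_of_injective hf]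

theorem MaxAb.map (hf : Function.Injective f) {T A : Subgroup K} (h : MaxAb p T A) :
    MaxAb p (T.map f) (A.map f) := by
  refine ⟨map_mono h.le, ?_, by rw [map_mu hf, card_map_of_injective hf, h.card]⟩
  rintro _ ⟨x, hx, rfl⟩
  refine mem_centralizer_iff.2 ?_
  rintro _ ⟨y, hy, rfl⟩
  rw [← map_mul, ← map_mul, mem_centralizer_iff.1 (h.comm hx) y hy]

theorem MaxAb.comap (hf : Function.Injective f) {T : Subgroup K} {A : Subgroup W} (h : MaxAb p (T.map f) A) :
    MaxAb p T (A.comap f) := by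
  have he : (A.comap f).map f = A := map_comap_eq_self (h.le.trans (map_le_range f T))
  refine ⟨fun x hx => (mem_map_inj hf).1 (h.le hx), fun x hx => mem_centralizer_iff.2 fun y hy => hf ?_, ?_⟩
  · rw [map_mul, map_mul, mem_centralizer_iff.1 (h.comm hx) (f y) hy]
  · rw [← card_map_of_injective hf (K := A.comap f), he, h.card, map_mu hf]

theorem Res.map [Finite K] (hf : Function.Injective f) {T : Subgroup K} (r : Res p T) : Res p (T.map f) where
  pT := r.pT.map f
  center := by
    rintro _ ⟨x, hx, rfl⟩ hc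
    rw [← map_pow, r.center x hx fun s hs => hf (by rw [map_mul, map_mul, hc _ ⟨s, hs, rfl⟩]), map_one]
  cd X hX := by
    have he : (X.comap f).map f = X := map_comap_eq_self (hX.trans (map_le_range f T))
    have h1 := r.cd (X.comap f) fun x hx => (mem_map_inj hf).1 (hX hx)
    rw [← card_map_of_injective hf (K := X.comap f), ← card_map_of_injective hf (K := T ⊓ _),
      map_inf_centralizer' hf, he, ← map_mu hf] at h1
    exact h1
  gen H hH := Subgroup.map_le_iff_le_comap.2 (r.gen _ fun _ hA => Subgroup.map_le_iff_le_comap.1 (hH _ (hA.map hf)))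
  cl X hX := by
    have he : (X.comap f).map f = X := map_comap_eq_self (hX.le.trans (map_le_range f T))
    have h0 : Cl p T (X.comap f) := ⟨fun x hx => (mem_map_inj hf).1 (hX.le hx), by
      rw [← card_map_of_injective hf (K := X.comap f), ← card_map_of_injective hf (K := _ ⊓ centralizer _),
        map_inf_centralizer' hf, he, hX.card, map_mu hf]⟩
    obtain ⟨A, hA, hAX⟩ := r.cl _ h0
    exact ⟨A.map f, hA.map hf, (map_mono hAX).trans he.le⟩

variable [Finite K] [Fact p.Prime]

theorem Bad.map (hf : Function.Injective f) {G S Q M : Subgroup K} (h : Bad p G S Q M) :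
    Bad p (G.map f) (S.map f) (Q.map f) (M.map f) := by
  have hr : ∀ {A : Subgroup W} {B : Subgroup K}, A ≤ B.map f → (A.comap f).map f = A := fun hA =>
    map_comap_eq_self (hA.trans (map_le_range f _))
  have hle : ∀ {A : Subgroup W} {B : Subgroup K}, A ≤ B.map f → A.comap f ≤ B := fun hA x hx =>
    (mem_map_inj hf).1 (hA hx)
  exact
    { SG := map_mono h.SG
      MG := map_mono h.MG
      SM := map_mono h.SM
      Mne := fun e => h.Mne (map_injective hf e)
      pS := h.pS.map f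
      syl := fun H hH hSH D hDH hD => by
        obtain ⟨k, hk, hDk⟩ := h.syl (H.comap f) (hle hH) (fun x hx => hSH ⟨x, hx, rfl⟩) (D.comap f)
          (comap_mono hDH) (hD.comap_of_injective f hf)
        refine ⟨f k, hk, fun d hd => ?_⟩
        obtain ⟨x, hx, rfl⟩ := hDH.trans hH hd
        obtain ⟨y, hy, e⟩ := hDk (show x ∈ D.comap f from hd)
        have e' : k * y * k⁻¹ = x := e
        rw [← e', map_mul, map_mul, map_inv]
        exact conj_mem_cj ⟨y, hy, rfl⟩
      huniq := fun H hSH hH hne => by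
        rw [← hr hH]
        exact map_mono (h.huniq _ (fun x hx => hSH ⟨x, hx, rfl⟩) (hle hH) fun e => hne (by rw [← hr hH, e]))
      QS := map_mono h.QS
      SQ := fun e => h.SQ fun x hx => (mem_map_inj hf).1 (e ⟨x, hx, rfl⟩)
      Qn := by
        rintro _ ⟨g, hg, rfl⟩ _ ⟨x, hx, rfl⟩
        exact ⟨g * x * g⁻¹, h.Qn g hg x hx, by rw [map_mul, map_mul, map_inv]⟩
      Qmax := fun D hD hst => by
        rw [← hr hD]
        exact map_mono (h.Qmax _ (hle hD) fun g hg x hx => by
          rw [mem_comap, map_mul, map_mul, map_inv]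
          exact hst _ ⟨g, hg, rfl⟩ _ hx)
      selfC := by rw [← map_inf_centralizer' hf]; exact map_mono h.selfC
      ti := by
        rintro _ ⟨g, hg, rfl⟩ hgM _ ⟨x, hx, rfl⟩ hx'
        rw [← map_inv, ← map_mul, ← map_mul, mem_map_inj hf] at hx'
        exact ⟨x, h.ti g hg (fun hc => hgM ⟨g, hc, rfl⟩) x hx hx', rfl⟩
      ab := by
        rintro _ ⟨x, hx, rfl⟩ _ ⟨y, hy, rfl⟩
        rw [← map_commutatorElement]
        exact ⟨_, h.ab x hx y hy, rfl⟩
      pw := by
        rintro _ ⟨x, hx, rfl⟩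
        rw [← map_pow]
        exact ⟨_, h.pw x hx, rfl⟩
      nfix := fun e => h.nfix fun x hx => by
        have h1 : f x ∈ om p (S.map f) := map_om hf S ▸ ⟨x, hx, rfl⟩
        exact mem_centralizer_iff.2 fun g hg => hf (by
          rw [map_mul, map_mul, mem_centralizer_iff.1 (e h1) (f g) ⟨g, hg, rfl⟩]) }

theorem phiG_map (hf : Function.Injective f) {G Z Q : Subgroup K}
    (h : ¬ Z ⊓ phi p Q ≤ centralizer (G : Set K)) :
    ¬ Z.map f ⊓ phi p (Q.map f) ≤ centralizer ((G.map f : Subgroup W) : Set W) := by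
  intro e
  refine h fun x hx => mem_centralizer_iff.2 fun g hg => hf ?_
  have h1 : f x ∈ Z.map f ⊓ phi p (Q.map f) := ⟨⟨x, hx.1, rfl⟩, map_phi p f Q ▸ ⟨x, hx.2, rfl⟩⟩
  rw [map_mul, map_mul, mem_centralizer_iff.1 (e h1) (f g) ⟨g, hg, rfl⟩]

/-! ### The rank one hypotheses -/

/-- The hypotheses on an embedding of a group as a Sylow subgroup. -/
def Situ (p : ℕ) {S G : Type*} [Group S] [Group G] (τ : S →* G) : Prop :=
  Function.Injective τ ∧ (∃ P : Sylow p G, (P : Subgroup G) = τ.range) ∧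
    centralizer (Cfsg.pCore p G : Set G) ≤ Cfsg.pCore p G ∧
    (∃! M : Subgroup G, IsCoatom M ∧ τ.range ≤ M) ∧
    ∃ (K : Subgroup G) (_ : K.Normal) (F : Type) (_ : Field F) (_ : Fintype F) (n : ℕ),
      1 ≤ n ∧ Fintype.card F = p ^ n ∧ Nonempty (G ⧸ K ≃* Matrix.ProjectiveSpecialLinearGroup (Fin 2) F)

theorem Situ.exists_bad {S G : Type*} [Group S] [Group G] [Finite G] {τ : S →* G} (hτ : Situ p τ)
    (hnf : ¬ om p τ.range ≤ centralizer ((⊤ : Subgroup G) : Set G)) :
    ∃ M, Bad p (⊤ : Subgroup G) τ.range (Cfsg.pCore p G) M := by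
  obtain ⟨-, ⟨P, hP⟩, hC, hM, K, hK, F, iF, iF', n, hn, hF, hiso⟩ := hτ
  rw [← hP] at hM hnf ⊢
  obtain ⟨M, h⟩ := exists_rankOne P hM K F n hn hF hiso
  exact ⟨M,
    { SG := le_top
      MG := le_top
      SM := h.Sle
      Mne := h.Mne
      pS := P.2
      syl := fun H _ hSH D hDH hD => by
        obtain ⟨R, hR⟩ := (hD.comap_of_injective H.subtype (Subgroup.subtype_injective _)).exists_le_sylow
        obtain ⟨c, hc⟩ := MulAction.exists_smul_eq (↥H) (P.subtype hSH) R
        refine ⟨c, c.2, fun d hd => ?_⟩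
        have h1 : (⟨d, hDH hd⟩ : ↥H) ∈ (c • P.subtype hSH : Sylow p ↥H) :=
          hc.symm ▸ hR (show (⟨d, hDH hd⟩ : ↥H) ∈ D.comap H.subtype from hd)
        obtain ⟨w, hw, e⟩ := h1
        have e' : (c : G) * w * (c : G)⁻¹ = d := congrArg Subtype.val e
        rw [← e']
        exact conj_mem_cj hw
      huniq := fun H hSH _ hne => h.huniq H hSH hne
      QS := CfsgLib.Core.pCore_le_sylow P
      SQ := h.SQ
      Qn := fun g _ x hx => (CfsgLib.Core.normal_pCore p G).conj_mem x hx g
      Qmax := fun D hD hst => by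
        haveI : D.Normal := ⟨fun x hx g => hst g trivial x hx⟩
        exact CfsgLib.Core.le_pCore (P.2.to_le hD)
      selfC := inf_le_right.trans hC
      ti := fun g _ => h.ti g
      ab := h.ab
      pw := h.pw
      nfix := hnf }⟩

end CfsgLib.PushFam
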