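import Cfsg.Agent.Lib.LocalEvenB.PushFam.Bound
import Cfsg.Agent.Lib.LocalEvenB.PushFam.Transport

/-!
# Pushing-up families: a family inside one permutation group
-/

set_option autoImplicit false

namespace CfsgLib.PushFam

open Subgroup CfsgLib.PushUp
open CfsgLib.LocalEvenB.PushCL (phi map_phi)

universe u v

/-- The permutations given by left translations, transported along a bijection. -/
def leftHom {G Y Z : Type*} [Group G] (E : G × Y ≃ Z) : G →* Equiv.Perm Z where
  toFun g := E.symm.trans (((Equiv.mulLeft g).prodCongr (Equiv.refl Y)).trans E)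
  map_one' := Equiv.ext fun z => by
    show E (1 * (E.symm z).1, (E.symm z).2) = z
    rw [one_mul]
    exact E.apply_symm_apply z
  map_mul' g k := Equiv.ext fun z => by
    show E (g * k * (E.symm z).1, (E.symm z).2) =
      E (g * (E.symm (E (k * (E.symm z).1, (E.symm z).2))).1, (E.symm (E (k * (E.symm z).1, (E.symm z).2))).2)
    rw [E.symm_apply_apply, mul_assoc]

theorem leftHom_injective {G Y Z : Type*} [Group G] [Nonempty Y] (E : G × Y ≃ Z) :
    Function.Injective (leftHom E) := fun g k e => by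
  obtain ⟨y⟩ := (inferInstance : Nonempty Y)
  have h1 := Equiv.congr_fun e (E (1, y))
  change E (g * (E.symm (E (1, y))).1, _) = E (k * (E.symm (E (1, y))).1, _) at h1
  rw [E.symm_apply_apply, mul_one, mul_one] at h1
  exact congrArg Prod.fst (E.injective h1)

/-- A group with an embedded group is a product of it and a set of cosets, compatibly with left translation. -/
theorem exists_split {S : Type u} {G : Type v} [Group S] [Group G] (τ : S →* G) (hτ : Function.Injective τ) :
    ∃ e : G ≃ S × Quotient (QuotientGroup.rightRel τ.range),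
      ∀ s g, e (τ s * g) = (s * (e g).1, (e g).2) := by
  classical
  obtain ⟨r, hr⟩ : ∃ r : G → G, ∀ g, r g = (Quotient.mk (QuotientGroup.rightRel τ.range) g).out := ⟨_, fun _ => rfl⟩
  have hmem : ∀ g, g * (r g)⁻¹ ∈ τ.range := fun g => by
    rw [hr]
    exact QuotientGroup.rightRel_apply.1 (Quotient.mk_out (s := QuotientGroup.rightRel τ.range) g)
  have hinv : ∀ (s : S) g, Quotient.mk (QuotientGroup.rightRel τ.range) (τ s * g) =
      Quotient.mk (QuotientGroup.rightRel τ.range) g := fun s g =>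
    Quotient.sound (s := QuotientGroup.rightRel τ.range)
      (QuotientGroup.rightRel_apply.2 ⟨s⁻¹, by rw [map_inv]; group⟩)
  choose s hs using hmem
  refine ⟨⟨fun g => (s g, Quotient.mk _ g), fun x => τ x.1 * x.2.out, fun g => ?_, fun x => ?_⟩, fun t g => ?_⟩
  · show τ (s g) * (Quotient.mk (QuotientGroup.rightRel τ.range) g).out = g
    rw [hs, ← hr, inv_mul_cancel_right]
  · obtain ⟨x, c⟩ := x
    have hc : Quotient.mk (QuotientGroup.rightRel τ.range) (τ x * c.out) = c :=
      (hinv x c.out).trans (Quotient.out_eq c)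
    refine Prod.ext (hτ ?_) hc
    show τ (s (τ x * c.out)) = τ x
    rw [hs, hr, hc, mul_inv_cancel_right]
  · refine Prod.ext (hτ ?_) (hinv t g)
    show τ (s (τ t * g)) = τ (t * s g)
    rw [map_mul, hs, hs, hr, hr, hinv, mul_assoc]

/-- A family of groups over the same group has a common characteristic subgroup normal in all. -/
theorem exists_char_inv {p : ℕ} [Fact p.Prime] {S : Type u} [Group S] [Finite S] (r : Res p (⊤ : Subgroup S))
    {ι : Type u} [Finite ι] (G : ι → Type u) [∀ i, Group (G i)] [∀ i, Finite (G i)] (τ : ∀ i, S →* G i)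
    (hτ : ∀ i, Function.Injective (τ i))
    (hbad : ∀ i, ∃ M, Bad p (⊤ : Subgroup (G i)) (τ i).range (Cfsg.pCore p (G i)) M)
    (hphi : ∀ i, ¬ zc p (⊤ : Subgroup (G i)) (τ i).range ⊓ phi p (Cfsg.pCore p (G i)) ≤
      centralizer ((⊤ : Subgroup (G i)) : Set (G i))) :
    ∃ T : Subgroup S, T.Characteristic ∧
      ∀ i, (T.map (τ i)).Normal ∧ zc p (⊤ : Subgroup (G i)) (τ i).range ≤ T.map (τ i) := by
  classical
  rcases isEmpty_or_nonempty ι with hι | hι
  · exact ⟨⊥, inferInstance, fun i => hι.elim i⟩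
  let X : Type u := ∀ i, Quotient (QuotientGroup.rightRel (τ i).range)
  haveI : Nonempty X := ⟨fun i => Quotient.mk _ 1⟩
  let W : Type u := Equiv.Perm (S × X)
  haveI : Finite X := inferInstance
  haveI : Finite W := inferInstance
  let ρ : S →* W := leftHom (Equiv.refl (S × X))
  have hρ : Function.Injective ρ := leftHom_injective _
  have hex : ∀ i, ∃ f : G i →* W, Function.Injective f ∧ ∀ s, f (τ i s) = ρ s := by
    intro i
    obtain ⟨e, he⟩ := exists_split (τ i) (hτ i)
    let Y : Type u := ∀ j : {j // j ≠ i}, Quotient (QuotientGroup.rightRel (τ j).range)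
    haveI : Nonempty Y := ⟨fun j => Quotient.mk _ 1⟩
    let E : G i × Y ≃ S × X := ((e.prodCongr (Equiv.refl Y)).trans (Equiv.prodAssoc _ _ _)).trans
      ((Equiv.refl S).prodCongr (Equiv.piSplitAt i fun j => Quotient (QuotientGroup.rightRel (τ j).range)).symm)
    refine ⟨leftHom E, leftHom_injective E, fun s => Equiv.ext fun z => ?_⟩
    obtain ⟨⟨g, y⟩, rfl⟩ := E.surjective z
    show E (τ i s * (E.symm (E (g, y))).1, (E.symm (E (g, y))).2) = (s * (E (g, y)).1, (E (g, y)).2)
    rw [E.symm_apply_apply]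
    show ((e (τ i s * g)).1, (Equiv.piSplitAt i fun j => Quotient (QuotientGroup.rightRel (τ j).range)).symm ((e (τ i s * g)).2, y)) = _
    rw [he]
    rfl
  choose f hf hfρ using hex
  choose M hM using hbad
  obtain ⟨S0, hS0⟩ : ∃ S0, S0 = ρ.range := ⟨_, rfl⟩
  have hrange : ∀ i, (τ i).range.map (f i) = S0 := fun i => by
    rw [hS0, MonoidHom.map_range]
    exact congrArg _ (MonoidHom.ext (hfρ i))
  have r0 : Res p S0 := by
    have := r.map hρ
    rwa [← MonoidHom.range_eq_map, ← hS0] at this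
  have hb0 : ∀ i, Bad p ((⊤ : Subgroup (G i)).map (f i)) S0 ((Cfsg.pCore p (G i)).map (f i)) ((M i).map (f i)) :=
    fun i => by have := (hM i).map (hf i); rwa [hrange i] at this
  obtain ⟨base, hbase⟩ : ∃ base : ι → Vx W, ∀ i, base i = ⟨(⊤ : Subgroup (G i)).map (f i),
      (Cfsg.pCore p (G i)).map (f i), (zc p (⊤ : Subgroup (G i)) (τ i).range).map (f i)⟩ := ⟨_, fun _ => rfl⟩
  let At : Vx W → Subgroup W → Prop := fun v T => ∃ i x, v = (base i).tr x ∧ T = cj x S0
  have hz : ∀ i, (base i).Z = zc p (base i).G S0 := fun i => by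
    rw [hbase]
    show (zc p _ _).map (f i) = zc p _ S0
    rw [map_zc (hf i), hrange]
  have hs : Sys p At :=
    { loc := by
        rintro v T ⟨i, x, rfl, rfl⟩
        refine ⟨cj x ((M i).map (f i)), ?_⟩
        have := (hb0 i).translate x
        rw [hbase]
        exact this
      res := by
        rintro v T ⟨i, x, rfl, rfl⟩
        exact r0.translate x
      zeq := by
        rintro v T ⟨i, x, rfl, rfl⟩
        show cj x (base i).Z = zc p (cj x (base i).G) (cj x S0)
        rw [zc_cj, hz]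
      phiG := by
        rintro v T ⟨i, x, rfl, rfl⟩
        refine phiG_map (f := (MulAut.conj x).toMonoidHom) (MulAut.conj x).injective ?_
        rw [hbase]
        exact phiG_map (hf i) (hphi i)
      conj := by
        rintro v T ⟨i, x, rfl, rfl⟩ y
        exact ⟨i, y * x, Vx.ext (cj_mul _ _ _).symm (cj_mul _ _ _).symm (cj_mul _ _ _).symm, (cj_mul _ _ _).symm⟩
      card_eq := by
        rintro v T w T' ⟨i, x, rfl, rfl⟩ ⟨j, y, rfl, rfl⟩
        rw [om_cj, om_cj, card_cj, card_cj, card_cj, card_cj]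
        exact ⟨rfl, rfl⟩ }
  have hat : ∀ i, At (base i) S0 := fun i =>
    ⟨i, 1, Vx.ext (cj_one _).symm (cj_one _).symm (cj_one _).symm, (cj_one _).symm⟩
  obtain ⟨i0⟩ := hι
  obtain ⟨R, hRS, hR, hRN⟩ := hs.exists_inv hs.comm_all (hat i0)
  have hRe : (R.comap ρ).map ρ = R := map_comap_eq_self (hS0 ▸ hRS)
  have hmapT : ∀ i, ((R.comap ρ).map (τ i)).map (f i) = R := fun i => by
    rw [Subgroup.map_map, show (f i).comp (τ i) = ρ from MonoidHom.ext (hfρ i), hRe]
  refine ⟨R.comap ρ, characteristic_iff_map_le.2 fun φ => ?_, fun i => ⟨⟨fun x hx g => ?_⟩, ?_⟩⟩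
  · let P : W := φ.toEquiv.prodCongr (Equiv.refl X)
    have hP : ∀ s, P * ρ s * P⁻¹ = ρ (φ s) := fun s => by
      refine mul_inv_eq_iff_eq_mul.2 (Equiv.ext fun z => ?_)
      show (φ (s * z.1), z.2) = (φ s * φ z.1, z.2)
      rw [map_mul]
    have hPS : cj P S0 = S0 := cj_eq_of_forall fun y hy => by
      rw [hS0] at hy ⊢
      obtain ⟨s, rfl⟩ := hy
      exact ⟨φ s, (hP s).symm⟩
    rintro _ ⟨s, hs', rfl⟩
    rw [mem_comap]
    have h1 := hRN P (fun v hv => hPS ▸ hs.conj hv P) _ hs'
    rw [hP] at h1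
    exact h1
  · have h1 : f i x ∈ R := (hmapT i).le ⟨x, hx, rfl⟩
    have h2 := (hR (base i) (hat i)).2 (f i g) (by rw [hbase]; exact ⟨g, trivial, rfl⟩) _ h1
    rw [← map_inv, ← map_mul, ← map_mul] at h2
    exact (mem_map_inj (hf i)).1 ((hmapT i).ge h2)
  · intro x hx
    exact (mem_map_inj (hf i)).1 ((hmapT i).ge ((hR (base i) (hat i)).1 (by rw [hbase]; exact ⟨x, hx, rfl⟩)))

end CfsgLib.PushFam
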