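import Cfsg.Agent.Lib.LocalEvenB.PushFam.Central
import Cfsg.Agent.Lib.Transfer.PResidual

/-!
# Pushing-up families: endpoints with central neighbours do not occur
-/

set_option autoImplicit false

namespace CfsgLib.PushFam

open Subgroup CfsgLib.PushUp
open CfsgLib.LocalEvenB.PushCL (phi map_phi)
open scoped commutatorElement Matrix

/-- `SL₂` over a field of characteristic `p` has an element whose order is not a power of `p`. -/
theorem exists_not_pElement {F : Type*} [Field F] [Fintype F] {p : ℕ} [Fact p.Prime] (hd : p ∣ Fintype.card F) :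
    ∃ A : Matrix.SpecialLinearGroup (Fin 2) F, ∀ k : ℕ, A ^ p ^ k ≠ 1 := by
  by_cases h3 : p = 3
  · subst h3
    refine ⟨⟨-1, by simp [Matrix.det_neg]⟩, fun k e => ?_⟩
    have e1 : ((-1 : Matrix (Fin 2) (Fin 2) F)) ^ 3 ^ k = 1 := congrArg Subtype.val e
    rw [Odd.neg_one_pow ((by decide : Odd 3).pow)] at e1
    have e2 : (-1 : F) = 1 := by simpa using congrFun (congrFun e1 0) 0
    have e3 : (3 : F) = 0 := by
      have := congrFun (prime_smul (p := 3) hd ![(1 : F), 0]) 0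
      simpa using this
    exact one_ne_zero (α := F) (by linear_combination e3 + e2)
  · obtain ⟨A, hA⟩ : ∃ A : Matrix.SpecialLinearGroup (Fin 2) F,
        (A : Matrix (Fin 2) (Fin 2) F) = !![0, -1; 1, -1] :=
      ⟨⟨!![0, -1; 1, -1], by simp [Matrix.det_fin_two_of]⟩, rfl⟩
    refine ⟨A, fun k e => ?_⟩
    have hA3 : A ^ 3 = 1 := by
      refine Matrix.SpecialLinearGroup.ext (A := A ^ 3) (B := 1) fun i j => ?_
      rw [Matrix.SpecialLinearGroup.coe_pow, Matrix.SpecialLinearGroup.coe_one,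
        hA]
      fin_cases i <;> fin_cases j <;> simp [pow_succ, Matrix.mul_apply, Fin.sum_univ_two]
    have h1 : orderOf A = 1 := Nat.eq_one_of_dvd_coprimes
      (((Nat.coprime_primes Nat.prime_three (Fact.out : p.Prime)).2 (Ne.symm h3)).pow_right k)
      (orderOf_dvd_of_pow_eq_one hA3) (orderOf_dvd_of_pow_eq_one e)
    have h2 : A = 1 := orderOf_eq_one_iff.1 h1
    have e1 : (!![0, -1; 1, -1] : Matrix (Fin 2) (Fin 2) F) = 1 := by
      rw [← hA, h2, Matrix.SpecialLinearGroup.coe_one]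
    simpa using congrFun (congrFun e1 1) 0

variable {W : Type*} [Group W] [Finite W] {p : ℕ} [Fact p.Prime] {At : Vx W → Subgroup W → Prop} (hs : Sys p At)
include hs

/-- The case of distance two. -/
theorem Sys.not_centType_two {b : ℕ} (d : DistV At b) (hb : b = 2) {a c : Vx W} (hc : CritV At b a c) :
    ¬ CentType At a := by
  intro hct
  subst hb
  obtain ⟨v, ⟨T1, ha, hv⟩, hn⟩ := NearV.head (k := 1) hc.near
  obtain ⟨x, ⟨T2, hv2, hc2⟩, hn2⟩ := NearV.head (k := 0) hn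
  obtain ⟨rfl, -⟩ := hn2
  have hnv : NearV At 1 v x := AdjV.near ⟨T2, hv2, hc2⟩
  have hcQ1 : x.Z ≤ T1 := (d.le_Q hnv.symm (by omega)).trans (hs.Q_le hv)
  have hfull := hs.full d (hs.crit_symm d hc) ha hcQ1
  have haQv : a.Z ≤ v.Q := d.le_Q (AdjV.near ⟨T1, ha, hv⟩) (by omega)
  have hfull2 := hs.full d hc hc2 (haQv.trans (hs.Q_le hv2))
  obtain ⟨Q, hQ⟩ : ∃ Q, Q = a.Q ⊓ v.Q := ⟨_, rfl⟩
  have hQst : Stable a.G Q := hQ ▸ hs.stable_inf ha hv hct
  have haQ : a.Z ≤ Q := hQ ▸ le_inf (hs.Z_le_Q ha) haQv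
  have hQdec : ∀ q ∈ Q, ∃ z ∈ a.Z, ∃ t ∈ Q, (t ∈ x.Q) ∧ z * t = q := by
    intro q hq
    obtain ⟨z, hz, t, ht, e⟩ := mem_sup_mul (((haQv.trans (hs.Q_le hv2)).trans (hs.T_le hc2)).trans
      (st_le_normalizer (hs.Qn hc2))) (hfull2.ge (hs.Q_le hv2 (hQ ▸ hq : q ∈ a.Q ⊓ v.Q).2))
    refine ⟨z, hz, t, ?_, ht, e⟩
    have h1 := Q.mul_mem (Q.inv_mem (haQ hz)) hq
    rwa [← e, inv_mul_cancel_left] at h1
  obtain ⟨H, hH⟩ : ∃ H : Subgroup W, ∀ g, g ∈ H ↔
      g ∈ a.G ∧ (∀ q ∈ Q, ⁅g, q⁆ ∈ a.Z) ∧ ∀ y ∈ a.Q, ⁅g, y⁆ ∈ Q :=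
    ⟨{ carrier := {g | g ∈ a.G ∧ (∀ q ∈ Q, ⁅g, q⁆ ∈ a.Z) ∧ ∀ y ∈ a.Q, ⁅g, y⁆ ∈ Q}
       one_mem' := ⟨one_mem _, fun _ _ => by rw [commutatorElement_one_left]; exact one_mem _,
         fun _ _ => by rw [commutatorElement_one_left]; exact one_mem _⟩
       mul_mem' := fun {g k} hg hk => ⟨mul_mem hg.1 hk.1, fun q hq => by
           have h1 := a.Z.mul_mem (hs.Zn ha g hg.1 _ (hk.2.1 q hq)) (hg.2.1 q hq)
           convert h1 using 1
           simp only [commutatorElement_def]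
           group, fun q hq => by
           have h1 := Q.mul_mem (hQst g hg.1 _ (hk.2.2 q hq)) (hg.2.2 q hq)
           convert h1 using 1
           simp only [commutatorElement_def]
           group⟩
       inv_mem' := fun {g} hg => ⟨inv_mem hg.1, fun q hq => by
           have h1 := (hs.Zn ha).inv hg.1 (inv_mem (hg.2.1 q hq))
           convert h1 using 1
           simp only [commutatorElement_def]
           group, fun q hq => by
           have h1 := hQst.inv hg.1 (inv_mem (hg.2.2 q hq))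
           convert h1 using 1
           simp only [commutatorElement_def]
           group⟩ }, fun _ => Iff.rfl⟩
  have hHst : Stable a.G H := by
    intro y hy g hg
    obtain ⟨hgG, h1, h2⟩ := (hH g).1 hg
    refine (hH _).2 ⟨mul_mem (mul_mem hy hgG) (inv_mem hy), fun q hq => ?_, fun q hq => ?_⟩
    · have := hs.Zn ha y hy _ (h1 _ (hQst.inv hy hq))
      convert this using 1
      simp only [commutatorElement_def]
      group
    · have := hQst y hy _ (h2 _ ((hs.Qn ha).inv hy hq))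
      convert this using 1
      simp only [commutatorElement_def]
      group
  have hxH : x.Z ≤ H := by
    intro g hg
    have hgT := hcQ1 hg
    have hgG := hs.T_le ha hgT
    refine (hH g).2 ⟨hgG, fun q hq => ?_, fun y hy => ?_⟩
    · obtain ⟨z, hz, t, -, htc, rfl⟩ := hQdec q hq
      have h1 := (hs.Zn ha).comm_right hgG hz
      convert h1 using 1
      have e : t * g⁻¹ * t⁻¹ = g⁻¹ := by rw [← hs.comm_Q hc2 (inv_mem hg) htc, mul_inv_cancel_right]
      rw [commutatorElement_def, commutatorElement_def]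
      calc g * (z * t) * g⁻¹ * (z * t)⁻¹ = g * z * (t * g⁻¹ * t⁻¹) * z⁻¹ := by group
        _ = _ := by rw [e]
    · rw [hQ]
      refine ⟨(hs.Qn ha).comm_right hgG hy, ?_⟩
      exact (hs.Qn hv).comm_left (hs.T_le hv (hs.Q_le ha hy)) (d.le_Q hnv.symm (by omega) hg)
  obtain ⟨M, b0⟩ := hs.loc ha
  have htop : H ⊔ a.Q = a.G := by
    refine b0.eq_of_stable (sup_le (fun g hg => ((hH g).1 hg).1) (hs.Q_le_G ha)) (fun g hg y hy => ?_)
      (hfull.ge.trans (sup_le_sup_right hxH _))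
    have e : cj g (H ⊔ a.Q) = H ⊔ a.Q := by
      show (H ⊔ a.Q).map _ = _
      rw [Subgroup.map_sup]
      exact congrArg₂ _ (st_cj_eq hHst hg) (st_cj_eq (hs.Qn ha) hg)
    exact e.le (conj_mem_cj hy)
  -- coprime elements of `H` centralize the module
  have hcop : ∀ g ∈ H, Nat.Coprime (orderOf g) p → g ∈ centralizer (a.Z : Set W) := by
    intro g hg hord
    obtain ⟨hgG, h1, h2⟩ := (hH g).1 hg
    have hfix : ∀ y ∈ a.Q, ⁅g, y⁆ ∈ a.Z := by
      intro y hy
      obtain ⟨u, hu⟩ : ∃ u, u = ⁅g, y⁆ := ⟨_, rfl⟩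
      have huQ : u ∈ Q := hu ▸ h2 y hy
      have hgu : g * u * g⁻¹ = ⁅g, u⁆ * u := by rw [commutatorElement_def]; group
      have hn : ∀ n : ℕ, ∃ z ∈ a.Z, g ^ n * y * (g ^ n)⁻¹ = z * u ^ n * y := by
        intro n
        induction n with
        | zero => exact ⟨1, one_mem _, by simp⟩
        | succ n ih =>
          obtain ⟨z, hz, e⟩ := ih
          have h3 : ∀ m : ℕ, ∃ z' ∈ a.Z, g * u ^ m * g⁻¹ = z' * u ^ m := by
            intro m
            refine ⟨⁅g, u ^ m⁆, h1 _ (pow_mem huQ m), ?_⟩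
            rw [commutatorElement_def]; group
          obtain ⟨z', hz', e'⟩ := h3 n
          refine ⟨g * z * g⁻¹ * z', mul_mem (hs.Zn ha g hgG z hz) hz', ?_⟩
          calc g ^ (n + 1) * y * (g ^ (n + 1))⁻¹ = g * (g ^ n * y * (g ^ n)⁻¹) * g⁻¹ := by
                rw [pow_succ']; group
            _ = (g * z * g⁻¹) * (g * u ^ n * g⁻¹) * (g * y * g⁻¹) := by rw [e]; group
            _ = (g * z * g⁻¹) * (z' * u ^ n) * (u * y) := by rw [e', hu, commutatorElement_def]; group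
            _ = _ := by rw [pow_succ]; simp only [mul_assoc]
      obtain ⟨z, hz, e⟩ := hn (orderOf g)
      rw [pow_orderOf_eq_one, one_mul, inv_one, mul_one] at e
      have huo : u ^ orderOf g ∈ a.Z := by
        have e2 : u ^ orderOf g = z⁻¹ := eq_inv_of_mul_eq_one_right (mul_right_cancel (e.symm.trans (one_mul y).symm))
        exact e2 ▸ inv_mem hz
      obtain ⟨k, hk⟩ := b0.pS.to_le b0.QS ⟨u, (hQ ▸ huQ : u ∈ a.Q ⊓ v.Q).1⟩
      have hk' : u ^ p ^ k = 1 := congrArg Subtype.val hk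
      obtain ⟨m, hm⟩ : ∃ m : ℕ, (u ^ orderOf g) ^ m = u := by
        have hco : (orderOf u).Coprime (orderOf g) :=
          ((hord.pow_right k).symm).coprime_dvd_left (orderOf_dvd_of_pow_eq_one hk')
        obtain ⟨m, hm⟩ := exists_pow_eq_self_of_coprime hco.symm
        exact ⟨m, hm⟩
      rw [← hu, ← hm]
      exact pow_mem huo m
    have hΦ : phi p a.Q ≤ centralizer ({g} : Set W) := by
      have hzc : ∀ z ∈ a.Z, ∀ y ∈ a.Q, y * z = z * y := fun z hz y hy => (hs.comm_Q ha hz hy).symm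
      refine phi_le (fun y hy y' hy' => mem_centralizer_singleton_iff.2 ?_) fun y hy =>
        mem_centralizer_singleton_iff.2 ?_
      · obtain ⟨z, hz⟩ : ∃ z, z = ⁅g, y⁆ := ⟨_, rfl⟩
        obtain ⟨z', hz'⟩ : ∃ z, z = ⁅g, y'⁆ := ⟨_, rfl⟩
        have hzm : z ∈ a.Z := hz ▸ hfix y hy
        have hzm' : z' ∈ a.Z := hz' ▸ hfix y' hy'
        have e1 : g * ⁅y, y'⁆ * g⁻¹ = ⁅z * y, z' * y'⁆ := by
          rw [hz, hz']; simp only [commutatorElement_def]; group
        have e2 : ⁅z * y, z' * y'⁆ = ⁅y, y'⁆ := by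
          have c1 : ∀ w ∈ a.Q, z * w * z⁻¹ = w := fun w hw => by rw [← hzc z hzm w hw, mul_inv_cancel_right]
          have c2 : ∀ w ∈ a.Q, z' * w * z'⁻¹ = w := fun w hw => by rw [← hzc z' hzm' w hw, mul_inv_cancel_right]
          have hz'Q := hs.Z_le_Q ha hzm'
          calc ⁅z * y, z' * y'⁆ = z * (y * (z' * y') * y⁻¹) * z⁻¹ * (z' * y')⁻¹ := by
                rw [commutatorElement_def]; group
            _ = y * (z' * y') * y⁻¹ * (z' * y')⁻¹ := by
                rw [c1 _ (mul_mem (mul_mem hy (mul_mem hz'Q hy')) (inv_mem hy))]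
            _ = (y * z' * y⁻¹) * ((y * y' * y⁻¹) * y'⁻¹) * z'⁻¹ := by group
            _ = z' * ((y * y' * y⁻¹) * y'⁻¹) * z'⁻¹ := by rw [hzc z' hzm' y hy, mul_inv_cancel_right]
            _ = (y * y' * y⁻¹) * y'⁻¹ := c2 _ (mul_mem (mul_mem (mul_mem hy hy') (inv_mem hy)) (inv_mem hy'))
            _ = _ := by rw [commutatorElement_def]
        exact (mul_inv_eq_iff_eq_mul.1 (e1.trans e2)).symm
      · obtain ⟨z, hz⟩ : ∃ z, z = ⁅g, y⁆ := ⟨_, rfl⟩
        have hzm : z ∈ a.Z := hz ▸ hfix y hy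
        have hzp : z ^ p = 1 := b0.zc_pow z (hs.zeq ha ▸ hzm)
        have e1 : g * y ^ p * g⁻¹ = y ^ p := by
          rw [← conj_pow, show g * y * g⁻¹ = z * y by rw [hz, commutatorElement_def]; group,
            (show Commute z y from (hzc z hzm y hy).symm).mul_pow, hzp, one_mul]
        exact (mul_inv_eq_iff_eq_mul.1 e1).symm
    refine mem_centralizer_iff.2 fun z hz => ?_
    have h3 : a.Z ≤ centralizer ({g} : Set W) := (hs.irreducible ha).trans (sup_le (inf_le_right.trans hΦ)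
      fun w hw => mem_centralizer_singleton_iff.2 (mem_centralizer_iff.1 hw.2 g hgG).symm)
    exact mem_centralizer_singleton_iff.1 (h3 hz)
  -- so the group acts as a `p`-group
  obtain ⟨F, i1, i2, χ, ρ, hdvd, hρs, -, -, -, hρk, -⟩ := b0.zCoord (hs.res ha)
  obtain ⟨A, hA⟩ := exists_not_pElement (F := F) hdvd
  obtain ⟨y, hy⟩ := hρs A
  obtain ⟨g, hg, q, hq, e⟩ := mem_sup_mul ((fun g hg => st_le_normalizer (hs.Qn ha) ((hH g).1 hg).1 :
    H ≤ normalizer (a.Q : Set W))) (htop.ge y.2)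
  have hgG := ((hH g).1 hg).1
  have e1 : ρ y = ρ ⟨g, hgG⟩ := by
    have : y = ⟨g, hgG⟩ * ⟨q, hs.Q_le_G ha hq⟩ := Subtype.ext e.symm
    rw [this, map_mul, (hρk ⟨q, hs.Q_le_G ha hq⟩).2 (by
      rw [← hs.zeq ha]; exact mem_centralizer_iff.2 fun z hz => hs.comm_Q ha hz hq), mul_one]
  obtain ⟨k, hk⟩ := CfsgLib.Transfer.exists_pow_prime_pow_coprime (p := p) g
  refine hA k ?_
  rw [← hy, e1, ← map_pow, hρk, ← hs.zeq ha]
  exact hcop _ (pow_mem hg _) hk

/-- The case of larger distance. -/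
theorem Sys.not_centType_far {b : ℕ} (d : DistV At b) (hb : 3 ≤ b) {a c : Vx W} (hc : CritV At b a c) :
    ¬ CentType At a := by
  intro hct
  obtain ⟨k0, hk0⟩ : ∃ k, b = k + 3 := ⟨b - 3, by omega⟩
  subst hk0
  obtain ⟨v, ⟨T1, ha, hv⟩, hn⟩ := NearV.head (k := k0 + 2) hc.near
  obtain ⟨x2, ⟨T2, hv2, hx2⟩, hn2⟩ := NearV.head (k := k0 + 1) hn
  have hadj : AdjV At a v := ⟨T1, ha, hv⟩
  have hnc := hs.noncentral d hc hadj (by simpa using hn)
  have hcore := hs.comm_core d ha hv hnc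
  obtain ⟨h0, hh0, he0⟩ := hs.edge_conj hv hv2
  obtain ⟨a'', ha''⟩ : ∃ u, u = a.tr h0 := ⟨_, rfl⟩
  have hAa'' : At a'' T2 := ha'' ▸ he0 ▸ hs.conj ha h0
  have hQ'' : a''.Z ≤ a.Q := d.le_Q (j := 2) ((AdjV.near ⟨T2, hAa'', hv2⟩).trans hadj.symm.near) (by omega)
  have hZv : v.Z ≤ a.Q := d.le_Q hadj.symm.near (by omega)
  have hcard := fun {u : Vx W} {T : Subgroup W} (hu : At u T) => hs.card_eq hu ha
  -- a centrally large subgroup below the path
  have chain : ∀ j x, NearV At j x2 x → j + 2 ≤ k0 + 3 → ∃ X : Subgroup W,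
      X ≤ a''.Q ∧ X ≤ v.Q ∧ X ≤ x.Q ∧ Cl p T1 X ∧
      a''.Z ⊔ v.Z ⊔ x.Z ≤ X ⊓ centralizer (X : Set W) ∧
      X ⊓ centralizer (X : Set W) ≤ closure {z | ∃ u, NearV At (j + 1) a'' u ∧ NearV At (j + 1) v u ∧
        NearV At (j + 1) x u ∧ z ∈ u.Z} := by
    intro j
    induction j with
    | zero =>
      rintro x ⟨rfl, -⟩ -
      have c1 := hs.core_cl hAa''
      have c2 := hs.core_cl hv2
      have c3 := hs.core_cl hx2
      have n1 : NearV At 1 a'' v := AdjV.near ⟨T2, hAa'', hv2⟩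
      have n2 : NearV At 1 a'' x2 := AdjV.near ⟨T2, hAa'', hx2⟩
      have n3 : NearV At 1 v x2 := AdjV.near ⟨T2, hv2, hx2⟩
      have hcc : ∀ {u w : Vx W}, NearV At 1 u w → (∃ T, At w T) → u.Z ≤ centralizer (w.Z : Set W) :=
        fun {u w} hn' ⟨T, hT⟩ => (d.le_Q hn' (by omega)).trans (comm_symm (hs.Z_cent hT))
      have r := hs.res hv2
      obtain ⟨m1, z1⟩ := r.meet c1.1 c2.1 (by rw [c1.2, c2.2]; exact hcc n1 ⟨_, hv2⟩)
      rw [c1.2, c2.2] at z1
      obtain ⟨m2, z2⟩ := r.meet m1 c3.1 (by rw [z1, c3.2]; exact sup_le (hcc n2 ⟨_, hx2⟩) (hcc n3 ⟨_, hx2⟩))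
      rw [z1, c3.2] at z2
      refine ⟨a''.Q ⊓ v.Q ⊓ x2.Q, inf_le_left.trans inf_le_left, inf_le_left.trans inf_le_right, inf_le_right,
        m2.move ((inf_le_left.trans inf_le_right).trans (hs.Q_le hv)) (hcard hv2).1 (hcard hv2).2, z2.ge, ?_⟩
      rw [z2]
      refine sup_le (sup_le ?_ ?_) ?_
      · exact fun z hz => subset_closure ⟨a'', (NearV.refl hAa'').mono (by omega), n1.symm, n2.symm, hz⟩
      · exact fun z hz => subset_closure ⟨v, n1, (NearV.refl hv).mono (by omega), n3.symm, hz⟩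
      · exact fun z hz => subset_closure ⟨x2, n2, n3, (NearV.refl hx2).mono (by omega), hz⟩
    | succ j ih =>
      intro x hx hj
      rcases hx with hx | ⟨y, hy, T', hyT, hxT⟩
      · obtain ⟨X, h1, h2, h3, h4, h5, h6⟩ := ih x hx (by omega)
        refine ⟨X, h1, h2, h3, h4, h5, h6.trans ((closure_le _).2 ?_)⟩
        rintro z ⟨u, u1, u2, u3, hz⟩
        exact subset_closure ⟨u, u1.mono (by omega), u2.mono (by omega), u3.mono (by omega), hz⟩
      obtain ⟨X, h1, h2, h3, h4, h5, h6⟩ := ih y hy (by omega)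
      have hXT' : Cl p T' X := h4.move (h3.trans (hs.Q_le hyT)) (hcard hxT).1.symm (hcard hxT).2.symm
      have c3 := hs.core_cl hxT
      have n1 : NearV At 1 x y := AdjV.near ⟨T', hxT, hyT⟩
      have hcomm : X ⊓ centralizer (X : Set W) ≤ centralizer ((x.Q ⊓ centralizer (x.Q : Set W) : Subgroup W) : Set W) := by
        rw [c3.2]
        refine h6.trans ((closure_le _).2 ?_)
        rintro z ⟨u, -, -, u3, hz⟩
        refine (comm_symm (hs.Z_cent hxT)) (d.le_Q (j := j + 2) ?_ (by omega) hz)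
        have := u3.symm.trans n1.symm
        exact this
      obtain ⟨m, zm⟩ := (hs.res hxT).meet hXT' c3.1 hcomm
      rw [c3.2] at zm
      refine ⟨X ⊓ x.Q, inf_le_left.trans h1, inf_le_left.trans h2, inf_le_right,
        m.move ((inf_le_left.trans h2).trans (hs.Q_le hv)) (hcard hxT).1 (hcard hxT).2, ?_, ?_⟩
      · rw [zm]
        exact sup_le ((le_sup_left.trans h5).trans le_sup_left) le_sup_right
      · rw [zm]
        refine sup_le (h6.trans ((closure_le _).2 ?_)) fun z hz => subset_closure ⟨x, ?_, ?_, ?_, hz⟩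
        · rintro z ⟨u, u1, u2, u3, hz⟩
          refine subset_closure ⟨u, u1.mono (by omega), u2.mono (by omega), ?_, hz⟩
          have := n1.trans u3
          exact this.mono (by omega)
        · have h7 := ((AdjV.near (⟨T2, hAa'', hx2⟩ : AdjV At a'' x2)).trans hy).trans n1.symm
          exact h7.mono (by omega)
        · have h7 := ((AdjV.near (⟨T2, hv2, hx2⟩ : AdjV At v x2)).trans hy).trans n1.symm
          exact h7.mono (by omega)
        · exact (NearV.refl hxT).mono (by omega)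
  obtain ⟨X, -, hXv, -, hXcl, hXc, -⟩ := chain (k0 + 1) c hn2 (by omega)
  have r := hs.res ha
  obtain ⟨A, hA, hAX, hXA⟩ := hXcl.exists_maxAb r
  have hcen := hXc.trans hXA
  have hWA : a''.Z ≤ A := (le_sup_left.trans le_sup_left).trans hcen
  have hVA : v.Z ≤ A := (le_sup_right.trans le_sup_left).trans hcen
  have hCA : c.Z ≤ A := le_sup_right.trans hcen
  have hAQ : ¬ A ≤ a.Q := fun hle => (hs.crit_symm d hc).nle (hCA.trans hle)
  obtain ⟨M, b0⟩ := hs.loc ha
  obtain ⟨hZA, hAQT, hR, hC⟩ := b0.outer r hA hAQ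
  rw [← hs.zeq ha] at hZA hR hC
  have hAv : A ≤ v.Q := hAX.trans hXv
  have hQst := hs.stable_inf ha hv hct
  have hFR : ∀ k ∈ a.G, ∀ f ∈ v.Z, k * f * k⁻¹ ∈ a.Z ⊔ (A ⊓ a.Q) := by
    intro k hk f hf
    have h1 : ⁅f⁻¹, k⁆ ∈ a.Z := hct v hadj.symm _ (inv_mem hf) k hk
    have h2 : k * f * k⁻¹ = f * ⁅f⁻¹, k⁆ := by rw [commutatorElement_def]; group
    rw [h2]
    exact mul_mem (mem_sup_right ⟨hVA hf, hZv hf⟩) (mem_sup_left h1)
  have hcore'' : ∀ w ∈ a''.Z, ∀ q ∈ v.Q, ⁅w, q⁆ ∈ v.Z ⊓ centralizer (v.G : Set W) := by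
    intro w hw q hq
    rw [ha''] at hw
    obtain ⟨z, hz, rfl⟩ := hw
    obtain ⟨q0, hq0, rfl⟩ : ∃ q0 ∈ v.Q, h0 * q0 * h0⁻¹ = q :=
      ⟨h0⁻¹ * q * h0, (hs.Qn hv).inv hh0 hq, by group⟩
    have h1 := hcore z hz q0 hq0
    have e : ⁅(MulAut.conj h0).toMonoidHom z, h0 * q0 * h0⁻¹⁆ = ⁅z, q0⁆ := by
      show ⁅h0 * z * h0⁻¹, h0 * q0 * h0⁻¹⁆ = _
      calc ⁅h0 * z * h0⁻¹, h0 * q0 * h0⁻¹⁆ = h0 * ⁅z, q0⁆ * h0⁻¹ := by simp only [commutatorElement_def]; group
        _ = _ := by rw [mem_centralizer_iff.1 h1.2 h0 hh0, mul_inv_cancel_right]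
    rw [e]
    exact h1
  -- a fixed element of the core of `v` is fixed by `a''`
  have hmove : ∀ f ∈ v.Z ⊓ centralizer (v.G : Set W), f ∈ centralizer (a.G : Set W) →
      f ∈ centralizer (a''.G : Set W) := by
    intro f hf hfa
    rw [ha'']
    refine mem_centralizer_iff.2 fun y hy => ?_
    have hy' := mem_cj.1 hy
    have e1 := mem_centralizer_iff.1 hfa _ hy'
    have e2 : h0 * f * h0⁻¹ = f := by rw [mem_centralizer_iff.1 hf.2 h0 hh0, mul_inv_cancel_right]
    calc y * f = h0 * ((h0⁻¹ * y * h0) * (h0⁻¹ * f * h0)) * h0⁻¹ := by group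
      _ = h0 * ((h0⁻¹ * y * h0) * f) * h0⁻¹ := by
          rw [show h0⁻¹ * f * h0 = f by rw [mul_assoc, ← mem_centralizer_iff.1 hf.2 h0 hh0, inv_mul_cancel_left]]
      _ = h0 * (f * (h0⁻¹ * y * h0)) * h0⁻¹ := by rw [e1]
      _ = (h0 * f * h0⁻¹) * y := by group
      _ = f * y := by rw [e2]
  have hgenfix : ∀ f, ∀ k ∈ a.G, k ∉ M → (∀ t ∈ T1, t * f = f * t) → (∀ t ∈ cj k T1, t * f = f * t) →
      f ∈ centralizer (a.G : Set W) := fun f k hk hkM h1 h2 => mem_centralizer_iff.2 fun y hy => by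
    have hle : a.G ≤ centralizer ({f} : Set W) := (b0.gen hk hkM).ge.trans (sup_le
      (fun t ht => mem_centralizer_singleton_iff.2 (h1 t ht))
      (fun t ht => mem_centralizer_singleton_iff.2 (h2 t ht)))
    exact mem_centralizer_singleton_iff.1 (hle hy)
  have key : ∀ k ∈ a.G, k ∉ M → (a''.tr k).Z ≤ a.Z ⊔ (A ⊓ a.Q) := by
    intro k hk hkM
    by_contra hnle
    have hu : At (a''.tr k) (cj k T2) := hs.conj hAa'' k
    have huQ : (a''.tr k).Z ≤ a.Q := by
      rintro _ ⟨w, hw, rfl⟩; exact hs.Qn ha k hk w (hQ'' hw)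
    have hA0 : ∀ e ∈ A ⊓ a.Q, k⁻¹ * e * k ∈ a.Q ⊓ v.Q := fun e he =>
      hQst.inv hk ⟨he.2, hAv he.1⟩
    obtain ⟨hst, -⟩ := hs.span ha hu hA hAQ (fun e he => mem_cj.2 (hs.Q_le hv2 (hA0 e he).2)) huQ hnle
    obtain ⟨u, hu', huR, hfix⟩ := exists_fixed_mod r.pT hA.le
      ((sup_le huQ (hC.ge.trans inf_le_left)).trans (hs.Q_le ha)) hst
      (fun hle => hnle (le_sup_left.trans hle))
    have hWn : (a''.tr k).Z ≤ normalizer ((a.Z ⊔ (A ⊓ a.Q) : Subgroup W) : Set W) := by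
      refine le_normalizer_iff.2 fun w hw y hy => ?_
      obtain ⟨z, hz, e, he, rfl⟩ := mem_sup_mul (((hs.Z_cent ha).trans (centralizer_anti inf_le_right)).trans
        (centralizer_le_normalizer _)) hy
      have h1 : w * z * w⁻¹ = z := by rw [← hs.comm_Q ha hz (huQ hw), mul_inv_cancel_right]
      obtain ⟨w0, hw0, rfl⟩ := hw
      have h2 : ⁅(MulAut.conj k).toMonoidHom w0, e⁆ ∈ a.Z ⊔ (A ⊓ a.Q) := by
        have h3 := hFR k hk _ (hcore'' w0 hw0 _ (hA0 e he).2).1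
        convert h3 using 1
        show ⁅k * w0 * k⁻¹, e⁆ = _
        simp only [commutatorElement_def]
        group
      have h4 := Subgroup.mul_mem _ (mem_sup_left hz : z ∈ a.Z ⊔ (A ⊓ a.Q))
        (Subgroup.mul_mem _ h2 (mem_sup_right he))
      convert h4 using 1
      rw [commutatorElement_def]
      calc (MulAut.conj k).toMonoidHom w0 * (z * e) * ((MulAut.conj k).toMonoidHom w0)⁻¹
          = ((MulAut.conj k).toMonoidHom w0 * z * ((MulAut.conj k).toMonoidHom w0)⁻¹) *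
            ((MulAut.conj k).toMonoidHom w0 * e * ((MulAut.conj k).toMonoidHom w0)⁻¹) := by group
        _ = _ := by rw [h1]; group
    obtain ⟨w, hw, y, hy, e0⟩ := mem_sup_mul hWn hu'
    obtain ⟨e, he, hne⟩ : ∃ e ∈ A ⊓ a.Q, ⁅u, e⁆ ≠ 1 := by
      by_contra hcon
      push Not at hcon
      refine huR (hC.le ⟨(sup_le huQ (hC.ge.trans inf_le_left) : (a''.tr k).Z ⊔ _ ≤ a.Q) hu',
        mem_centralizer_iff.2 fun e he => ?_⟩)
      exact (commutatorElement_eq_one_iff_mul_comm.1 (hcon e he)).symm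
    have hue : ⁅u, e⁆ = ⁅w, e⁆ := by
      have e3 : y * e * y⁻¹ = e := by
        rw [mem_comm hR.comm (mem_sup_right he) hy, mul_inv_cancel_right]
      rw [← e0, commutatorElement_def, commutatorElement_def]
      calc w * y * e * (w * y)⁻¹ * e⁻¹ = w * (y * e * y⁻¹) * w⁻¹ * e⁻¹ := by group
        _ = _ := by rw [e3]
    obtain ⟨w0, hw0, hw0e⟩ := hw
    have hw0e' : k * w0 * k⁻¹ = w := hw0e
    obtain ⟨f0, hf0⟩ : ∃ f0, f0 = ⁅w0, k⁻¹ * e * k⁆ := ⟨_, rfl⟩
    have hf0F : f0 ∈ v.Z ⊓ centralizer (v.G : Set W) := hf0 ▸ hcore'' w0 hw0 _ (hA0 e he).2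
    have hwf : ⁅w, e⁆ = k * f0 * k⁻¹ := by
      rw [hf0, ← hw0e']; simp only [commutatorElement_def]; group
    obtain ⟨f, hf⟩ : ∃ f, f = ⁅u, e⁆ := ⟨_, rfl⟩
    have hff : f = k * f0 * k⁻¹ := hf.trans (hue.trans hwf)
    have hfR : f ∈ a.Z ⊔ (A ⊓ a.Q) := hff ▸ hFR k hk f0 hf0F.1
    -- fixed by `A`
    have hfA : ∀ x ∈ A, x * f = f * x := by
      intro x hx
      obtain ⟨y', hy'⟩ : ∃ y', y' = ⁅x, u⁆ := ⟨_, rfl⟩
      have hy'R : y' ∈ a.Z ⊔ (A ⊓ a.Q) := hy' ▸ hfix x hx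
      have e2 : x * e * x⁻¹ = e := by rw [mem_comm hA.comm he.1 hx, mul_inv_cancel_right]
      have e3 : x * u * x⁻¹ = y' * u := by rw [hy', commutatorElement_def]; group
      have e4 : y' * e * y'⁻¹ = e := by rw [mem_comm hR.comm (mem_sup_right he) hy'R, mul_inv_cancel_right]
      have e5 : x * f * x⁻¹ = f := by
        calc x * f * x⁻¹ = ⁅x * u * x⁻¹, x * e * x⁻¹⁆ := by
              rw [hf]; simp only [commutatorElement_def]; group
          _ = ⁅y' * u, e⁆ := by rw [e2, e3]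
          _ = (y' * f * y'⁻¹) * (y' * e * y'⁻¹ * e⁻¹) := by rw [hf]; simp only [commutatorElement_def]; group
          _ = f := by rw [e4, mem_comm hR.comm hfR hy'R, mul_inv_cancel_right, mul_inv_cancel, mul_one]
      exact eq_mul_inv_iff_mul_eq.1 e5.symm |>.symm
    have hfk : ∀ t ∈ cj k T1, t * f = f * t := by
      intro t ht
      have h1 := mem_centralizer_iff.1 hf0F.2 _ (hs.T_le hv (mem_cj.1 ht))
      rw [hff]
      calc t * (k * f0 * k⁻¹) = k * ((k⁻¹ * t * k) * f0) * k⁻¹ := by group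
        _ = k * (f0 * (k⁻¹ * t * k)) * k⁻¹ := by rw [h1]
        _ = _ := by group
    have hfT : ∀ t ∈ T1, t * f = f * t := by
      intro t ht
      obtain ⟨x, hx, q, hq, rfl⟩ := mem_sup_mul ((hA.le.trans (hs.T_le ha)).trans (st_le_normalizer (hs.Qn ha)))
        (hAQT.ge ht)
      have h1 := hfk q (mem_cj.2 (hs.Q_le ha ((hs.Qn ha).inv hk hq)))
      rw [mul_assoc, h1, ← mul_assoc, hfA x hx, mul_assoc]
    have hfc := hgenfix f k hk hkM hfT hfk
    have hf0e : f0 = f := by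
      calc f0 = k⁻¹ * f * k := by rw [hff]; group
        _ = f := by rw [mul_assoc, ← mem_centralizer_iff.1 hfc k hk, inv_mul_cancel_left]
    have hfu : f ∈ centralizer ((a''.tr k).G : Set W) := by
      have h2 := hmove f0 hf0F (hf0e ▸ hfc)
      rw [hff]
      show k * f0 * k⁻¹ ∈ centralizer ((cj k a''.G : Subgroup W) : Set W)
      rw [← cj_centralizer]
      exact conj_mem_cj h2
    have hmov := hs.mov hu (x := e) (z := w) (mem_cj.2 (hs.Q_le hv2 (hA0 e he).2)) ⟨w0, hw0, hw0e⟩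
      (by rw [← commutatorElement_def, ← hue, ← hf]; exact hfu)
    exact hne (hue.trans (commutatorElement_eq_one_iff_mul_comm.2 hmov.symm))
  obtain ⟨k, hk, hkM⟩ := b0.exists_out
  obtain ⟨Q, hQ⟩ : ∃ Q, Q = a.Q ⊓ v.Q := ⟨_, rfl⟩
  have hT1n : T1 ≤ normalizer (a.Q : Set W) := (hs.T_le ha).trans (st_le_normalizer (hs.Qn ha))
  have hcentral : ∀ g ∈ a''.Z, ∀ q ∈ Q, ⁅g, q⁆ = 1 := by
    intro g hg q hq
    obtain ⟨K, hK⟩ : ∃ K : Subgroup W, ∀ x, x ∈ K ↔ x ∈ a.G ∧ ⁅g, x⁆ ∈ a.Z :=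
      ⟨{ carrier := {x | x ∈ a.G ∧ ⁅g, x⁆ ∈ a.Z}
         one_mem' := ⟨one_mem _, by rw [commutatorElement_one_right]; exact one_mem _⟩
         mul_mem' := fun {x y} hx hy => ⟨mul_mem hx.1 hy.1, by
           have := a.Z.mul_mem hx.2 (hs.Zn ha x hx.1 _ hy.2)
           convert this using 1
           simp only [commutatorElement_def]
           group⟩
         inv_mem' := fun {x} hx => ⟨inv_mem hx.1, by
           have := (hs.Zn ha).inv hx.1 (inv_mem hx.2)
           convert this using 1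
           simp only [commutatorElement_def]
           group⟩ }, fun _ => Iff.rfl⟩
    obtain ⟨L, hL⟩ : ∃ L, L = A ⊔ cj k⁻¹ A := ⟨_, rfl⟩
    have hLK : L ≤ K := by
      rw [hL]
      refine sup_le (fun x hx => (hK x).2 ⟨hs.T_le ha (hA.le hx), ?_⟩) fun x hx => ?_
      · rw [commutatorElement_eq_one_iff_mul_comm.2 (mem_comm hA.comm hx (hWA hg))]
        exact one_mem _
      · have hx' : k * x * k⁻¹ ∈ A := by simpa using mem_cj.1 hx
        have hxG : x ∈ a.G := by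
          have := mul_mem (mul_mem (inv_mem hk) (hs.T_le ha (hA.le hx'))) hk
          convert this using 1
          group
        refine (hK x).2 ⟨hxG, ?_⟩
        obtain ⟨z, hz, y, hy, e⟩ := mem_sup_mul (((hs.Z_cent ha).trans (centralizer_anti inf_le_right)).trans
          (centralizer_le_normalizer _)) (key k hk hkM (conj_mem_cj hg))
        have h1 : ⁅k * g * k⁻¹, k * x * k⁻¹⁆ ∈ a.Z := by
          have h2 := (hs.Zn ha).comm_left (hs.T_le ha (hA.le hx')) hz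
          convert h2 using 1
          have e2 : y * (k * x * k⁻¹) * y⁻¹ = k * x * k⁻¹ := by
            rw [mem_comm hA.comm hx' hy.1, mul_inv_cancel_right]
          rw [← e, commutatorElement_def, commutatorElement_def]
          calc z * y * (k * x * k⁻¹) * (z * y)⁻¹ * (k * x * k⁻¹)⁻¹
              = z * (y * (k * x * k⁻¹) * y⁻¹) * z⁻¹ * (k * x * k⁻¹)⁻¹ := by group
            _ = _ := by rw [e2]
        have h3 := (hs.Zn ha).inv hk h1
        convert h3 using 1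
        simp only [commutatorElement_def]
        group
    have hLG : L ≤ a.G := fun x hx => ((hK x).1 (hLK hx)).1
    have hLtop : L ⊔ a.Q = a.G := by
      refine le_antisymm (sup_le hLG (hs.Q_le_G ha)) ?_
      rw [← b0.gen (inv_mem hk) fun hm => hkM (inv_mem_iff.1 hm)]
      refine sup_le (hAQT.ge.trans (sup_le_sup_right (hL ▸ le_sup_left) _)) ?_
      rw [← hAQT, cj, Subgroup.map_sup]
      refine sup_le_sup (hL ▸ le_sup_right) (st_cj_eq (hs.Qn ha) (inv_mem hk)).le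
    obtain ⟨f, hf⟩ : ∃ f, f = ⁅g, q⁆ := ⟨_, rfl⟩
    have hqQ : q ∈ a.Q ⊓ v.Q := hQ ▸ hq
    have hfF : f ∈ v.Z ⊓ centralizer (v.G : Set W) := hf ▸ hcore'' g hg q hqQ.2
    have hall : ∀ x ∈ a.G, x * f * x⁻¹ ∈ centralizer (v.G : Set W) := by
      intro x hx
      obtain ⟨l, hl, y, hy, rfl⟩ := mem_sup_mul (hLG.trans (st_le_normalizer (hs.Qn ha))) (hLtop.ge hx)
      have e1 : y * f * y⁻¹ = f := by
        rw [mem_centralizer_iff.1 hfF.2 y (hs.T_le hv (hs.Q_le ha hy)), mul_inv_cancel_right]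
      have hlG := hLG hl
      have h1 : ⁅g⁻¹, l⁆ ∈ a.Z := by
        have h2 := inv_mem (hs.Zn ha _ (hs.Q_le_G ha (hQ'' (inv_mem hg))) _ ((hK l).1 (hLK hl)).2)
        convert h2 using 1
        simp only [commutatorElement_def]
        group
      have hq' : l * q * l⁻¹ ∈ a.Q ⊓ v.Q := hQst l hlG q hqQ
      have h3 := hcore'' g hg _ hq'.2
      refine (show (l * y) * f * (l * y)⁻¹ = ⁅g, l * q * l⁻¹⁆ from ?_) ▸ h3.2
      have hlg : l * g * l⁻¹ = g * ⁅g⁻¹, l⁆ := by rw [commutatorElement_def]; group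
      have e2 : ⁅g⁻¹, l⁆ * (l * q * l⁻¹) * ⁅g⁻¹, l⁆⁻¹ = l * q * l⁻¹ := by
        rw [hs.comm_Q ha h1 hq'.1, mul_inv_cancel_right]
      calc (l * y) * f * (l * y)⁻¹ = l * (y * f * y⁻¹) * l⁻¹ := by group
        _ = ⁅l * g * l⁻¹, l * q * l⁻¹⁆ := by rw [e1, hf]; simp only [commutatorElement_def]; group
        _ = g * (⁅g⁻¹, l⁆ * (l * q * l⁻¹) * ⁅g⁻¹, l⁆⁻¹) * g⁻¹ * (l * q * l⁻¹)⁻¹ := by
            rw [hlg, commutatorElement_def (g * ⁅g⁻¹, l⁆)]; group
        _ = _ := by rw [e2, commutatorElement_def]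
    have hfc : f ∈ centralizer (a.G : Set W) := by
      refine hgenfix f k hk hkM (fun t ht => mem_centralizer_iff.1 hfF.2 t (hs.T_le hv ht)) fun t ht => ?_
      have h4 := mem_centralizer_iff.1 (hall k⁻¹ (inv_mem hk)) _ (hs.T_le hv (mem_cj.1 ht))
      calc t * f = k * ((k⁻¹ * t * k) * (k⁻¹ * f * k⁻¹⁻¹)) * k⁻¹ := by group
        _ = k * ((k⁻¹ * f * k⁻¹⁻¹) * (k⁻¹ * t * k)) * k⁻¹ := by rw [h4]
        _ = _ := by group
    have hmov := hs.mov hAa'' (x := q) (z := g) (hs.Q_le hv2 hqQ.2) hg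
      (by rw [← commutatorElement_def, ← hf]; exact hmove f hfF hfc)
    exact commutatorElement_eq_one_iff_mul_comm.2 hmov.symm
  -- so the module of `a''` lies in the module of `v`
  obtain ⟨hQcl, hQc⟩ := (hs.res ha).meet (hs.core_cl ha).1 (hs.core_cl hv).1 (by
    rw [(hs.core_cl ha).2, (hs.core_cl hv).2]
    exact (d.le_Q hadj.near (by omega)).trans (comm_symm (hs.Z_cent hv)))
  rw [(hs.core_cl ha).2, (hs.core_cl hv).2] at hQc
  have hle : a''.Z ≤ v.Z := by
    intro g hg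
    have h1 : g ∈ a.Z ⊔ v.Z := by
      rw [← hQc, ← hQcl.inf_centralizer r]
      exact ⟨hA.le (hWA hg), mem_centralizer_iff.2 fun q hq =>
        (commutatorElement_eq_one_iff_mul_comm.1 (hcentral g hg q (hQ ▸ hq))).symm⟩
    obtain ⟨w, hw, z, hz, e⟩ := mem_sup_mul (((hs.Z_cent ha).trans (centralizer_anti hZv)).trans
      (centralizer_le_normalizer _)) h1
    have hwA : w ∈ A := by
      have := A.mul_mem (hWA hg) (A.inv_mem (hVA hz))
      rwa [← e, mul_inv_cancel_right] at this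
    rw [← e]
    exact v.Z.mul_mem (hs.om_le_Z hv (hZA.le ⟨hw, hwA⟩)) hz
  obtain ⟨z, hz, hzc⟩ := hnc
  refine hzc fun y hy => ?_
  have h1 : z ∈ v.Z := by
    have := (hs.Zn hv).inv hh0 (hle (ha'' ▸ conj_mem_cj hz : h0 * z * h0⁻¹ ∈ a''.Z))
    convert this using 1
    group
  exact (hs.Zn hv).comm_left hy h1

/-- No endpoint of a critical pair has only central neighbours. -/
theorem Sys.not_centType {b : ℕ} (d : DistV At b) {a c : Vx W} (hc : CritV At b a c) : ¬ CentType At a := by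
  rcases Nat.lt_or_ge b 3 with h | h
  · exact hs.not_centType_two d (by have := hs.two_le_dist d; omega) hc
  · exact hs.not_centType_far d h hc

end CfsgLib.PushFam
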