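import Cfsg.Agent.Lib.LocalEvenB.PushFam.Cases

/-!
# Pushing-up families: the exceptional class of `p`-groups
-/

set_option autoImplicit false

namespace CfsgLib.PushFam

open Subgroup Cfsg CfsgLib.PushUp CfsgLib.LocalEvenB
open CfsgLib.LocalEvenB.PushCL (phi map_phi map_frattini_eq_phi card_invariants_eq)
open scoped commutatorElement Pointwise

universe u

variable {p : ℕ} [hp : Fact p.Prime] {S : Type u} [Group S] [Finite S] (hS : IsPGroup p S)
include hS

theorem frattini_eq_phi : frattini S = phi p (⊤ : Subgroup S) := by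
  rw [CfsgLib.PGroups.frattini_eq_commutator_sup hS, phi, coe_top, Set.image_univ, commutator_def]

theorem szero_top_eq : szero p (⊤ : Subgroup S) =
    if p = 2 then ⁅frattini S, (⊤ : Subgroup S)⁆ ⊔ (frattini ↥(frattini S)).map (frattini S).subtype
    else if p = 3 then ⁅⁅frattini S, (⊤ : Subgroup S)⁆, (⊤ : Subgroup S)⁆ ⊔
      (frattini ↥(frattini S)).map (frattini S).subtype
    else ⁅frattini S, (⊤ : Subgroup S)⁆ ⊔ powerClosure p 1 (⊤ : Subgroup S) := by
  have hpc : powerClosure p 1 (⊤ : Subgroup S) = Subgroup.closure ((fun x => x ^ p) '' ((⊤ : Subgroup S) : Set S)) := by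
    rw [powerClosure, pow_one]
    congr 1
    ext y
    exact ⟨fun ⟨x, hx, e⟩ => ⟨x, hx, e.symm⟩, fun ⟨x, hx, e⟩ => ⟨x, hx, e.symm⟩⟩
  rw [map_frattini_eq_phi (hS.to_subgroup _), frattini_eq_phi hS, hpc]
  rfl

/-- The exceptional class. -/
theorem exceptional [Nontrivial S] (hc : ¬ IsMulCommutative S) (hz : zj S ≤ Subgroup.center S)
    (hZ : ∀ z ∈ Subgroup.center S, z ^ p = 1)
    (hab : ∀ Q : Subgroup S, IsMinimalCentrallyLarge Q → IsMulCommutative Q)
    (h0 : szero p (⊤ : Subgroup S) = ⊥) :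
    ¬ IsMulCommutative S ∧ thompsonSubgroupA S = ⊤ ∧ IsElementaryAbelian p (Subgroup.center S) ∧
      IsElementaryAbelian p (frattini S) ∧ (p = 2 → frattini S ≤ Subgroup.center S) ∧
      (p = 3 → frattini S ≤ Subgroup.upperCentralSeries S 2) ∧
      (3 < p → frattini S ≤ Subgroup.center S ∧ Monoid.exponent S = p) ∧
      (∀ A ∈ maxAbelianSubgroups S, ∀ B ∈ maxAbelianSubgroups S, ∀ Q : Subgroup S,
        Nat.card ↥A ^ 2 = Nat.card S * Nat.card ↥(Subgroup.center S) ∧
        Nat.card ↥Q * Nat.card ↥(Subgroup.center ↥Q) ≤ Nat.card S * Nat.card ↥(Subgroup.center S) ∧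
        ((A ⊔ B : Subgroup S) : Set S) = (A : Set S) * (B : Set S) ∧
        A ⊔ B = centralizer ((A ⊓ B : Subgroup S) : Set S)) := by
  obtain ⟨hr, -, hJ, hiff, hcl, hmu⟩ := res_of_abelian hS hz hZ hab
  have hΦ := frattini_eq_phi hS
  have helem : ∀ {X : Subgroup S}, phi p X = ⊥ → IsElementaryAbelian p X := by
    intro X hX
    rw [phi, sup_eq_bot_iff] at hX
    refine ⟨Subgroup.le_centralizer_iff_isMulCommutative.1 (commutator_eq_bot_iff_le_centralizer.1 hX.1),
      fun a ha => ?_⟩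
    have h : a ^ p ∈ Subgroup.closure ((fun x => x ^ p) '' (X : Set S)) := subset_closure ⟨a, ha, rfl⟩
    rwa [hX.2, mem_bot] at h
  have hcen : ∀ {X : Subgroup S}, ⁅X, (⊤ : Subgroup S)⁆ = ⊥ → X ≤ Subgroup.center S := fun hX =>
    le_center_iff.2 (commutator_eq_bot_iff_le_centralizer.1 hX)
  refine ⟨hc, hJ, ⟨inferInstance, hZ⟩, ?_, fun h2 => ?_, fun h3 => ?_, fun h5 => ?_, fun A hA B hB Q => ?_⟩
  · rw [hΦ]
    by_cases h2 : p = 2
    · rw [szero, if_pos h2, sup_eq_bot_iff] at h0; exact helem h0.2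
    by_cases h3 : p = 3
    · rw [szero, if_neg h2, if_pos h3, sup_eq_bot_iff] at h0; exact helem h0.2
    · rw [szero, if_neg h2, if_neg h3, sup_eq_bot_iff] at h0
      refine ⟨Subgroup.le_centralizer_iff_isMulCommutative.1 ((hcen h0.1).trans (center_le_centralizer _)), fun a _ => ?_⟩
      have h : a ^ p ∈ Subgroup.closure ((fun x => x ^ p) '' ((⊤ : Subgroup S) : Set S)) := subset_closure ⟨a, trivial, rfl⟩
      rwa [h0.2, mem_bot] at h
  · rw [szero, if_pos h2, sup_eq_bot_iff] at h0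
    exact hΦ ▸ hcen h0.1
  · rw [szero, if_neg (by omega), if_pos h3, sup_eq_bot_iff] at h0
    have h1 := hcen h0.1
    rw [hΦ]
    intro x hx
    rw [Subgroup.mem_upperCentralSeries_succ_iff]
    intro y
    rw [Subgroup.upperCentralSeries_one]
    exact h1 (commutatorElement_def x y ▸ commutator_mem_commutator hx trivial)
  · rw [szero, if_neg (by omega), if_neg (by omega), sup_eq_bot_iff] at h0
    refine ⟨hΦ ▸ hcen h0.1, ((Nat.dvd_prime hp.out).1 (Monoid.exponent_dvd_of_forall_pow_eq_one fun a => ?_)).resolve_left fun e => ?_⟩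
    · have h : a ^ p ∈ Subgroup.closure ((fun x => x ^ p) '' ((⊤ : Subgroup S) : Set S)) := subset_closure ⟨a, trivial, rfl⟩
      rwa [h0.2, mem_bot] at h
    · exact not_subsingleton S (Monoid.exp_eq_one_iff.1 e)
  · have hA' := (hiff A).2 hA
    refine ⟨by rw [sq, hA'.card, hmu], ?_, (cl_maxAbelian (hcl A hA') hB).1, ?_⟩
    · rw [card_center_eq, ← hmu]
      exact (Nat.mul_le_mul_left _ (card_le_of_le (inf_le_inf_right _ le_top))).trans (hr.cd Q le_top)
    · rw [← (hr.pair hA' ((hiff B).2 hB)).1, top_inf_eq]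

section Join

omit hS

variable {S' : Type*} [Group S'] [Finite S'] (e : S ≃* S')
include e

omit hp in
theorem maxOmega_map : maxOmegaCenterOfMinimalCL p S' = maxOmegaCenterOfMinimalCL p S := by
  unfold maxOmegaCenterOfMinimalCL
  congr 1
  ext k
  constructor
  · rintro ⟨Q, hQ, rfl⟩; exact ⟨_, mcl_map e.symm hQ, (card_invariants_eq p e.symm.toMonoidHom e.symm.injective Q).2.2⟩
  · rintro ⟨Q, hQ, rfl⟩; exact ⟨_, mcl_map e hQ, (card_invariants_eq p e.toMonoidHom e.injective Q).2.2⟩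

theorem map_phiJoin_le (hS : IsPGroup p S) :
    (frattiniOfMinimalCLJoin p S).map e.toMonoidHom ≤ frattiniOfMinimalCLJoin p S' := by
  rw [frattiniOfMinimalCLJoin, Subgroup.map_iSup]
  refine iSup_le fun ⟨Q, hQ, hQm⟩ => ?_
  rw [map_frattini_eq_phi (hS.to_subgroup Q), map_phi,
    ← map_frattini_eq_phi ((hS.to_subgroup Q).map e.toMonoidHom)]
  exact le_iSup_of_le ⟨Q.map e.toMonoidHom, mcl_map e hQ, by
    rw [(card_invariants_eq p e.toMonoidHom e.injective Q).2.2, hQm, maxOmega_map e]⟩ le_rfl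

theorem map_phiJoin (hS : IsPGroup p S) :
    (frattiniOfMinimalCLJoin p S).map e.toMonoidHom = frattiniOfMinimalCLJoin p S' := by
  refine le_antisymm (map_phiJoin_le e hS) fun y hy =>
    ⟨e.symm y, map_phiJoin_le e.symm (hS.of_equiv e) ⟨y, hy, rfl⟩, ?_⟩
  exact e.apply_symm_apply y

end Join

/-- An elementary abelian subgroup of largest order, or the pair `Z(S)`, `S_Φ`. -/
theorem elementary_or_pair [Nontrivial S] (hz : zj S ≤ Subgroup.center S) :
    (∃ A ∈ maxAbelianSubgroups S, IsElementaryAbelian p A) ∨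
      PairFor p S (Subgroup.center S) (frattiniOfMinimalCLJoin p S) := by
  by_cases hbot : frattiniOfMinimalCLJoin p S = ⊥
  · left
    obtain ⟨Q, hQ, hQm⟩ : ∃ Q : Subgroup S, IsMinimalCentrallyLarge Q ∧
        Nat.card (omegaOneCenter p Q) = maxOmegaCenterOfMinimalCL p S := by
      obtain ⟨X, hX⟩ := exists_isCentrallyLarge (G := S)
      obtain ⟨Y, -, hY⟩ := exists_isMinimalCentrallyLarge_le hX
      exact Nat.sSup_mem (s := {k : ℕ | ∃ Q : Subgroup S, IsMinimalCentrallyLarge Q ∧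
          Nat.card ↥(omegaOneCenter p Q) = k}) ⟨_, Y, hY, rfl⟩
        ((Set.finite_range fun R : Subgroup S => Nat.card (omegaOneCenter p R)).bddAbove.mono
          (by rintro k ⟨R, -, rfl⟩; exact ⟨R, rfl⟩))
    have hphi : phi p Q = ⊥ := by
      rw [← map_frattini_eq_phi (hS.to_subgroup Q)]
      exact eq_bot_iff.2 ((le_iSup_of_le ⟨Q, hQ, hQm⟩ le_rfl).trans hbot.le)
    rw [phi, sup_eq_bot_iff] at hphi
    have hQab : IsMulCommutative Q :=
      Subgroup.le_centralizer_iff_isMulCommutative.1 (commutator_eq_bot_iff_le_centralizer.1 hphi.1)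
    refine ⟨Q, (mcl_iff_maxAbelian hQab hQ Q).1 hQ, hQab, fun a ha => ?_⟩
    have h : a ^ p ∈ Subgroup.closure ((fun x => x ^ p) '' (Q : Set S)) := subset_closure ⟨a, ha, rfl⟩
    rwa [hphi.2, mem_bot] at h
  right
  have hj : jt S = ⊤ := eq_top_iff.2 fun x _ => mem_centralizer_iff.2 fun y hy =>
    (Subgroup.mem_center_iff.1 (hz hy) x).symm
  have hchar : (frattiniOfMinimalCLJoin p S).Characteristic :=
    characteristic_iff_map_eq.2 fun φ => map_phiJoin φ hS
  refine ⟨center_ne_bot hS, hbot, inferInstance, hchar, le_rfl, hj ▸ le_top, char_subgroupOf_top hj hchar,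
    fun G _ _ τ hs => ?_⟩
  have h := PushCL.center_or_phiJoin_normal hs.pushing
  rw [← map_phiJoin (MonoidHom.ofInjective hs.1) hS, Subgroup.map_map] at h
  rw [map_center' hs.1]
  exact h

end CfsgLib.PushFam
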