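import Cfsg.Agent.Lib.LocalEvenB.PushFam.Local
import Cfsg.Agent.Lib.LocalEvenB.PushingUpCL.Swap

/-!
# Pushing-up families: commutators of the core with a large abelian subgroup

If `A` is a large abelian subgroup outside `Q` and `o ∈ Q`, `a ∈ A`, then `[o, a]` lies in `Z (A ∩ Q) Φ(Q)`.
-/

set_option autoImplicit false

namespace CfsgLib.PushFam

open Subgroup CfsgLib.PushUp
open CfsgLib.LocalEvenB.PushCL (phi map_phi)
open CfsgLib.LocalEvenB (card_mul_card_le_sup_inf)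
open scoped commutatorElement

variable {W : Type*} [Group W]

theorem phi_mono {p : ℕ} {X Y : Subgroup W} (h : X ≤ Y) : phi p X ≤ phi p Y :=
  sup_le_sup (commutator_mono h h) (closure_mono (Set.image_mono (SetLike.coe_subset_coe.2 h)))

theorem phi_le {p : ℕ} {X Y : Subgroup W} (h1 : ∀ x ∈ X, ∀ y ∈ X, ⁅x, y⁆ ∈ Y) (h2 : ∀ x ∈ X, x ^ p ∈ Y) :
    phi p X ≤ Y := by
  refine sup_le (commutator_le.2 h1) ((closure_le _).2 ?_)
  rintro _ ⟨x, hx, rfl⟩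
  exact h2 x hx

theorem phi_le_self {p : ℕ} (X : Subgroup W) : phi p X ≤ X :=
  phi_le (fun _ hx _ hy => by rw [commutatorElement_def]
                              exact mul_mem (mul_mem (mul_mem hx hy) (inv_mem hx)) (inv_mem hy))
    fun _ hx => pow_mem hx p

theorem comm_mem_phi {p : ℕ} {X : Subgroup W} {x y : W} (hx : x ∈ X) (hy : y ∈ X) : ⁅x, y⁆ ∈ phi p X :=
  mem_sup_left (commutator_mem_commutator hx hy)

theorem pow_mem_phi {p : ℕ} {X : Subgroup W} {x : W} (hx : x ∈ X) : x ^ p ∈ phi p X :=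
  mem_sup_right (subset_closure ⟨x, hx, rfl⟩)

theorem phi_stable {p : ℕ} [Finite W] {G X : Subgroup W} (h : Stable G X) : Stable G (phi p X) :=
  fun g hg x hx => by
    have e : cj g (phi p X) = phi p X := by
      show (phi p X).map _ = _
      rw [map_phi]
      exact congrArg (phi p) (st_cj_eq h hg)
    exact e.le (conj_mem_cj hx)

theorem mem_sup_mul {A B : Subgroup W} (h : A ≤ normalizer (B : Set W)) {x : W} (hx : x ∈ A ⊔ B) :
    ∃ a ∈ A, ∃ b ∈ B, a * b = x := by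
  rwa [← SetLike.mem_coe, coe_mul_of_left_le_normalizer_right A B h] at hx

/-- The elements of `Q` whose commutators with `S` lie in `X`. -/
def tset (Q S X : Subgroup W) (hX : Stable Q X) : Subgroup W where
  carrier := {x | x ∈ Q ∧ ∀ s ∈ S, ⁅x, s⁆ ∈ X}
  one_mem' := ⟨one_mem _, fun s _ => by rw [commutatorElement_one_left]; exact one_mem _⟩
  mul_mem' := fun {x y} hx hy => ⟨mul_mem hx.1 hy.1, fun s hs => by
    have h1 := X.mul_mem (hX x hx.1 _ (hy.2 s hs)) (hx.2 s hs)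
    convert h1 using 1
    rw [commutatorElement_def, commutatorElement_def, commutatorElement_def]
    group⟩
  inv_mem' := fun {x} hx => ⟨inv_mem hx.1, fun s hs => by
    have h1 := hX x⁻¹ (inv_mem hx.1) _ (inv_mem (hx.2 s hs))
    convert h1 using 1
    rw [commutatorElement_def, commutatorElement_def]
    group⟩

theorem mem_tset {Q S X : Subgroup W} {hX : Stable Q X} {x : W} :
    x ∈ tset Q S X hX ↔ x ∈ Q ∧ ∀ s ∈ S, ⁅x, s⁆ ∈ X := Iff.rfl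

theorem tset_stable {Q S X : Subgroup W} {hX : Stable Q X} (hQ : Stable S Q) (hXS : Stable S X) :
    Stable S (tset Q S X hX) := by
  rintro g hg x ⟨hxQ, hx⟩
  refine ⟨hQ g hg x hxQ, fun s hs => ?_⟩
  have h1 := hXS g hg _ (hx _ (mul_mem (mul_mem (inv_mem hg) hs) hg))
  convert h1 using 1
  rw [commutatorElement_def, commutatorElement_def]
  group

variable [Finite W] {p : ℕ} [Fact p.Prime] {G S Q M : Subgroup W}

theorem Bad.phi_stable' (h : Bad p G S Q M) : Stable G (phi p Q) := phi_stable h.Qn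

theorem Bad.conj_mem_phi (h : Bad p G S Q M) {g x : W} (hg : g ∈ G) (hx : x ∈ phi p Q) :
    ⁅g, x⁆ ∈ phi p Q ∧ ⁅x, g⁆ ∈ phi p Q := ⟨h.phi_stable'.comm_right hg hx, h.phi_stable'.comm_left hg hx⟩

variable (h : Bad p G S Q M) (r : Res p S)
  (hW : zc p G S ⊓ phi p Q ≤ centralizer (G : Set W))
include h r hW

/-- The module meets `(A ∩ Q) Φ(Q)` in the fixed line. -/
theorem Bad.zc_inf_le {A : Subgroup W} (hA : MaxAb p S A) (hAQ : ¬ A ≤ Q) :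
    zc p G S ⊓ ((A ⊓ Q) ⊔ phi p Q) ≤ om p S := by
  rintro w ⟨hwZ, hw⟩
  obtain ⟨a0, ha0, φ, hφ, e⟩ := mem_sup_mul ((inf_le_left.trans (hA.le.trans h.SG)).trans
    (st_le_normalizer h.phi_stable')) hw
  subst e
  obtain ⟨a, ha, haQ⟩ := SetLike.not_le_iff_exists.1 hAQ
  have k1 : a0 * φ * a * (a0 * φ)⁻¹ * a⁻¹ ∈ zc p G S := by
    have h0 := (zc p G S).mul_mem hwZ ((zc_stable G S) a (h.SG (hA.le ha)) _ ((zc p G S).inv_mem hwZ))
    rw [show a0 * φ * a * (a0 * φ)⁻¹ * a⁻¹ = a0 * φ * (a * (a0 * φ)⁻¹ * a⁻¹) by group]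
    exact h0
  have k2 : a0 * φ * a * (a0 * φ)⁻¹ * a⁻¹ ∈ phi p Q := by
    have hc : a0 * a = a * a0 := mem_comm hA.comm ha ha0.1
    have h1 := h.phi_stable' a0 (h.SG (hA.le ha0.1)) _ (h.conj_mem_phi (h.SG (hA.le ha)) hφ).2
    have e : a0 * φ * a * (a0 * φ)⁻¹ * a⁻¹ = a0 * ⁅φ, a⁆ * a0⁻¹ := by
      rw [commutatorElement_def]
      calc a0 * φ * a * (a0 * φ)⁻¹ * a⁻¹ = a0 * φ * a * φ⁻¹ * (a0⁻¹ * a⁻¹) := by group
        _ = a0 * φ * a * φ⁻¹ * (a⁻¹ * a0⁻¹) := by rw [← _root_.mul_inv_rev, ← _root_.mul_inv_rev, hc]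
        _ = _ := by group
    rw [e]
    exact h1
  exact (h.natural r).fixed a (hA.le ha) haQ _ hwZ ((h.natural r).mov a (hA.le ha) _ hwZ (hW ⟨k1, k2⟩))

/-- The main commutator lemma. -/
theorem Bad.commutator_mem {A : Subgroup W} (hA : MaxAb p S A) (hAQ : ¬ A ≤ Q) {o a : W} (ho : o ∈ Q)
    (ha : a ∈ A) : ⁅o, a⁆ ∈ zc p G S ⊔ ((A ⊓ Q) ⊔ phi p Q) := by
  have F := h.natural r
  obtain ⟨Z, hZ⟩ : ∃ Z, Z = zc p G S := ⟨_, rfl⟩
  rw [← hZ]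
  obtain ⟨K, hK⟩ : ∃ K, K = (A ⊓ Q) ⊔ phi p Q := ⟨_, rfl⟩
  have hZK : Z ⊓ K ≤ om p S := hZ ▸ hK ▸ h.zc_inf_le r hW hA hAQ
  have hcardZ : Nat.card ↥Z * Nat.card ↥Q = Nat.card ↥S * Nat.card ↥(om p S) := hZ ▸ F.cardZ
  rw [← hK]
  obtain ⟨B, hB⟩ : ∃ B, B = cj o A := ⟨_, rfl⟩
  have hoS := h.QS ho
  have hBS : B ≤ S := by
    rintro x hx
    rw [hB] at hx
    obtain ⟨y, hy, rfl⟩ := hx
    exact mul_mem (mul_mem hoS (hA.le hy)) (inv_mem hoS)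
  have hBm : MaxAb p S B := hB ▸ hA.of_cj (hB ▸ hBS)
  have hB0 : B ⊓ Q = cj o (A ⊓ Q) := by
    rw [cj_inf, st_cj_eq h.Qn (h.SG hoS), hB]
  have hB0K : B ⊓ Q ≤ K := by
    rw [hB0, hK]
    rintro _ ⟨x, hx, rfl⟩
    have h1 := mul_mem (mem_sup_right (comm_mem_phi (p := p) ho hx.2) : ⁅o, x⁆ ∈ (A ⊓ Q) ⊔ phi p Q)
      (mem_sup_left hx : x ∈ (A ⊓ Q) ⊔ phi p Q)
    rw [commutatorElement_def, inv_mul_cancel_right] at h1
    exact h1
  obtain ⟨I, hI⟩ : ∃ I, I = A ⊓ B := ⟨_, rfl⟩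
  obtain ⟨H, hH⟩ : ∃ H, H = A ⊔ B := ⟨_, rfl⟩
  obtain ⟨hCI, hHI⟩ := r.pair hA hBm
  rw [← hI, ← hH] at hCI hHI
  have hHS : H ≤ S := hH ▸ sup_le hA.le hBS
  have hHQ : H ⊔ Q = S := le_antisymm (sup_le hHS h.QS)
    ((h.outer r hA hAQ).2.1.ge.trans (sup_le_sup_right (hH ▸ le_sup_left) Q))
  have hSQn : S ≤ normalizer (Q : Set W) := h.SG.trans (st_le_normalizer h.Qn)
  have e1 := CfsgLib.Core.card_sup_mul_card_inf H Q (hHS.trans hSQn)
  rw [hHQ] at e1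
  have hcmem : ⁅o, a⁆ ∈ H ⊓ Q := by
    refine ⟨?_, ?_⟩
    · rw [commutatorElement_def, hH]
      exact mul_mem (mem_sup_right (hB ▸ conj_mem_cj ha)) (mem_sup_left (inv_mem ha))
    · rw [commutatorElement_def, mul_assoc, mul_assoc, ← mul_assoc a]
      exact mul_mem ho (h.Qn a (h.SG (hA.le ha)) _ (inv_mem ho))
  by_cases hIQ : I ≤ Q
  · -- `H ∩ Q = Z (A ∩ Q) (B ∩ Q)`
    obtain ⟨K', hK'⟩ : ∃ K', K' = (A ⊓ Q) ⊔ (B ⊓ Q) := ⟨_, rfl⟩
    have hK'K : K' ≤ K := hK' ▸ sup_le (hK ▸ le_sup_left) hB0K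
    have hZH : Z ≤ H := by
      rw [← hCI]
      exact le_inf (hZ ▸ h.zc_le_S) (hZ ▸ h.zc_cent hIQ)
    have hX : Z ⊔ K' ≤ H ⊓ Q := sup_le (le_inf hZH (hZ ▸ h.zc_le_Q))
      (hK' ▸ sup_le (inf_le_inf_right _ (hH ▸ le_sup_left)) (inf_le_inf_right _ (hH ▸ le_sup_right)))
    suffices hle : H ⊓ Q ≤ Z ⊔ K' from sup_le_sup_left hK'K Z (hle hcmem)
    refine (eq_of_le_of_card_ge hX ?_).ge
    have e2 := card_mul_card_le_sup_inf Z K'
    have e3 := card_mul_card_le_sup_inf (A ⊓ Q) (B ⊓ Q)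
    rw [← hK', show (A ⊓ Q) ⊓ (B ⊓ Q) = I from le_antisymm
      (hI ▸ le_inf (inf_le_left.trans inf_le_left) (inf_le_right.trans inf_le_left))
      (le_inf (le_inf (hI ▸ inf_le_left) hIQ) (le_inf (hI ▸ inf_le_right) hIQ))] at e3
    have e4 : Nat.card ↥(Z ⊓ K') ≤ Nat.card ↥(om p S) :=
      card_le_of_le ((inf_le_inf_left Z hK'K).trans hZK)
    have e5 : Nat.card ↥(B ⊓ Q) = Nat.card ↥(A ⊓ Q) := by rw [hB0, card_cj]
    rw [e5] at e3
    have e6 := CfsgLib.Core.card_sup_mul_card_inf A Q (hA.le.trans hSQn)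
    rw [(h.outer r hA hAQ).2.1] at e6
    -- `|A ∩ Q|² |S| = |H ∩ Q| |I| |Q|`
    have e7 : Nat.card ↥(A ⊓ Q) * Nat.card ↥(A ⊓ Q) * Nat.card ↥S =
        Nat.card ↥(H ⊓ Q) * Nat.card ↥I * Nat.card ↥Q := by
      refine Nat.eq_of_mul_eq_mul_right (Nat.card_pos (α := S)) ?_
      calc Nat.card ↥(A ⊓ Q) * Nat.card ↥(A ⊓ Q) * Nat.card ↥S * Nat.card ↥S
          = (Nat.card ↥S * Nat.card ↥(A ⊓ Q)) * (Nat.card ↥S * Nat.card ↥(A ⊓ Q)) := by ring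
        _ = (Nat.card ↥A * Nat.card ↥A) * (Nat.card ↥Q * Nat.card ↥Q) := by rw [e6]; ring
        _ = Nat.card ↥H * Nat.card ↥I * (Nat.card ↥Q * Nat.card ↥Q) := by rw [hA.card, ← hHI]
        _ = (Nat.card ↥H * Nat.card ↥Q) * Nat.card ↥I * Nat.card ↥Q := by ring
        _ = _ := by rw [← e1]; ring
    refine Nat.le_of_mul_le_mul_right ?_ (Nat.mul_pos (Nat.mul_pos (Nat.card_pos (α := ↥(om p S)))
      (Nat.card_pos (α := I))) (Nat.card_pos (α := Q)))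
    calc Nat.card ↥(H ⊓ Q) * (Nat.card ↥(om p S) * Nat.card ↥I * Nat.card ↥Q)
        = (Nat.card ↥(A ⊓ Q) * Nat.card ↥(A ⊓ Q)) * (Nat.card ↥S * Nat.card ↥(om p S)) := by
          rw [← mul_assoc (Nat.card ↥(A ⊓ Q) * Nat.card ↥(A ⊓ Q)), e7]; ring
      _ ≤ (Nat.card ↥K' * Nat.card ↥I) * (Nat.card ↥Z * Nat.card ↥Q) := by
          rw [hcardZ]; exact Nat.mul_le_mul_right _ e3
      _ = (Nat.card ↥Z * Nat.card ↥K') * (Nat.card ↥I * Nat.card ↥Q) := by ring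
      _ ≤ (Nat.card ↥(Z ⊔ K') * Nat.card ↥(om p S)) * (Nat.card ↥I * Nat.card ↥Q) :=
          Nat.mul_le_mul_right _ (e2.trans (Nat.mul_le_mul_left _ e4))
      _ = _ := by ring
  · -- `I Q = S`
    obtain ⟨x, hxI, hxQ⟩ := SetLike.not_le_iff_exists.1 hIQ
    have hIS : I ≤ S := hI ▸ inf_le_left.trans hA.le
    have hHc : H ≤ centralizer (I : Set W) := hCI.ge.trans inf_le_right
    have hZH : Z ⊓ H ≤ om p S := fun z hz => F.fixed x (hIS hxI) hxQ z (hZ ▸ hz.1) (mem_comm hHc hz.2 hxI)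
    have hIH : I ≤ H := hH ▸ hI ▸ inf_le_left.trans le_sup_left
    have hIab : I ≤ centralizer (I : Set W) := hI ▸ inf_le_left.trans (hA.comm.trans (centralizer_anti inf_le_left))
    have hZZ : Z ≤ centralizer (Z : Set W) := hZ ▸ h.zc_abelian
    have hXY : Z ⊔ (I ⊓ Q) ≤ S ⊓ centralizer ((Z ⊔ (H ⊓ Q) : Subgroup W) : Set W) := by
      refine le_inf (sup_le (hZ ▸ h.zc_le_S) (inf_le_right.trans h.QS)) (sup_le ?_ ?_)
      · exact sup_comm_le hZZ (comm_symm (hZ ▸ h.zc_cent inf_le_right))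
      · exact sup_comm_le (hZ ▸ h.zc_cent inf_le_right)
          ((inf_le_left.trans hHc).trans (centralizer_anti inf_le_left))
    have e2 := (Nat.mul_le_mul_left _ (card_le_of_le hXY)).trans
      (r.cd (Z ⊔ (H ⊓ Q)) (sup_le (hZ ▸ h.zc_le_S) (inf_le_right.trans h.QS)))
    have e3 : Nat.card ↥Z * Nat.card ↥(H ⊓ Q) ≤ Nat.card ↥(Z ⊔ (H ⊓ Q)) * Nat.card ↥(om p S) :=
      (card_mul_card_le_sup_inf _ _).trans (Nat.mul_le_mul_left _
        (card_le_of_le ((inf_le_inf_left Z inf_le_left).trans hZH)))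
    have e4 : Nat.card ↥Z * Nat.card ↥(I ⊓ Q) ≤ Nat.card ↥(Z ⊔ (I ⊓ Q)) * Nat.card ↥(om p S) :=
      (card_mul_card_le_sup_inf _ _).trans (Nat.mul_le_mul_left _
        (card_le_of_le ((inf_le_inf_left Z (inf_le_left.trans hIH)).trans hZH)))
    have e5 : Nat.card ↥S * Nat.card ↥(I ⊓ Q) ≤ Nat.card ↥I * Nat.card ↥Q := by
      refine Nat.le_of_mul_le_mul_left ?_ (Nat.mul_pos (Nat.mul_pos (Nat.card_pos (α := ↥(om p S)))
        (Nat.card_pos (α := ↥(om p S)))) (Nat.mul_pos (Nat.card_pos (α := H)) (Nat.card_pos (α := Q))))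
      calc Nat.card ↥(om p S) * Nat.card ↥(om p S) * (Nat.card ↥H * Nat.card ↥Q) *
            (Nat.card ↥S * Nat.card ↥(I ⊓ Q))
          = (Nat.card ↥S * Nat.card ↥(om p S)) * Nat.card ↥(om p S) * Nat.card ↥(I ⊓ Q) *
              (Nat.card ↥H * Nat.card ↥Q) := by ring
        _ = (Nat.card ↥Z * Nat.card ↥Q) * Nat.card ↥(om p S) * Nat.card ↥(I ⊓ Q) *
              (Nat.card ↥S * Nat.card ↥(H ⊓ Q)) := by rw [← hcardZ, e1]
        _ = Nat.card ↥Q * ((Nat.card ↥Z * Nat.card ↥(H ⊓ Q)) * (Nat.card ↥S * Nat.card ↥(om p S)) *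
              Nat.card ↥(I ⊓ Q)) := by ring
        _ = Nat.card ↥Q * ((Nat.card ↥Z * Nat.card ↥(H ⊓ Q)) * (Nat.card ↥Z * Nat.card ↥(I ⊓ Q)) *
              Nat.card ↥Q) := by rw [← hcardZ]; ring
        _ ≤ Nat.card ↥Q * ((Nat.card ↥(Z ⊔ (H ⊓ Q)) * Nat.card ↥(om p S)) *
              (Nat.card ↥(Z ⊔ (I ⊓ Q)) * Nat.card ↥(om p S)) * Nat.card ↥Q) :=
            Nat.mul_le_mul_left _ (Nat.mul_le_mul_right _ (Nat.mul_le_mul e3 e4))
        _ = (Nat.card ↥(Z ⊔ (H ⊓ Q)) * Nat.card ↥(Z ⊔ (I ⊓ Q))) *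
              (Nat.card ↥(om p S) * Nat.card ↥(om p S) * (Nat.card ↥Q * Nat.card ↥Q)) := by ring
        _ ≤ mu p S * (Nat.card ↥(om p S) * Nat.card ↥(om p S) * (Nat.card ↥Q * Nat.card ↥Q)) :=
            Nat.mul_le_mul_right _ e2
        _ = _ := by rw [← hHI]; ring
    have e6 := CfsgLib.Core.card_sup_mul_card_inf I Q (hIS.trans hSQn)
    have hIQS : I ⊔ Q = S := eq_of_le_of_card_ge (sup_le hIS h.QS)
      (Nat.le_of_mul_le_mul_right (e6 ▸ e5) Nat.card_pos)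
    obtain ⟨i, hi, t, ht, rfl⟩ := mem_sup_mul (hIS.trans hSQn) (hIQS.ge (hA.le ha))
    rw [hI] at hi
    have htA : t ∈ A ⊓ Q := ⟨by simpa using A.mul_mem (A.inv_mem hi.1) ha, ht⟩
    refine mem_sup_right ?_
    have h1 : o * i * o⁻¹ * i⁻¹ ∈ K := hB0K ⟨B.mul_mem (hB.ge (conj_mem_cj hi.1)) (B.inv_mem hi.2), by
      rw [mul_assoc, mul_assoc, ← mul_assoc i]
      exact mul_mem ho (h.Qn i (h.SG (hA.le hi.1)) _ (inv_mem ho))⟩
    have h2 : i * ⁅o, t⁆ * i⁻¹ ∈ K :=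
      hK ▸ mem_sup_right (h.phi_stable' i (h.SG (hA.le hi.1)) _ (comm_mem_phi ho htA.2))
    convert mul_mem h1 h2 using 1
    rw [commutatorElement_def, commutatorElement_def]
    group

end CfsgLib.PushFam
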