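import Cfsg.Agent.Lib.LocalEvenB.PushFam.Quad

/-!
# Pushing-up families: the graph of a family

A vertex is a triple (group, core, module); an edge is a Sylow subgroup, `At v T` says that `T` is an edge at
`v`. Conjugation moves vertices and edges.
-/

set_option autoImplicit false

namespace CfsgLib.PushFam

open Subgroup CfsgLib.PushUp
open CfsgLib.LocalEvenB.PushCL (phi map_phi)
open scoped commutatorElement

variable {W : Type*} [Group W]

/-- A vertex. -/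
@[ext] structure Vx (W : Type*) [Group W] where
  G : Subgroup W
  Q : Subgroup W
  Z : Subgroup W

/-- The translate of a vertex. -/
def Vx.tr (x : W) (v : Vx W) : Vx W := ⟨cj x v.G, cj x v.Q, cj x v.Z⟩

/-- A system of vertices and edges. -/
structure Sys (p : ℕ) (At : Vx W → Subgroup W → Prop) : Prop where
  loc : ∀ {v T}, At v T → ∃ M, Bad p v.G T v.Q M
  res : ∀ {v T}, At v T → Res p T
  zeq : ∀ {v T}, At v T → v.Z = zc p v.G T
  phiG : ∀ {v T}, At v T → ¬ v.Z ⊓ phi p v.Q ≤ centralizer (v.G : Set W)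
  conj : ∀ {v T}, At v T → ∀ x, At (v.tr x) (cj x T)
  card_eq : ∀ {v T w T'}, At v T → At w T' →
    Nat.card ↥T = Nat.card ↥T' ∧ Nat.card ↥(om p T) = Nat.card ↥(om p T')

variable {p : ℕ} {At : Vx W → Subgroup W → Prop}

/-- Adjacency. -/
def AdjV (At : Vx W → Subgroup W → Prop) (u v : Vx W) : Prop := ∃ T, At u T ∧ At v T

/-- Distance at most `k`. -/
def NearV (At : Vx W → Subgroup W → Prop) : ℕ → Vx W → Vx W → Prop
  | 0, u, v => u = v ∧ ∃ T, At u T
  | k + 1, u, v => NearV At k u v ∨ ∃ c, NearV At k u c ∧ AdjV At c v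

theorem AdjV.symm {u v : Vx W} : AdjV At u v → AdjV At v u := fun ⟨T, h1, h2⟩ => ⟨T, h2, h1⟩

theorem NearV.refl {v : Vx W} {T : Subgroup W} (h : At v T) : NearV At 0 v v := ⟨rfl, T, h⟩

theorem NearV.mono {k l : ℕ} {u v : Vx W} (h : NearV At k u v) (hkl : k ≤ l) : NearV At l u v := by
  induction l, hkl using Nat.le_induction with
  | base => exact h
  | succ l _ ih => exact Or.inl ih

theorem NearV.left {k : ℕ} {u v : Vx W} (h : NearV At k u v) : ∃ T, At u T := by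
  induction k generalizing v with
  | zero => exact h.2
  | succ k ih =>
    rcases h with h | ⟨c, hc, -⟩
    · exact ih h
    · exact ih hc

theorem NearV.trans {k l : ℕ} {a b c : Vx W} (h1 : NearV At k a b) (h2 : NearV At l b c) :
    NearV At (k + l) a c := by
  induction l generalizing c with
  | zero => exact h2.1 ▸ h1
  | succ l ih =>
    rcases h2 with h2 | ⟨d, hd, hdc⟩
    · exact Or.inl (ih h2)
    · exact Or.inr ⟨d, ih hd, hdc⟩

theorem AdjV.near {u v : Vx W} (h : AdjV At u v) : NearV At 1 u v :=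
  Or.inr ⟨u, by obtain ⟨T, hT, -⟩ := h; exact NearV.refl hT, h⟩

theorem NearV.symm {k : ℕ} {u v : Vx W} (h : NearV At k u v) : NearV At k v u := by
  induction k generalizing v with
  | zero => obtain ⟨rfl, h2⟩ := h; exact ⟨rfl, h2⟩
  | succ k ih =>
    rcases h with h | ⟨c, hc, hcv⟩
    · exact Or.inl (ih h)
    · have := hcv.symm.near.trans (ih hc)
      rwa [Nat.add_comm] at this

theorem NearV.head {k : ℕ} {u v : Vx W} (h : NearV At (k + 1) u v) :
    ∃ c, AdjV At u c ∧ NearV At k c v := by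
  rcases h.symm with h' | ⟨c, hc, hcu⟩
  · obtain ⟨T, hT⟩ := h.left
    exact ⟨u, ⟨T, hT, hT⟩, h'.symm⟩
  · exact ⟨c, hcu.symm, hc.symm⟩

theorem NearV.translate (hs : Sys p At) (x : W) {k : ℕ} {u v : Vx W} (h : NearV At k u v) :
    NearV At k (u.tr x) (v.tr x) := by
  induction k generalizing v with
  | zero =>
    obtain ⟨rfl, T, hT⟩ := h
    exact ⟨rfl, _, hs.conj hT x⟩
  | succ k ih =>
    rcases h with h | ⟨c, hc, T, h1, h2⟩
    · exact Or.inl (ih h)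
    · exact Or.inr ⟨c.tr x, ih hc, _, hs.conj h1 x, hs.conj h2 x⟩

variable (hs : Sys p At)
include hs

theorem Sys.Q_le {v : Vx W} {T : Subgroup W} (h : At v T) : v.Q ≤ T :=
  let ⟨_, b⟩ := hs.loc h; b.QS

theorem Sys.T_le {v : Vx W} {T : Subgroup W} (h : At v T) : T ≤ v.G :=
  let ⟨_, b⟩ := hs.loc h; b.SG

theorem Sys.Q_le_G {v : Vx W} {T : Subgroup W} (h : At v T) : v.Q ≤ v.G := (hs.Q_le h).trans (hs.T_le h)

theorem Sys.Qn {v : Vx W} {T : Subgroup W} (h : At v T) : Stable v.G v.Q :=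
  let ⟨_, b⟩ := hs.loc h; b.Qn

theorem Sys.Zn {v : Vx W} {T : Subgroup W} (h : At v T) : Stable v.G v.Z := hs.zeq h ▸ zc_stable _ _

theorem Sys.om_le_Z {v : Vx W} {T : Subgroup W} (h : At v T) : om p T ≤ v.Z := hs.zeq h ▸ om_le_zc _ _

variable [Finite W] [Fact p.Prime]

omit hs [Fact p.Prime] in
theorem Vx.tr_eq {v : Vx W} {g : W} (hg : g ∈ v.G) (hQ : Stable v.G v.Q) (hZ : Stable v.G v.Z) : v.tr g = v :=
  Vx.ext (st_cj_eq (fun a ha x hx => cj_self ha hx) hg) (st_cj_eq hQ hg) (st_cj_eq hZ hg)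

omit [Fact p.Prime] in
theorem Sys.tr_self {v : Vx W} {T : Subgroup W} (h : At v T) {g : W} (hg : g ∈ v.G) : v.tr g = v :=
  Vx.tr_eq hg (hs.Qn h) (hs.Zn h)

omit [Fact p.Prime] in
theorem Sys.at_conj {v : Vx W} {T : Subgroup W} (h : At v T) {g : W} (hg : g ∈ v.G) : At v (cj g T) := by
  have := hs.conj h g
  rwa [hs.tr_self h hg] at this

omit [Fact p.Prime] in
/-- Two edges at a vertex are conjugate in its group. -/
theorem Sys.edge_conj {v : Vx W} {T T' : Subgroup W} (h : At v T) (h' : At v T') : ∃ g ∈ v.G, cj g T = T' := by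
  obtain ⟨M, b⟩ := hs.loc h
  obtain ⟨g, hg, hle⟩ := b.syl v.G le_rfl b.SG T' (hs.T_le h') (hs.res h').pT
  exact ⟨g, hg, (eq_of_le_of_card_ge hle ((card_cj g T).trans (hs.card_eq h h').1).le).symm⟩

theorem Sys.exists_opp {v : Vx W} {T : Subgroup W} (h : At v T) : ∃ T', At v T' ∧ T' ⊔ T = v.G := by
  obtain ⟨M, b⟩ := hs.loc h
  obtain ⟨g, hg, hgM⟩ := b.exists_out
  exact ⟨cj g T, hs.at_conj h hg, sup_comm (cj g T) T ▸ b.gen hg hgM⟩

theorem Sys.Z_le_Q {v : Vx W} {T : Subgroup W} (h : At v T) : v.Z ≤ v.Q :=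
  let ⟨_, b⟩ := hs.loc h; hs.zeq h ▸ b.zc_le_Q

theorem Sys.Z_cent {v : Vx W} {T : Subgroup W} (h : At v T) : v.Z ≤ centralizer (v.Q : Set W) :=
  let ⟨_, b⟩ := hs.loc h; hs.zeq h ▸ b.zc_le.trans inf_le_right

theorem Sys.comm_Q {v : Vx W} {T : Subgroup W} (h : At v T) {x y : W} (hx : x ∈ v.Z) (hy : y ∈ v.Q) :
    x * y = y * x := (mem_centralizer_iff.1 (hs.Z_cent h hx) y hy).symm

theorem Sys.inf_cz {v : Vx W} {T : Subgroup W} (h : At v T) : T ⊓ centralizer (v.Z : Set W) = v.Q :=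
  let ⟨_, b⟩ := hs.loc h; hs.zeq h ▸ b.inf_cz

theorem Sys.mem_Q {v : Vx W} {T : Subgroup W} (h : At v T) {x : W} (hx : x ∈ T)
    (hc : ∀ z ∈ v.Z, z * x = x * z) : x ∈ v.Q :=
  (hs.inf_cz h).le ⟨hx, mem_centralizer_iff.2 hc⟩

theorem Sys.facts {v : Vx W} {T : Subgroup W} (h : At v T) : ∃ M, Facts p v.G T v.Q M :=
  let ⟨M, b⟩ := hs.loc h; ⟨M, b.natural (hs.res h)⟩

theorem Sys.fixed {v : Vx W} {T : Subgroup W} (h : At v T) {x z : W} (hx : x ∈ T) (hxQ : x ∉ v.Q)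
    (hz : z ∈ v.Z) (hc : x * z = z * x) : z ∈ om p T :=
  let ⟨_, F⟩ := hs.facts h; F.fixed x hx hxQ z (hs.zeq h ▸ hz) hc

theorem Sys.mov {v : Vx W} {T : Subgroup W} (h : At v T) {x z : W} (hx : x ∈ T) (hz : z ∈ v.Z)
    (hc : z * x * z⁻¹ * x⁻¹ ∈ centralizer (v.G : Set W)) : x * z = z * x :=
  let ⟨_, F⟩ := hs.facts h; F.mov x hx z (hs.zeq h ▸ hz) hc

theorem Sys.quad {v : Vx W} {T : Subgroup W} (h : At v T) {x z : W} (hx : x ∈ T) (hz : z ∈ v.Z) :
    ⁅z, x⁆ ∈ om p T := by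
  obtain ⟨M, F⟩ := hs.facts h
  have h1 := inv_mem (F.quad x hx z (hs.zeq h ▸ hz))
  convert h1 using 1
  rw [commutatorElement_def]; group

theorem Sys.fix_le_om {v : Vx W} {T : Subgroup W} (h : At v T) :
    v.Z ⊓ centralizer (v.G : Set W) ≤ om p T := by
  rintro x ⟨hx, hxc⟩
  have hxT := hs.Q_le h (hs.Z_le_Q h hx)
  exact ⟨hxT, fun s hs' => mem_centralizer_iff.1 hxc s (hs.T_le h hs'),
    (hs.res h).center x hxT fun s hs' => mem_centralizer_iff.1 hxc s (hs.T_le h hs')⟩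

/-- The module is generated by its part in `Φ(Q)` and the centralized part. -/
theorem Sys.irreducible {v : Vx W} {T : Subgroup W} (h : At v T) :
    v.Z ≤ (v.Z ⊓ phi p v.Q) ⊔ (v.Z ⊓ centralizer (v.G : Set W)) := by
  obtain ⟨M, F⟩ := hs.facts h
  obtain ⟨H, hH⟩ : ∃ H, H = (v.Z ⊓ phi p v.Q) ⊔ (v.Z ⊓ centralizer (v.G : Set W)) := ⟨_, rfl⟩
  rw [← hH]
  have hst : Stable v.G H := by
    intro g hg x hx
    have e : cj g H ≤ H := by
      rw [hH, show cj g ((v.Z ⊓ phi p v.Q) ⊔ (v.Z ⊓ centralizer (v.G : Set W))) =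
        cj g (v.Z ⊓ phi p v.Q) ⊔ cj g (v.Z ⊓ centralizer (v.G : Set W)) from Subgroup.map_sup _ _ _]
      refine sup_le_sup ?_ ?_
      · rintro _ ⟨y, hy, rfl⟩
        exact ⟨hs.Zn h g hg y hy.1, phi_stable (hs.Qn h) g hg y hy.2⟩
      · rintro _ ⟨y, hy, rfl⟩
        show g * y * g⁻¹ ∈ _
        rw [mem_centralizer_iff.1 hy.2 g hg, mul_inv_cancel_right]
        exact hy
    exact e (conj_mem_cj hx)
  rcases F.irred H (hs.zeq h ▸ hH ▸ le_sup_right) (hs.zeq h ▸ hH ▸ sup_le inf_le_left inf_le_left) hst with e | e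
  · exact absurd ((le_sup_left.trans (hH.ge.trans e.le)).trans inf_le_right) (hs.phiG h)
  · rw [hs.zeq h]; exact e.ge

/-- Every module at distance at most `k` lies in the core. -/
def CommV (At : Vx W → Subgroup W → Prop) (k : ℕ) : Prop := ∀ a c, NearV At k a c → a.Z ≤ c.Q

/-- The critical distance. -/
structure DistV (At : Vx W → Subgroup W → Prop) (b : ℕ) : Prop where
  lt : ∀ j < b, CommV At j
  ne : ¬ CommV At b

omit hs [Finite W] [Fact p.Prime] in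
theorem DistV.le_Q {b : ℕ} (d : DistV At b) {j : ℕ} {a c : Vx W} (h : NearV At j a c) (hj : j < b) :
    a.Z ≤ c.Q := d.lt j hj a c h

/-- A critical pair. -/
structure CritV (At : Vx W → Subgroup W → Prop) (b : ℕ) (a c : Vx W) : Prop where
  near : NearV At b a c
  nle : ¬ a.Z ≤ c.Q

omit hs [Finite W] [Fact p.Prime] in
theorem DistV.exists_crit {b : ℕ} (d : DistV At b) : ∃ a c, CritV At b a c := by
  by_contra hc
  push Not at hc
  exact d.ne fun a c hac => by_contra fun hn => hc a c ⟨hac, hn⟩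

theorem Sys.comm_zero : CommV At 0 := fun _ _ h => by
  obtain ⟨rfl, T, hT⟩ := h
  exact hs.Z_le_Q hT

theorem Sys.dist_pos {b : ℕ} (d : DistV At b) : 1 ≤ b := by
  by_contra hb
  exact d.ne (by rw [Nat.lt_one_iff.1 (Nat.not_le.1 hb)]; exact hs.comm_zero)

theorem Sys.pred {b : ℕ} (d : DistV At b) {a c : Vx W} (hc : CritV At b a c) :
    ∃ a' T, NearV At (b - 1) a a' ∧ At a' T ∧ At c T ∧ a.Z ≤ T := by
  obtain ⟨k, hk⟩ : ∃ k, b = k + 1 := ⟨b - 1, by have := hs.dist_pos d; omega⟩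
  subst hk
  rcases hc.near with h | ⟨a', ha', T, h1, h2⟩
  · exact absurd (d.le_Q h (by omega)) hc.nle
  · exact ⟨a', T, by simpa using ha', h1, h2, (d.le_Q ha' (by omega)).trans (hs.Q_le h1)⟩

/-- Critical pairs are symmetric. -/
theorem Sys.crit_symm {b : ℕ} (d : DistV At b) {a c : Vx W} (hc : CritV At b a c) : CritV At b c a := by
  refine ⟨hc.near.symm, fun hle => hc.nle fun x hx => ?_⟩
  obtain ⟨T0, hT0⟩ := hc.near.left
  obtain ⟨a', T, -, -, hcT, hle'⟩ := hs.pred d hc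
  exact hs.mem_Q hcT (hle' hx) fun z hz => (hs.comm_Q hT0 hx (hle hz)).symm

/-- The fixed line. -/
theorem Sys.inf_centralizer {a c : Vx W} {T0 : Subgroup W} (h0 : At a T0) (hle : c.Z ≤ T0)
    (hnle : ¬ c.Z ≤ a.Q) : a.Z ⊓ centralizer (c.Z : Set W) = om p T0 := by
  refine le_antisymm (fun z hz => ?_) fun z hz => ⟨hs.om_le_Z h0 hz, mem_centralizer_iff.2 fun y hy => ?_⟩
  · obtain ⟨x, hx, hxQ⟩ := SetLike.not_le_iff_exists.1 hnle
    exact hs.fixed h0 (hle hx) hxQ hz.1 (mem_centralizer_iff.1 hz.2 x hx)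
  · exact hz.2.1 y (hle hy)

/-- Half of the covering. -/
theorem Sys.card_sup {b : ℕ} (d : DistV At b) {a c : Vx W} (hc : CritV At b a c) {T T0 : Subgroup W}
    (hT : At c T) (hle : a.Z ≤ T) (hT0 : At a T0) (hle0 : c.Z ≤ T0) :
    Nat.card ↥(a.Z ⊔ c.Q) * Nat.card ↥a.Q = Nat.card ↥T * Nat.card ↥c.Q := by
  obtain ⟨M, F⟩ := hs.facts hT0
  have hcardZ := F.cardZ
  rw [← hs.zeq hT0] at hcardZ
  have e2 := CfsgLib.Core.card_sup_mul_card_inf a.Z c.Q
    ((hle.trans (hs.T_le hT)).trans (st_le_normalizer (hs.Qn hT)))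
  have e3 : a.Z ⊓ c.Q = om p T0 := by
    rw [← hs.inf_centralizer hT0 hle0 (hs.crit_symm d hc).nle]
    refine le_antisymm (fun x hx => ⟨hx.1, mem_centralizer_iff.2 fun z hz => hs.comm_Q hT hz hx.2⟩)
      fun x hx => ⟨hx.1, hs.mem_Q hT (hle hx.1) fun z hz => mem_centralizer_iff.1 hx.2 z hz⟩
  rw [e3] at e2
  refine Nat.eq_of_mul_eq_mul_right (Nat.card_pos (α := ↥(om p T0))) ?_
  calc Nat.card ↥(a.Z ⊔ c.Q) * Nat.card ↥a.Q * Nat.card ↥(om p T0)
      = (Nat.card ↥(a.Z ⊔ c.Q) * Nat.card ↥(om p T0)) * Nat.card ↥a.Q := by ring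
    _ = (Nat.card ↥a.Z * Nat.card ↥a.Q) * Nat.card ↥c.Q := by rw [e2]; ring
    _ = _ := by rw [hcardZ, (hs.card_eq hT hT0).1]; ring

/-- The modules of a critical pair cover the edge modulo the core. -/
theorem Sys.full {b : ℕ} (d : DistV At b) {a c : Vx W} (hc : CritV At b a c) {T : Subgroup W}
    (hT : At c T) (hle : a.Z ≤ T) : a.Z ⊔ c.Q = T := by
  obtain ⟨-, T0, -, -, hT0, hle0⟩ := hs.pred d (hs.crit_symm d hc)
  have e1 := hs.card_sup d hc hT hle hT0 hle0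
  have e2 := hs.card_sup d (hs.crit_symm d hc) hT0 hle0 hT hle
  have h1 : Nat.card ↥(c.Z ⊔ a.Q) ≤ Nat.card ↥T0 := card_le_of_le (sup_le hle0 (hs.Q_le hT0))
  have h2 : a.Z ⊔ c.Q ≤ T := sup_le hle (hs.Q_le hT)
  rw [(hs.card_eq hT0 hT).1] at e2 h1
  refine eq_of_le_of_card_ge h2 (Nat.le_of_mul_le_mul_right ?_ (Nat.card_pos (α := a.Q)))
  have h3 : Nat.card ↥a.Q ≤ Nat.card ↥c.Q := by
    refine Nat.le_of_mul_le_mul_left (e2.symm.trans_le (Nat.mul_le_mul_right _ h1)) Nat.card_pos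
  rw [e1]
  exact Nat.mul_le_mul_left _ h3

/-- The critical distance is not one. -/
theorem Sys.two_le_dist {b : ℕ} (d : DistV At b) : 2 ≤ b := by
  by_contra hb
  have h1 : b = 1 := by have := hs.dist_pos d; omega
  subst h1
  obtain ⟨a, c, hc⟩ := d.exists_crit
  rcases hc.near with h | ⟨e, ⟨rfl, -⟩, T, hT, hT'⟩
  · obtain ⟨rfl, T, hT⟩ := h
    exact hc.nle (hs.Z_le_Q hT)
  refine hc.nle ((hs.irreducible hT).trans (sup_le ?_ ?_))
  · obtain ⟨M, b⟩ := hs.loc hT'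
    exact inf_le_right.trans ((phi_mono (hs.Q_le hT)).trans (phi_le (fun x hx y hy => b.ab x hx y hy) b.pw))
  · obtain ⟨M, b⟩ := hs.loc hT'
    exact (hs.fix_le_om hT).trans b.om_le_Q

/-- If all modules lie in all cores, some subgroup is invariant under all. -/
theorem Sys.exists_inv (hall : ∀ k, CommV At k) {v₀ : Vx W} {T : Subgroup W} (h₀ : At v₀ T) :
    ∃ R : Subgroup W, R ≤ T ∧ (∀ v, At v T → v.Z ≤ R ∧ Stable v.G R) ∧
      ∀ x, (∀ v, At v T → At (v.tr x) T) → ∀ y ∈ R, x * y * x⁻¹ ∈ R := by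
  obtain ⟨R, hR⟩ : ∃ R, R = closure {y | ∃ k u, NearV At k v₀ u ∧ y ∈ u.Z} := ⟨_, rfl⟩
  have hmove : ∀ x, ∀ j, NearV At j v₀ (v₀.tr x) → ∀ y ∈ R, x * y * x⁻¹ ∈ R := by
    intro x j hj y hy
    rw [hR] at hy ⊢
    induction hy using closure_induction with
    | mem y hy =>
      obtain ⟨k, u, hk, hy⟩ := hy
      exact subset_closure ⟨j + k, u.tr x, hj.trans (hk.translate hs x), conj_mem_cj hy⟩
    | one => simp
    | mul a b _ _ ha hb => simpa [mul_assoc] using mul_mem ha hb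
    | inv a _ ha => simpa [mul_assoc] using inv_mem ha
  refine ⟨R, ?_, fun v hv => ⟨fun y hy => hR.ge (subset_closure ⟨1, v, AdjV.near ⟨T, h₀, hv⟩, hy⟩), ?_⟩, ?_⟩
  · rw [hR, closure_le]
    rintro y ⟨k, u, hk, hy⟩
    exact hs.Q_le h₀ (hall k u v₀ hk.symm hy)
  · intro g hg
    refine hmove g 2 ?_
    have h1 : NearV At 1 v (v₀.tr g) := by
      have := (AdjV.near (⟨T, hv, h₀⟩ : AdjV At v v₀)).translate hs g
      rwa [hs.tr_self hv hg] at this
    exact (AdjV.near ⟨T, h₀, hv⟩).trans h1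
  · intro x hx
    exact hmove x 1 (AdjV.near ⟨T, h₀, hx v₀ h₀⟩)

theorem Sys.exists_dist (hne : ¬ ∀ k, CommV At k) : ∃ b, DistV At b := by
  classical
  have he : ∃ k, ¬ CommV At k := not_forall.1 hne
  exact ⟨Nat.find he, fun j hj => by_contra fun hc => (Nat.find_min he hj) hc, Nat.find_spec he⟩

/-! ### Central neighbours -/

omit hs [Finite W] [Fact p.Prime] in
/-- `z` is centralized by the group of `a` modulo its module. -/
def CentV (a : Vx W) (z : W) : Prop := ∀ g ∈ a.G, ⁅z, g⁆ ∈ a.Z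

omit hs [Finite W] [Fact p.Prime] in
/-- All the modules around `a` are central at `a`. -/
def CentType (At : Vx W → Subgroup W → Prop) (a : Vx W) : Prop :=
  ∀ u, AdjV At u a → ∀ z ∈ u.Z, CentV a z

omit [Fact p.Prime] in
theorem Sys.cent_conj {a : Vx W} {T : Subgroup W} (h : At a T) {g z : W} (hg : g ∈ a.G) (hz : CentV a z) :
    CentV a (g * z * g⁻¹) := by
  intro k hk
  have := hs.Zn h g hg _ (hz (g⁻¹ * k * g) (mul_mem (mul_mem (inv_mem hg) hk) hg))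
  convert this using 1
  simp only [commutatorElement_def]
  group

omit [Fact p.Prime] in
theorem Sys.cent_of_opp {a : Vx W} {T T' : Subgroup W} (h : At a T) {z : W} (hgen : T ⊔ T' = a.G)
    (h1 : ∀ g ∈ T, ⁅z, g⁆ ∈ a.Z) (h2 : ∀ g ∈ T', ⁅z, g⁆ ∈ a.Z) : CentV a z := by
  obtain ⟨K, hK⟩ : ∃ K : Subgroup W, ∀ g, g ∈ K ↔ g ∈ a.G ∧ ⁅z, g⁆ ∈ a.Z :=
    ⟨{ carrier := {g | g ∈ a.G ∧ ⁅z, g⁆ ∈ a.Z}
       one_mem' := ⟨one_mem _, by rw [commutatorElement_one_right]; exact one_mem _⟩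
       mul_mem' := fun {x y} hx hy => ⟨mul_mem hx.1 hy.1, by
         have := a.Z.mul_mem hx.2 (hs.Zn h x hx.1 _ hy.2)
         convert this using 1
         simp only [commutatorElement_def]
         group⟩
       inv_mem' := fun {x} hx => ⟨inv_mem hx.1, by
         have := (hs.Zn h).inv hx.1 (inv_mem hx.2)
         convert this using 1
         simp only [commutatorElement_def]
         group⟩ }, fun _ => Iff.rfl⟩
  intro g hg
  rw [← hgen] at hg
  have hle : T ⊔ T' ≤ K := sup_le (fun x hx => (hK x).2 ⟨hgen.le (mem_sup_left hx), h1 x hx⟩)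
    (fun x hx => (hK x).2 ⟨hgen.le (mem_sup_right hx), h2 x hx⟩)
  exact ((hK g).1 (hle hg)).2

/-- Modulo the module, a neighbour's module is centralized by the common edge. -/
theorem Sys.near_mod {u a : Vx W} {T : Subgroup W} (hu : At u T) (ha : At a T) {z : W} (hz : z ∈ u.Z) :
    ∀ g ∈ T, ⁅z, g⁆ ∈ a.Z := fun _ hg => hs.om_le_Z ha (hs.quad hu hg hz)

/-- The far module centralizes modulo `a.Z`. -/
theorem Sys.mod_far {b : ℕ} (d : DistV At b) {a c : Vx W} {T T0 : Subgroup W} (hc : CritV At b a c)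
    (hT : At c T) (hle : a.Z ≤ T) (hT0 : At a T0) (hle0 : c.Z ≤ T0) {z : W} (hz : z ∈ T)
    (hzQ : ∀ q ∈ a.Q, ⁅z, q⁆ ∈ a.Z) : ∀ g ∈ T0, ⁅z, g⁆ ∈ a.Z := by
  intro g hg
  obtain ⟨x, hx, q, hq, e⟩ := mem_sup_mul ((hle0.trans (hs.T_le hT0)).trans (st_le_normalizer (hs.Qn hT0)))
    ((hs.full d (hs.crit_symm d hc) hT0 hle0).ge hg)
  obtain ⟨z0, hz0, q', hq', e'⟩ := mem_sup_mul ((hle.trans (hs.T_le hT)).trans (st_le_normalizer (hs.Qn hT)))
    ((hs.full d hc hT hle).ge hz)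
  have hxG : x ∈ a.G := hs.T_le hT0 (hle0 hx)
  have h1 : ⁅z0, x⁆ ∈ a.Z := (hs.Zn hT0).comm_left hxG hz0
  have e1 : ⁅z, x⁆ = ⁅z0, x⁆ := by
    have e2 : q' * x * q'⁻¹ = x := by rw [← hs.comm_Q hT hx hq', mul_inv_cancel_right]
    rw [← e', commutatorElement_def, commutatorElement_def]
    calc z0 * q' * x * (z0 * q')⁻¹ * x⁻¹ = z0 * (q' * x * q'⁻¹) * z0⁻¹ * x⁻¹ := by group
      _ = _ := by rw [e2]
  have h2 := a.Z.mul_mem (e1 ▸ h1 : ⁅z, x⁆ ∈ a.Z) (hs.Zn hT0 x hxG _ (hzQ q hq))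
  convert h2 using 1
  rw [← e]
  simp only [commutatorElement_def]
  group

/-- A critical pair extends backwards over an opposite edge, unless all neighbours are central. -/
theorem Sys.extend {b : ℕ} (d : DistV At b) {a c a' : Vx W} {T T0 : Subgroup W} (hc : CritV At b a c)
    (hn : NearV At (b - 1) a a') (ha' : At a' T) (hcT : At c T) (hT0 : At a T0) (hle0 : c.Z ≤ T0)
    (hnc : ¬ CentType At a) :
    ∃ δ T1, At a T1 ∧ At δ T1 ∧ T1 ⊔ T0 = a.G ∧ CritV At b δ a' := by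
  have hb := hs.dist_pos d
  have hle : a.Z ≤ T := (d.le_Q hn (by omega)).trans (hs.Q_le ha')
  by_contra hall
  push Not at hall
  refine hnc fun u ⟨T', hu, hT'⟩ z hz => ?_
  obtain ⟨T1, hT1, ho⟩ := hs.exists_opp hT0
  obtain ⟨g, hg, he⟩ := hs.edge_conj hT' hT1
  have hu1 : At (u.tr g) T1 := he ▸ hs.conj hu g
  have hδ : (u.tr g).Z ≤ a'.Q := by
    by_contra hcon
    refine hall (u.tr g) T1 hT1 hu1 ho ⟨?_, hcon⟩
    have := (AdjV.near (⟨T1, hu1, hT1⟩ : AdjV At (u.tr g) a)).trans hn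
    rwa [show 1 + (b - 1) = b by omega] at this
  have hz1 : g * z * g⁻¹ ∈ (u.tr g).Z := conj_mem_cj hz
  have hcent : CentV a (g * z * g⁻¹) := hs.cent_of_opp hT1 ho (hs.near_mod hu1 hT1 hz1)
    (hs.mod_far d hc hcT hle hT0 hle0 (hs.Q_le ha' (hδ hz1))
      fun q hq => hs.near_mod hu1 hT1 hz1 q (hs.Q_le hT1 hq))
  have := hs.cent_conj hT' (inv_mem hg) hcent
  simpa [mul_assoc] using this

/-- The first step of a critical pair is not central. -/
theorem Sys.noncentral {b : ℕ} (d : DistV At b) {δ a c : Vx W} (hc : CritV At b δ c) (hadj : AdjV At δ a)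
    (hn : NearV At (b - 1) a c) : ∃ z ∈ δ.Z, ¬ CentV a z := by
  obtain ⟨T, hδ, ha⟩ := hadj
  obtain ⟨k, hk⟩ : ∃ k, b = k + 2 := ⟨b - 2, by have := hs.two_le_dist d; omega⟩
  subst hk
  obtain ⟨a2, ⟨T2, ha2', ha2⟩, hn2⟩ := NearV.head (k := k) (u := a) (v := c) (by simpa using hn)
  obtain ⟨g, hg, he⟩ := hs.edge_conj ha ha2'
  by_contra hall
  push Not at hall
  have h1 : (δ.tr g).Z ≤ c.Q := by
    refine d.le_Q ((AdjV.near (⟨T2, he ▸ hs.conj hδ g, ha2⟩ : AdjV At (δ.tr g) a2)).trans hn2) (by omega)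
  refine hc.nle fun z hz => ?_
  have h3 : ⁅z, g⁆ ∈ c.Q := d.le_Q (j := k + 1) (by simpa using hn) (by omega) (hall z hz g hg)
  have h4 : g * z * g⁻¹ ∈ c.Q := h1 (conj_mem_cj hz)
  have h5 := c.Q.mul_mem h3 h4
  convert h5 using 1
  rw [commutatorElement_def]; group

end CfsgLib.PushFam
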