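import Cfsg.Agent.Lib.LocalEvenB.PushFam.Ring

/-!
# Two braiding unipotents on a module over a coprime kernel
-/

set_option autoImplicit false

namespace CfsgLib.PushFam

variable {U : Type*} [AddCommGroup U]

theorem eq_zero_of_nsmul_coprime {k p : ℕ} (h : Nat.Coprime k p) {u : U} (h1 : k • u = 0) (h2 : p • u = 0) : u = 0 :=
  AddMonoid.addOrderOf_eq_one_iff.1 (Nat.eq_one_of_dvd_coprimes h (addOrderOf_dvd_of_nsmul_eq_zero h1)
    (addOrderOf_dvd_of_nsmul_eq_zero h2))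

variable [Finite U] {Γ : Type*} [Group Γ]

theorem finite_addEnd : Finite (AddMonoid.End U) :=
  Finite.of_injective (fun (f : AddMonoid.End U) (u : U) => f u) fun _ _ e => AddMonoidHom.ext (congrFun e)

set_option maxHeartbeats 400000 in
/-- Quadratic action from the braid relations. -/
theorem quad_end {p : ℕ} [Fact p.Prime] (hp5 : 3 < p) (act : Γ →* AddMonoid.End U) (hp : ∀ u : U, p • u = 0)
    (C : Subgroup Γ) [C.Normal] (hcop : Nat.Coprime (Nat.card (C.map act.toHomUnits)) p)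
    (ZI : AddSubgroup U) (hZst : ∀ g, ∀ z ∈ ZI, act g z ∈ ZI) (hZC : ∀ c ∈ C, ∀ z ∈ ZI, act c z = z)
    (a b τ : Γ) (hτ2 : τ * τ ∈ C) (hτa : (a * τ)⁻¹ * (τ * a) ∈ C) (hτb : (b * τ)⁻¹ * (τ * b) ∈ C)
    (hab : a * b * a * (a * b * a) * τ⁻¹ ∈ C) (hba : b * a * b * (b * a * b) * τ⁻¹ ∈ C)
    (hτZ : ∀ z ∈ ZI, act τ z = -z)
    (hA : ∀ u, act a (act a u - u) - (act a u - u) ∈ ZI) (hAZ : ∀ z ∈ ZI, act a (act a z - z) = act a z - z)
    (hB : ∀ u, act b (act b u - u) - (act b u - u) ∈ ZI) (hBZ : ∀ z ∈ ZI, act b (act b z - z) = act b z - z)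
    (hA3 : ∀ u, act a (act a (act a u - u) - (act a u - u)) = act a (act a u - u) - (act a u - u))
    (hB3 : ∀ u, act b (act b (act b u - u) - (act b u - u)) = act b (act b u - u) - (act b u - u)) :
    ∀ u, act a (act a u - u) = act a u - u := by
  classical
  haveI := finite_addEnd (U := U)
  obtain ⟨H, hH⟩ : ∃ H, H = C.map act.toHomUnits := ⟨_, rfl⟩
  rw [← hH] at hcop
  haveI : Fintype ↥H := Fintype.ofFinite _
  have act_mul : ∀ g k : Γ, ∀ u, act (g * k) u = act g (act k u) := fun g k u => by rw [map_mul]; rfl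
  have act_inv : ∀ g : Γ, ∀ u, act g (act g⁻¹ u) = u := fun g u => by rw [← act_mul, mul_inv_cancel, map_one]; rfl
  have hmemH : ∀ x : ↥H, ∃ c ∈ C, ∀ u, ((x : (AddMonoid.End U)ˣ) : AddMonoid.End U) u = act c u := fun x => by
    obtain ⟨c, hc, e⟩ := Subgroup.mem_map.1 (hH.le x.2)
    exact ⟨c, hc, fun u => by rw [← e]; rfl⟩
  obtain ⟨π, hπ⟩ : ∃ π : U → U, ∀ u, π u = ∑ x : ↥H, ((x : (AddMonoid.End U)ˣ) : AddMonoid.End U) u :=
    ⟨_, fun _ => rfl⟩
  have hπfix : ∀ c ∈ C, ∀ u, act c (π u) = π u := by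
    intro c hc u
    rw [hπ, map_sum]
    refine Fintype.sum_equiv (Equiv.mulLeft (⟨act.toHomUnits c, hH.ge ⟨c, hc, rfl⟩⟩ : ↥H)) _ _ fun x => rfl
  have hπcomm : ∀ g u, act g (π u) = π (act g u) := by
    intro g u
    have hconj : ∀ x : ↥H, act.toHomUnits g * x * (act.toHomUnits g)⁻¹ ∈ H := fun x => by
      obtain ⟨c, hc, e⟩ := Subgroup.mem_map.1 (hH.le x.2)
      rw [← e, ← map_inv, ← map_mul, ← map_mul]
      exact hH.ge ⟨_, Subgroup.Normal.conj_mem inferInstance c hc g, rfl⟩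
    rw [hπ, hπ, map_sum]
    let f : ↥H → ↥H := fun x => ⟨_, hconj x⟩
    have hf : Function.Bijective f := Finite.injective_iff_bijective.1 fun x y e => Subtype.ext (by
      simpa [f] using congrArg Subtype.val e)
    refine Fintype.sum_bijective f hf _ _ fun x => ?_
    show act g _ = ((act.toHomUnits g * x * (act.toHomUnits g)⁻¹ : (AddMonoid.End U)ˣ) : AddMonoid.End U) (act g u)
    rw [← map_inv, Units.val_mul, Units.val_mul]
    show act g _ = act g (((x : (AddMonoid.End U)ˣ) : AddMonoid.End U) (act g⁻¹ (act g u)))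
    rw [← act_mul g⁻¹ g u, inv_mul_cancel, map_one]
    rfl
  obtain ⟨al, hal⟩ : ∃ al : U →+ U, ∀ u, al u = act a (act a u - u) - (act a u - u) :=
    ⟨AddMonoidHom.mk' (fun u => act a (act a u - u) - (act a u - u)) fun x y => by
      simp only [map_add, map_sub]; abel, fun u => rfl⟩
  suffices hal0 : ∀ u, al u = 0 from fun u => sub_eq_zero.1 ((hal u).symm.trans (hal0 u))
  intro u
  have halZ : al u ∈ ZI := hal u ▸ hA u
  have h1 : al (π u) = π (al u) := by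
    simp only [hal]
    have e : π (act a (act a u - u) - (act a u - u)) = π (act a (act a u - u)) - (π (act a u) - π u) := by
      simp only [hπ, map_sub, Finset.sum_sub_distrib]
    rw [e, ← hπcomm a (act a u - u), show π (act a u - u) = π (act a u) - π u by
      simp only [hπ, map_sub, Finset.sum_sub_distrib], ← hπcomm a u]
  have h2 : π (al u) = Nat.card ↥H • al u := by
    rw [hπ, Nat.card_eq_fintype_card, ← Finset.card_univ, ← Finset.sum_const]
    refine Finset.sum_congr rfl fun x _ => ?_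
    obtain ⟨c, hc, e⟩ := hmemH x
    rw [e]; exact hZC c hc _ halZ
  refine eq_zero_of_nsmul_coprime hcop ?_ (hp _)
  rw [← h2, ← h1]
  -- the fixed points of `C`
  obtain ⟨v, hv⟩ : ∃ v, v = π u := ⟨_, rfl⟩
  rw [← hv]
  have hvC : ∀ c ∈ C, act c v = v := fun c hc => hv ▸ hπfix c hc u
  have hcomm : ∀ x : Γ, (x * τ)⁻¹ * (τ * x) ∈ C → ∀ w, (∀ c ∈ C, act c w = w) →
      act τ (act x w) = act x (act τ w) := by
    intro x hx w hw
    rw [← act_mul, ← act_mul, show τ * x = (x * τ) * ((x * τ)⁻¹ * (τ * x)) by group, act_mul, hw _ hx]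
  have hfix : ∀ x : Γ, ∀ w, (∀ c ∈ C, act c w = w) → ∀ c ∈ C, act c (act x w) = act x w := by
    intro x w hw c hc
    rw [← act_mul, show c * x = x * (x⁻¹ * c * x) by group, act_mul,
      hw _ (by simpa using Subgroup.Normal.conj_mem inferInstance c hc x⁻¹)]
  obtain ⟨U0, hU0⟩ : ∃ U0 : AddSubgroup U, ∀ w, w ∈ U0 ↔ (∀ c ∈ C, act c w = w) ∧ act τ w = -w :=
    ⟨{ carrier := {w | (∀ c ∈ C, act c w = w) ∧ act τ w = -w}
       zero_mem' := ⟨fun c _ => map_zero _, by rw [map_zero, neg_zero]⟩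
       add_mem' := fun {x y} hx hy => ⟨fun c hc => by rw [map_add, hx.1 c hc, hy.1 c hc], by
         rw [map_add, hx.2, hy.2, neg_add]⟩
       neg_mem' := fun {x} hx => ⟨fun c hc => by rw [map_neg, hx.1 c hc], by rw [map_neg, hx.2]⟩ },
      fun _ => Iff.rfl⟩
  have hstab : ∀ x : Γ, (x * τ)⁻¹ * (τ * x) ∈ C → ∀ w ∈ U0, act x w ∈ U0 := by
    intro x hx w hw
    obtain ⟨h3, h4⟩ := (hU0 w).1 hw
    exact (hU0 _).2 ⟨hfix x w h3, by rw [hcomm x hx w h3, h4, map_neg]⟩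
  obtain ⟨a', ha'⟩ : ∃ f : AddMonoid.End ↥U0, ∀ w : ↥U0, (f w : U) = act a (w : U) - (w : U) :=
    ⟨AddMonoidHom.mk' (fun w => ⟨act a (w : U) - (w : U), sub_mem (hstab a hτa w w.2) w.2⟩) fun u w =>
      Subtype.ext (by simp only [AddSubgroup.coe_add, map_add]; abel), fun _ => rfl⟩
  obtain ⟨b', hb'⟩ : ∃ f : AddMonoid.End ↥U0, ∀ w : ↥U0, (f w : U) = act b (w : U) - (w : U) :=
    ⟨AddMonoidHom.mk' (fun w => ⟨act b (w : U) - (w : U), sub_mem (hstab b hτb w w.2) w.2⟩) fun u w =>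
      Subtype.ext (by simp only [AddSubgroup.coe_add, map_add]; abel), fun _ => rfl⟩
  have one_a : ∀ w : ↥U0, (((1 + a' : AddMonoid.End ↥U0) w : ↥U0) : U) = act a (w : U) := fun w => by
    show (w : U) + (a' w : U) = _
    rw [ha']; abel
  have one_b : ∀ w : ↥U0, (((1 + b' : AddMonoid.End ↥U0) w : ↥U0) : U) = act b (w : U) := fun w => by
    show (w : U) + (b' w : U) = _
    rw [hb']; abel
  have ext0 : ∀ f : AddMonoid.End ↥U0, (∀ w : ↥U0, ((f w : ↥U0) : U) = 0) → f = 0 := fun f hf =>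
    AddMonoidHom.ext fun w => Subtype.ext (hf w)
  have a2 : ∀ w : ↥U0, ((a' (a' w) : ↥U0) : U) ∈ ZI := fun w => by rw [ha', ha']; exact hA w
  have b2 : ∀ w : ↥U0, ((b' (b' w) : ↥U0) : U) ∈ ZI := fun w => by rw [hb', hb']; exact hB w
  have aZ : ∀ w : ↥U0, (w : U) ∈ ZI → ((a' (a' w) : ↥U0) : U) = 0 := fun w hw => by
    rw [ha', ha', hAZ _ hw, sub_self]
  have bZ : ∀ w : ↥U0, (w : U) ∈ ZI → ((b' (b' w) : ↥U0) : U) = 0 := fun w hw => by
    rw [hb', hb', hBZ _ hw, sub_self]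
  have a'Z : ∀ w : ↥U0, (w : U) ∈ ZI → ((a' w : ↥U0) : U) ∈ ZI := fun w hw => by
    rw [ha']; exact sub_mem (hZst a _ hw) hw
  have b'Z : ∀ w : ↥U0, (w : U) ∈ ZI → ((b' w : ↥U0) : U) ∈ ZI := fun w hw => by
    rw [hb']; exact sub_mem (hZst b _ hw) hw
  have hsq : ∀ {x y : AddMonoid.End ↥U0} (g k : Γ), (∀ w : ↥U0, ((x w : ↥U0) : U) = act g (w : U)) →
      (∀ w : ↥U0, ((y w : ↥U0) : U) = act k (w : U)) → g * k * g * (g * k * g) * τ⁻¹ ∈ C →
      x * y * x * (x * y * x) = -1 := by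
    intro x y g k hx hy hg
    refine AddMonoidHom.ext fun w => Subtype.ext ?_
    show ((x (y (x (x (y (x w))))) : ↥U0) : U) = -(w : U)
    simp only [hx, hy, ← act_mul]
    obtain ⟨h3, h4⟩ := (hU0 _).1 w.2
    rw [show g * (k * (g * (g * (k * g)))) = (g * k * g * (g * k * g) * τ⁻¹) * τ by group, act_mul, h4,
      map_neg, h3 _ hg]
  have hcanc : ∀ n : ℕ, Nat.Coprime n p → ∀ f : AddMonoid.End ↥U0, n • f = 0 → f = 0 := fun n hn f hf =>
    AddMonoidHom.ext fun w => eq_zero_of_nsmul_coprime hn (DFunLike.congr_fun hf w)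
      (Subtype.ext (by rw [AddSubmonoidClass.coe_nsmul]; exact hp _))
  have hcp : ∀ n, n < p → 0 < n → Nat.Coprime n p := fun n h1 h2 =>
    Nat.Coprime.symm ((Fact.out : p.Prime).coprime_iff_not_dvd.2 fun h => absurd (Nat.le_of_dvd h2 h) (by omega))
  have key : a' * a' = 0 := by
    refine braid_quadratic (b := b') (fun f hf => hcanc 2 (hcp 2 (by omega) (by omega)) f (by rw [two_nsmul, hf]))
      (fun f hf => hcanc 3 (hcp 3 hp5 (by omega)) f (by rw [succ_nsmul, two_nsmul, hf]))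
      (ext0 _ fun w => ?_) (ext0 _ fun w => ?_) (ext0 _ fun w => ?_) (ext0 _ fun w => ?_) (ext0 _ fun w => ?_)
      (ext0 _ fun w => ?_) (hsq a b one_a one_b hab) (hsq b a one_b one_a hba)
    · show ((a' (a' (a' w)) : ↥U0) : U) = 0
      rw [ha', ha', ha', hA3, sub_self]
    · show ((b' (b' (b' w)) : ↥U0) : U) = 0
      rw [hb', hb', hb', hB3, sub_self]
    · exact aZ _ (b2 w)
    · exact bZ _ (a2 w)
    · exact aZ _ (b'Z _ (a2 w))
    · exact bZ _ (a'Z _ (b2 w))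
  have hv0 : v - act τ v ∈ U0 := by
    refine (hU0 _).2 ⟨fun c hc => by rw [map_sub, hvC c hc, hfix τ v hvC c hc], ?_⟩
    rw [map_sub, ← act_mul, hvC _ hτ2, neg_sub]
  have h7 : al (v - act τ v) = 0 := by
    rw [hal]
    have e2 : ((a' (a' ⟨_, hv0⟩) : ↥U0) : U) = 0 := congrArg Subtype.val (DFunLike.congr_fun key ⟨_, hv0⟩)
    rw [ha', ha'] at e2
    exact e2
  have h8 : al (act τ v) = act τ (al v) := by
    rw [hal, hal]
    simp only [map_sub, hcomm a hτa v hvC, hcomm a hτa _ (hfix a v hvC)]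
  have h9 : al v ∈ ZI := hal v ▸ hA v
  rw [map_sub, h8, hτZ _ h9, sub_neg_eq_add, ← two_nsmul] at h7
  exact eq_zero_of_nsmul_coprime (hcp 2 (by omega) (by omega)) h7 (hp _)

end CfsgLib.PushFam
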