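import Cfsg.Agent.Lib.LocalEven.PushUp.Coord
import Cfsg.Agent.Lib.LocalEvenB.PushFam.Bad

/-!
# Pushing-up families: an offender makes the module natural
-/

set_option autoImplicit false
set_option linter.all false

namespace CfsgLib.PushFam

open Subgroup Matrix CfsgLib.LocalEven CfsgLib.PushUp

variable {W : Type*} [Group W]

variable [Finite W] {p : ℕ} [Fact p.Prime] {G S Q M : Subgroup W}

/-- A quadratic offender of largest measure. -/
theorem Bad.exists_best (h : Bad p G S Q M) (hoff : Off p G S Q) :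
    ∃ B : Subgroup W, Q ≤ B ∧ B ≤ S ∧ B ≠ Q ∧
      (∀ D : Subgroup W, D ≤ S → Q ≤ D →
        Nat.card ↥D * Nat.card ↥(zc p G S ⊓ centralizer (D : Set W)) ≤
          Nat.card ↥B * Nat.card ↥(zc p G S ⊓ centralizer (B : Set W))) ∧
      ∀ a ∈ B, ∀ z ∈ zc p G S, ∀ b ∈ B, (a * z * a⁻¹ * z⁻¹) * b = b * (a * z * a⁻¹ * z⁻¹) := by
  open scoped commutatorElement in
  obtain ⟨A, hQA, hAS, hAQ, hA⟩ := hoff
  obtain ⟨Z, hZ⟩ : ∃ Z, Z = zc p G S := ⟨_, rfl⟩
  rw [← hZ] at hA ⊢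
  obtain ⟨B, ⟨hQB, hBS, hBQ⟩, hBmax⟩ := Set.exists_max_image
    {D : Subgroup W | Q ≤ D ∧ D ≤ S ∧ D ≠ Q} (fun D => PLocal.offMeasure Z D) (Set.toFinite _) ⟨A, hQA, hAS, hAQ⟩
  have hQZ : Q ≤ centralizer (Z : Set W) := fun q hq => mem_centralizer_iff.2 fun z hz => h.zc_comm (hZ ▸ hz) hq
  have hmax : ∀ D : Subgroup W, D ≤ S → Q ≤ D → PLocal.offMeasure Z D ≤ PLocal.offMeasure Z B := by
    intro D hDS hQD
    by_cases hD : D = Q
    · subst hD
      refine le_trans ?_ ((hA.trans (hBmax A ⟨hQA, hAS, hAQ⟩)))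
      show Nat.card ↥D * _ ≤ _
      rw [mul_comm]
      exact Nat.mul_le_mul_right _ (card_le_of_le inf_le_left)
    · exact hBmax D ⟨hQD, hDS, hD⟩
  have hZab : IsMulCommutative ↥Z := ⟨⟨fun a b => Subtype.ext (h.zc_comm (hZ ▸ a.2) (h.zc_le_Q (hZ ▸ b.2)))⟩⟩
  have hel : Cfsg.IsElementaryAbelian p Z := ⟨hZab, fun x hx => h.zc_pow x (hZ ▸ hx)⟩
  have hBN : B ≤ normalizer (Z : Set W) := le_normalizer_iff.2 fun b hb z hz =>
    hZ ▸ zc_stable G S b (h.SG (hBS hb)) z (hZ ▸ hz)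
  have hsup : ∀ D : Subgroup W, D ≤ B → PLocal.offMeasure Z D ≤ PLocal.offMeasure Z B := by
    intro D hD
    refine le_trans ?_ (hmax (D ⊔ Q) (sup_le (hD.trans hBS) h.QS) le_sup_right)
    refine Nat.mul_le_mul (card_le_of_le le_sup_left) (card_le_of_le (le_inf inf_le_left ?_))
    refine le_trans ?_ (PLocal.centralizer_sup D Q).ge
    exact le_inf inf_le_right (inf_le_left.trans (le_centralizer_iff.1 hQZ))
  have hbest : Cfsg.IsBestOffenderOn p Z B := by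
    refine ⟨hsup, ?_, ?_⟩
    · rw [commutator_le]
      exact fun a ha b hb => hQZ (h.ab a (hBS ha) b (hBS hb))
    · exact fun a ha => hQZ (h.pw a (hBS ha))
  have hVB : ⁅Z, B⁆ ≠ ⊥ := by
    intro hb
    rw [commutator_comm, commutator_eq_bot_iff_le_centralizer] at hb
    exact hBQ (le_antisymm ((le_inf hBS hb).trans (hZ ▸ h.inf_cz).le) hQB)
  obtain ⟨-, -, h3⟩ := PLocal.timmesfeld hel hBN hbest (le_refl Z)
  obtain ⟨k1, -⟩ := PLocal.thompson_replacement hZab hBN hbest.2.1 hbest.1 Z le_rfl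
  have hcZ : ⁅Z, B⁆ ≤ Z := PLocal.commutator_le_of_le_normalizer hBN le_rfl
  obtain ⟨B', hB'⟩ : ∃ B', B' = B ⊓ centralizer ((⁅Z, B⁆ : Subgroup W) : Set W) := ⟨_, rfl⟩
  rw [← hB'] at k1 h3
  have hQB' : Q ≤ B' := hB' ▸ le_inf hQB (hQZ.trans (centralizer_le (SetLike.coe_subset_coe.2 hcZ)))
  have hB'S : B' ≤ S := hB' ▸ inf_le_left.trans hBS
  refine ⟨B', hQB', hB'S, fun e => h3 hVB ?_, fun D h1 h2 => ?_, fun a ha z hz b hb => ?_⟩
  · rw [e, commutator_comm, commutator_eq_bot_iff_le_centralizer]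
    exact hQZ
  · exact (hmax D h1 h2).trans_eq k1.symm
  · rw [hB'] at ha hb
    refine mem_centralizer_iff.1 hb.2 _ ?_
    rw [← commutatorElement_def, ← commutatorElement_inv z a]
    exact inv_mem (commutator_mem_commutator hz ha.1)

set_option maxHeartbeats 1600000 in
/-- The theorem. -/
theorem Bad.facts (h : Bad p G S Q M) (hoff : Off p G S Q) : Facts p G S Q M := by
  classical
  obtain ⟨Z, hZ⟩ : ∃ Z, Z = zc p G S := ⟨_, rfl⟩
  have hGZ : G ≤ normalizer (Z : Set W) := le_normalizer_iff.2 fun g hg z hz =>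
    hZ ▸ zc_stable G S g hg z (hZ ▸ hz)
  have hZc : ∀ a b : ↥Z, a * b = b * a := fun a b =>
    Subtype.ext (h.zc_comm (hZ ▸ a.2) (h.zc_le_Q (hZ ▸ b.2)))
  letI : CommGroup ↥Z := { (inferInstance : Group ↥Z) with mul_comm := hZc }
  obtain ⟨act0, hact0⟩ : ∃ act : ↥G →* AddMonoid.End (Additive ↥Z), ∀ (g : ↥G) (v : Additive ↥Z),
      ((Additive.toMul (act g v) : ↥Z) : W) = (g : W) * (Additive.toMul v : ↥Z) * (g : W)⁻¹ :=
    ⟨{ toFun := fun g => MonoidHom.toAdditive (Z.normalizerMonoidHom ⟨g, hGZ g.2⟩).toMonoidHom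
       map_one' := AddMonoidHom.ext fun v => Subtype.ext
         (show (1 : W) * ((Additive.toMul v : ↥Z) : W) * (1 : W)⁻¹ = ((Additive.toMul v : ↥Z) : W) by simp)
       map_mul' := fun g k => AddMonoidHom.ext fun v => Subtype.ext (by
         show ((g : W) * k) * _ * ((g : W) * k)⁻¹ = (g : W) * ((k : W) * _ * (k : W)⁻¹) * (g : W)⁻¹
         group) }, fun g v => rfl⟩
  obtain ⟨C, hC⟩ : ∃ C : Subgroup ↥G, C = act0.ker := ⟨_, rfl⟩
  haveI : C.Normal := hC ▸ inferInstance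
  have hCmem : ∀ g : ↥G, g ∈ C ↔ (g : W) ∈ centralizer (Z : Set W) := by
    intro g
    rw [hC, MonoidHom.mem_ker, mem_centralizer_iff]
    constructor
    · intro e z hz
      have := hact0 g (Additive.ofMul ⟨z, hz⟩)
      rw [e] at this
      exact eq_mul_inv_iff_mul_eq.1 this
    · intro e
      refine AddMonoidHom.ext fun v => Additive.toMul.injective (Subtype.ext ((hact0 g v).trans ?_))
      rw [mul_inv_eq_iff_eq_mul]
      exact (e _ (Additive.toMul v : ↥Z).2).symm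
  let act : ↥G ⧸ C →* AddMonoid.End (Additive ↥Z) := QuotientGroup.lift C act0 hC.le
  let π := QuotientGroup.mk' C
  have hact : ∀ (g : ↥G) (v : Additive ↥Z),
      ((Additive.toMul (act (π g) v) : ↥Z) : W) = (g : W) * (Additive.toMul v : ↥Z) * (g : W)⁻¹ := hact0
  have hfix : ∀ (D : Subgroup W), D ≤ G → ∀ v : Additive ↥Z,
      v ∈ OffSL2.fix act ((D.subgroupOf G).map π) ↔ ((Additive.toMul v : ↥Z) : W) ∈ centralizer (D : Set W) := by
    intro D hD v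
    rw [mem_centralizer_iff]
    constructor
    · intro hv d hd
      have h1 := hact ⟨d, hD hd⟩ v
      rw [hv _ ⟨⟨d, hD hd⟩, hd, rfl⟩] at h1
      exact (eq_mul_inv_iff_mul_eq.1 h1).symm
    · rintro hv _ ⟨d, hd, rfl⟩
      refine Additive.toMul.injective (Subtype.ext ((hact d v).trans ?_))
      rw [mul_inv_eq_iff_eq_mul]
      exact hv d hd
  have hcardfix : ∀ (D : Subgroup W), D ≤ G → Nat.card (OffSL2.fix act ((D.subgroupOf G).map π)) =
      Nat.card ↥(Z ⊓ centralizer (D : Set W)) := fun D hD => Nat.card_congr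
    { toFun := fun v => ⟨((Additive.toMul (v : Additive ↥Z) : ↥Z) : W), (Additive.toMul (v : Additive ↥Z) : ↥Z).2,
        (hfix D hD v).1 v.2⟩
      invFun := fun v => ⟨Additive.ofMul ⟨(v : W), v.2.1⟩, (hfix D hD _).2 v.2.2⟩
      left_inv := fun v => rfl
      right_inv := fun v => rfl }
  have hcardim : ∀ (D : Subgroup W), Q ≤ D → D ≤ S → Nat.card ↥((D.subgroupOf G).map π) * Nat.card ↥Q = Nat.card ↥D := by
    intro D hQD hDS
    let f := π.comp (Subgroup.inclusion (hDS.trans h.SG))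
    have hr : f.range = (D.subgroupOf G).map π := by
      ext q
      constructor
      · rintro ⟨d, rfl⟩; exact ⟨_, d.2, rfl⟩
      · rintro ⟨d, hd, rfl⟩; exact ⟨⟨d, hd⟩, rfl⟩
    have hk : f.ker = Q.subgroupOf D := by
      ext d
      rw [MonoidHom.mem_ker, mem_subgroupOf]
      show π _ = 1 ↔ _
      rw [QuotientGroup.mk'_apply, QuotientGroup.eq_one_iff, hCmem]
      refine ⟨fun e => (hZ ▸ h.inf_cz).le ⟨hDS d.2, e⟩, fun e => ((hZ ▸ h.inf_cz).ge e).2⟩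
    rw [← hr, Subgroup.card_eq_card_quotient_mul_card_subgroup f.ker,
      Nat.card_congr (QuotientGroup.quotientKerEquivRange f).toEquiv, hk,
      Nat.card_congr (subgroupOfEquivOfLe hQD).toEquiv]
  -- `M` modulo the kernel
  have hCM : ∀ g : ↥G, g ∈ C → (g : W) ∈ M := fun g hg => h.cz_le_M ⟨g.2, hZ ▸ (hCmem g).1 hg⟩
  obtain ⟨X, hX⟩ : ∃ X, X = (M.subgroupOf G).map π := ⟨_, rfl⟩
  have hXmem : ∀ g : ↥G, π g ∈ X ↔ (g : W) ∈ M := by
    intro g
    rw [hX]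
    constructor
    · rintro ⟨m, hm, e⟩
      have h1 := hCM _ (QuotientGroup.eq.1 e)
      have h2 := M.mul_mem hm h1
      simpa using h2
    · exact fun hg => ⟨g, hg, rfl⟩
  have hsy : ∀ D : Subgroup W, D ≤ M → IsPGroup p D → ∃ m ∈ M, D ≤ cj m S := h.syl M h.MG h.SM
  have hsep : ∀ a : ↥G, (a : W) ∈ M → IsPGroup p (zpowers (a : W)) → (a : W) ∉ centralizer (Z : Set W) →
      ∀ g : W, g ∈ G → g * a * g⁻¹ ∈ M → g ∈ M := by
    intro a haM hap haC g hg hga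
    by_contra hgM
    obtain ⟨m1, hm1, h1⟩ := hsy _ (zpowers_le.2 haM) hap
    obtain ⟨m2, hm2, h2⟩ := hsy (cj g (zpowers (a : W))) (by
      rintro _ ⟨x, hx, rfl⟩
      obtain ⟨k, rfl⟩ := mem_zpowers_iff.1 hx
      show g * (a : W) ^ k * g⁻¹ ∈ M
      rw [← conj_zpow]; exact zpow_mem hga k) (hap.map _)
    have e1 := mem_cj.1 (h1 (mem_zpowers _))
    have e2 := mem_cj.1 (h2 (conj_mem_cj (mem_zpowers _)))
    obtain ⟨x, hx⟩ : ∃ x, x = m1⁻¹ * g⁻¹ * m2 := ⟨_, rfl⟩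
    have hxG : x ∈ G := hx ▸ mul_mem (mul_mem (inv_mem (h.MG hm1)) (inv_mem hg)) (h.MG hm2)
    have hxM : x ∉ M := fun hc => hgM (by
      have := M.mul_mem (M.mul_mem hm1 hc) (M.inv_mem hm2)
      rw [hx] at this
      simpa [mul_assoc] using this)
    have hQ : m1⁻¹ * (a : W) * m1 ∈ Q := by
      refine h.ti x hxG hxM _ e1 ?_
      rw [hx]
      simpa [mul_assoc] using e2
    refine haC (mem_centralizer_iff.2 fun z hz => ?_)
    have h4 := h.Qn m1 (h.MG hm1) _ hQ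
    exact h.zc_comm (hZ ▸ hz) (by simpa [mul_assoc] using h4)
  -- images of `p`-subgroups
  have hlift : ∀ D : Subgroup (↥G ⧸ C), IsPGroup p D → ∃ g : ↥G, ∀ d ∈ D,
      ∃ s : ↥G, (s : W) ∈ cj (g : W) S ∧ π s = d := by
    intro D hD
    obtain ⟨R, hR⟩ : ∃ R, R = D.comap π := ⟨_, rfl⟩
    obtain ⟨T⟩ := (inferInstance : Nonempty (Sylow p R))
    obtain ⟨g, hg, hgS⟩ := h.syl G le_rfl h.SG (((T : Subgroup R).map R.subtype).map G.subtype)
      (map_subtype_le _) ((T.2.map _).map _)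
    let f : R →* D := (π.comp R.subtype).codRestrict D fun r => by
      have := r.2
      exact mem_comap.1 (hR ▸ this : (r : ↥G) ∈ D.comap π)
    have hf : Function.Surjective f := fun d => by
      obtain ⟨r, hr⟩ := QuotientGroup.mk'_surjective C d.1
      exact ⟨⟨r, hR ▸ (mem_comap.2 (hr ▸ d.2) : r ∈ D.comap π)⟩, Subtype.ext hr⟩
    refine ⟨⟨g, hg⟩, fun d hd => ?_⟩
    have htop : (T.mapSurjective hf : Subgroup D) = ⊤ := by
      by_contra hne
      haveI : Fact p.Prime := inferInstance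
      exact hne (((T.mapSurjective hf).3 (hD.of_equiv Subgroup.topEquiv.symm) le_top).symm)
    obtain ⟨r, hr, hrd⟩ := htop.ge (mem_top (⟨d, hd⟩ : D))
    exact ⟨r, hgS ⟨_, ⟨r, hr, rfl⟩, rfl⟩, congrArg Subtype.val hrd⟩
  obtain ⟨B, hQB, hBS, hBQ, hBmax, hBquad⟩ := h.exists_best hoff
  obtain ⟨A, hA⟩ : ∃ A, A = (B.subgroupOf G).map π := ⟨_, rfl⟩
  obtain ⟨T, hT⟩ : ∃ T, T = (S.subgroupOf G).map π := ⟨_, rfl⟩
  have hTA : A ≤ T := hA ▸ hT ▸ map_mono fun x hx => hBS hx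
  have hTX : T ≤ X := hT ▸ hX ▸ map_mono fun x hx => h.SM hx
  have hTab : ∀ a ∈ T, ∀ b ∈ T, a * b = b * a := by
    rw [hT]
    rintro _ ⟨a, ha, rfl⟩ _ ⟨b, hb, rfl⟩
    rw [← map_mul, ← map_mul]
    refine QuotientGroup.eq.2 ((hCmem _).2 (mem_centralizer_iff.2 fun z hz => h.zc_comm (hZ ▸ hz) ?_))
    open scoped commutatorElement in
    have : ((a : W) * b)⁻¹ * (b * a) = ⁅(b : W)⁻¹, (a : W)⁻¹⁆ := by rw [commutatorElement_def]; group
    show ((a : W) * b)⁻¹ * (b * a) ∈ Q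
    rw [this]
    exact h.ab _ (inv_mem hb) _ (inv_mem ha)
  have hTexp : ∀ a ∈ T, a ^ p = 1 := by
    rw [hT]
    rintro _ ⟨a, ha, rfl⟩
    rw [← map_pow]
    exact (QuotientGroup.eq_one_iff _).2 ((hCmem _).2 (mem_centralizer_iff.2 fun z hz => h.zc_comm (hZ ▸ hz)
      (h.pw a ha)))
  have hAX : A ≤ X := hTA.trans hTX
  have hsepX : ∀ a ∈ X, a ^ p = 1 → a ≠ 1 → ∀ g : ↥G ⧸ C, g * a * g⁻¹ ∈ X → g ∈ X := by
    intro a ha hap ha1 g hga
    have hzp : IsPGroup p (zpowers a) := IsPGroup.of_card (n := 1) (by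
      rw [Nat.card_zpowers, orderOf_eq_prime hap ha1, pow_one])
    obtain ⟨k, hk⟩ := hlift _ hzp
    obtain ⟨s, hs, rfl⟩ := hk a (mem_zpowers a)
    obtain ⟨g, rfl⟩ := QuotientGroup.mk'_surjective C g
    rw [← map_inv, ← map_mul, ← map_mul, hXmem] at hga
    rw [hXmem]
    refine hsep s ((hXmem s).1 ha) (h.pS.map (MulAut.conj (k : W)).toMonoidHom |>.to_le (zpowers_le.2 hs)) ?_ g g.2 hga
    exact fun hc => ha1 ((QuotientGroup.eq_one_iff s).2 ((hCmem s).2 hc))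
  have hpgroup : ∀ D : Subgroup (↥G ⧸ C), IsPGroup p D → D ⊓ X ≠ ⊥ → D ≤ X := by
    intro D hD hne
    obtain ⟨k, hk⟩ := hlift D hD
    obtain ⟨d, ⟨hdD, hdX⟩, hd1⟩ := (Subgroup.bot_or_exists_ne_one _).resolve_left hne
    obtain ⟨s, hs, rfl⟩ := hk d hdD
    have hkM : (k : W) ∈ M := by
      have hkC : (s : W) ∉ centralizer (Z : Set W) := fun hc => hd1 ((QuotientGroup.eq_one_iff s).2 ((hCmem s).2 hc))
      have hu : (k : W)⁻¹ * s * k ∈ S := mem_cj.1 hs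
      refine inv_inv (k : W) ▸ M.inv_mem (inv_mem_iff.1 ?_)
      rw [inv_inv]
      refine hsep ⟨(k : W)⁻¹ * s * k, h.SG hu⟩ (h.SM hu) (h.pS.to_le (zpowers_le.2 hu)) ?_ k k.2 ?_
      · intro hc
        refine hkC (mem_centralizer_iff.2 fun z hz => ?_)
        have h1 := mem_centralizer_iff.1 hc _ (hZ.ge ((zc_stable G S).inv k.2 (hZ.le hz)))
        calc z * (s : W) = (k : W) * (((k : W)⁻¹ * z * k) * ((k : W)⁻¹ * s * k)) * (k : W)⁻¹ := by group
          _ = (k : W) * (((k : W)⁻¹ * s * k) * ((k : W)⁻¹ * z * k)) * (k : W)⁻¹ := by rw [h1]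
          _ = _ := by group
      · simpa [mul_assoc] using (hXmem s).1 hdX
    intro e he
    obtain ⟨t, ht, rfl⟩ := hk e he
    rw [hXmem]
    have := M.mul_mem (M.mul_mem hkM (h.SM (mem_cj.1 ht))) (M.inv_mem hkM)
    simpa [mul_assoc] using this
  have hout : ∃ g, g ∉ X := by
    obtain ⟨g, hg, hgM⟩ := h.exists_out
    exact ⟨π ⟨g, hg⟩, fun hc => hgM ((hXmem _).1 hc)⟩
  have hgen : closure {x : ↥G ⧸ C | ∃ k : ℕ, orderOf x = p ^ k} = ⊤ := by
    obtain ⟨L, hL⟩ : ∃ L, L = closure {x : ↥G ⧸ C | ∃ k : ℕ, orderOf x = p ^ k} := ⟨_, rfl⟩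
    rw [← hL]
    refine eq_top_iff.2 fun x _ => ?_
    obtain ⟨g, rfl⟩ := QuotientGroup.mk'_surjective C x
    have hle : G ≤ (L.comap π).map G.subtype := by
      obtain ⟨a, ha, haM⟩ := h.exists_out
      refine (h.gen ha haM).ge.trans ?_
      refine sup_le (fun s hs => ?_) fun s hs => ?_
      · refine ⟨⟨s, h.SG hs⟩, mem_comap.2 (hL ▸ subset_closure ?_), rfl⟩
        obtain ⟨k, hk⟩ := IsPGroup.iff_orderOf.1 h.pS (⟨s, hs⟩ : S)
        rw [Subgroup.orderOf_mk] at hk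
        obtain ⟨j, -, hj⟩ := (Nat.dvd_prime_pow (Fact.out : p.Prime)).1
          ((orderOf_map_dvd π ⟨s, h.SG hs⟩).trans (by rw [Subgroup.orderOf_mk, hk]))
        exact ⟨j, hj⟩
      · have hsG : s ∈ G := h.stable_cj ha hs
        refine ⟨⟨s, hsG⟩, mem_comap.2 (hL ▸ subset_closure ?_), rfl⟩
        obtain ⟨k, hk⟩ := IsPGroup.iff_orderOf.1 (h.pS.map (MulAut.conj a).toMonoidHom) (⟨s, hs⟩ : cj a S)
        rw [Subgroup.orderOf_mk] at hk
        obtain ⟨j, -, hj⟩ := (Nat.dvd_prime_pow (Fact.out : p.Prime)).1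
          ((orderOf_map_dvd π ⟨s, hsG⟩).trans (by rw [Subgroup.orderOf_mk, hk]))
        exact ⟨j, hj⟩
    obtain ⟨g', hg', e⟩ := hle g.2
    rwa [Subtype.ext e] at hg'
  have hconf : SEFF.Conf p act X A := by
    refine ⟨?_, fun v => Additive.toMul.injective (Subtype.ext ?_), hAX, ?_, fun a ha b hb => hTab a (hTA ha) b (hTA hb),
      fun a ha => hTexp a (hTA ha), ?_, ?_, hsepX, hpgroup, hout, hgen⟩
    · exact (injective_iff_map_eq_one act).2 fun x hx => by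
        obtain ⟨g, rfl⟩ := QuotientGroup.mk'_surjective C x
        exact (QuotientGroup.eq_one_iff g).2 (hC ▸ MonoidHom.mem_ker.2 hx)
    · rw [toMul_nsmul, SubmonoidClass.coe_pow, h.zc_pow _ (hZ ▸ (Additive.toMul v : ↥Z).2)]
      rfl
    · intro e
      refine hBQ (Subgroup.eq_of_le_of_card_ge hQB ?_).symm
      rw [← hcardim B hQB hBS, ← hA, e, card_bot, one_mul]
    · rw [hA]
      rintro _ ⟨a, ha, rfl⟩ v
      rw [hfix B (hBS.trans h.SG), mem_centralizer_iff]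
      intro b hb
      have e : ((Additive.toMul (act (π a) v - v) : ↥Z) : W) =
          (a : W) * (Additive.toMul v : ↥Z) * (a : W)⁻¹ * ((Additive.toMul v : ↥Z) : W)⁻¹ := by
        rw [toMul_sub, div_eq_mul_inv, coe_mul, hact, InvMemClass.coe_inv]
      rw [e]
      exact (hBquad a ha _ (hZ ▸ (Additive.toMul v : ↥Z).2) b hb).symm
    · intro D hDab hDexp
      have hDp : IsPGroup p D := fun d => ⟨1, Subtype.ext (by simpa using hDexp d d.2)⟩
      obtain ⟨k, hk⟩ := hlift D hDp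
      obtain ⟨D', hD'⟩ : ∃ D', D' = D.map (MulAut.conj (π k)⁻¹).toMonoidHom := ⟨_, rfl⟩
      have hD'T : D' ≤ T := by
        rw [hD', hT]
        rintro _ ⟨d, hd, rfl⟩
        obtain ⟨s, hs, rfl⟩ := hk d hd
        refine ⟨k⁻¹ * s * k, show ((k⁻¹ * s * k : ↥G) : W) ∈ S from mem_cj.1 hs, ?_⟩
        show π (k⁻¹ * s * k) = (π k)⁻¹ * π s * (π k)⁻¹⁻¹
        rw [map_mul, map_mul, map_inv, inv_inv]
      obtain ⟨E, hE⟩ : ∃ E, E = S ⊓ (D'.comap π).map G.subtype := ⟨_, rfl⟩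
      have hES : E ≤ S := hE ▸ inf_le_left
      have hQE : Q ≤ E := by
        rw [hE]
        intro q hq
        refine ⟨h.QS hq, ⟨⟨q, h.SG (h.QS hq)⟩, mem_comap.2 ?_, rfl⟩⟩
        have : π ⟨q, h.SG (h.QS hq)⟩ = 1 := (QuotientGroup.eq_one_iff _).2
          ((hCmem _).2 (mem_centralizer_iff.2 fun z hz => h.zc_comm (hZ ▸ hz) hq))
        rw [this]; exact one_mem _
      have himg : (E.subgroupOf G).map π = D' := by
        refine le_antisymm ?_ fun d hd => ?_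
        · rintro _ ⟨e, he, rfl⟩
          obtain ⟨u, hu, hue⟩ := (hE ▸ (he : (e : W) ∈ E) : (e : W) ∈ S ⊓ (D'.comap π).map G.subtype).2
          rw [← Subtype.ext hue]
          exact mem_comap.1 hu
        · obtain ⟨s, hs, rfl⟩ := (hT ▸ hD'T hd : d ∈ (S.subgroupOf G).map π)
          exact ⟨s, hE.ge ⟨hs, ⟨s, mem_comap.2 hd, rfl⟩⟩, rfl⟩
      have hc1 := hBmax E hES hQE
      rw [← hZ] at hc1
      rw [← hcardfix E (hES.trans h.SG), ← hcardfix B (hBS.trans h.SG), himg, ← hA, ← hcardim E hQE hES,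
        ← hcardim B hQB hBS, himg, ← hA, mul_right_comm, mul_right_comm _ _ (Nat.card (OffSL2.fix act A))] at hc1
      have hcf : Nat.card (OffSL2.fix act D') = Nat.card (OffSL2.fix act D) := hD' ▸ SEFF.card_img _
      have hcd : Nat.card D' = Nat.card D := hD' ▸ card_map_of_injective (MulAut.conj _).injective
      rw [hcf, hcd] at hc1
      exact Nat.le_of_mul_le_mul_right hc1 Nat.card_pos
  -- `A` is the image of `S`
  have hTA' : A = T := by
    refine Subgroup.eq_of_le_of_card_ge hTA ?_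
    obtain ⟨g, hg⟩ := hout
    have hex : ∀ t : T, ∃ a : A, ((a : ↥G ⧸ C) * g)⁻¹ * ((t : ↥G ⧸ C) * g) ∈ X := fun t => by
      obtain ⟨a, ha, hax⟩ := hconf.coset hg (k := (t : ↥G ⧸ C) * g) fun hc => hg (by
        simpa using X.mul_mem (X.inv_mem (hTX t.2)) hc)
      exact ⟨⟨a, ha⟩, hax⟩
    choose f hf using hex
    refine Nat.card_le_card_of_injective f fun t t' e => Subtype.ext ?_
    have h1 := hf t
    have h2 := hf t'
    rw [← e] at h2
    have h3 : g⁻¹ * ((t : ↥G ⧸ C)⁻¹ * (t' : ↥G ⧸ C)) * g ∈ X := by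
      simpa [mul_assoc] using X.mul_mem (X.inv_mem h1) h2
    refine inv_mul_eq_one.1 (by_contra fun hne => hg ?_)
    have hu : (t : ↥G ⧸ C)⁻¹ * (t' : ↥G ⧸ C) ∈ T := mul_mem (inv_mem t.2) t'.2
    have := hsepX _ (hTX hu) (hTexp _ hu) hne g⁻¹ (by rwa [inv_inv])
    exact inv_mem_iff.1 this
  have hcA : Nat.card A * Nat.card ↥Q = Nat.card ↥S := by rw [hTA', hT]; exact hcardim S h.QS le_rfl
  have hfixA : ∀ v : Additive ↥Z, v ∈ OffSL2.fix act A ↔ ((Additive.toMul v : ↥Z) : W) ∈ om p S := by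
    intro v
    rw [hTA', hT, hfix S h.SG, ← h.zc_centralizer, ← hZ]
    exact ⟨fun e => ⟨(Additive.toMul v : ↥Z).2, e⟩, fun e => e.2⟩
  have hcfA : Nat.card (OffSL2.fix act A) = Nat.card ↥(om p S) := by
    rw [hTA', hT, hcardfix S h.SG, hZ, h.zc_centralizer]
  have hfixT : ∀ v : Additive ↥Z, v ∈ OffSL2.fix act ⊤ ↔ ((Additive.toMul v : ↥Z) : W) ∈ centralizer (G : Set W) := by
    intro v
    rw [← hfix G le_rfl, subgroupOf_self, ← MonoidHom.range_eq_map, MonoidHom.range_eq_top.2 (QuotientGroup.mk'_surjective C)]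
  have hcfT : Nat.card (OffSL2.fix act ⊤) = Nat.card ↥(Z ⊓ centralizer (G : Set W)) := by
    rw [← hcardfix G le_rfl, subgroupOf_self, ← MonoidHom.range_eq_map, MonoidHom.range_eq_top.2 (QuotientGroup.mk'_surjective C)]
  obtain ⟨g0, hg0⟩ := hout
  obtain ⟨hp1, hp2, hp3, hp4⟩ := hconf.pair g0 hg0
  rw [← hconf.fix_top hg0] at hp1
  have hof : ∀ x : ↥G, (x : W) ∈ S → π x ∈ A := fun x hx => hTA' ▸ hT ▸ ⟨x, hx, rfl⟩
  subst hZ
  refine ⟨?_, ?_, fun x hx z hz => ?_, ?_, ?_, ?_, ?_, ?_, ?_⟩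
  · intro x hx hxQ z hz e
    refine (hfixA (Additive.ofMul ⟨z, hz⟩)).1 (hconf.fix_elem (hof ⟨x, h.SG hx⟩ hx) ?_ ?_)
    · intro e1
      exact hxQ (h.inf_cz.le ⟨hx, (hCmem _).1 ((QuotientGroup.eq_one_iff _).1 e1)⟩)
    · refine Additive.toMul.injective (Subtype.ext ((hact _ _).trans ?_))
      show x * z * x⁻¹ = z
      rw [e, mul_inv_cancel_right]
  · intro x hx z hz hcen
    have h0 := hconf.mov_inf (hof ⟨x, h.SG hx⟩ hx) hg0 (v := Additive.ofMul ⟨z, hz⟩) ?_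
    · have h1 := hact ⟨x, h.SG hx⟩ (Additive.ofMul ⟨z, hz⟩)
      rw [sub_eq_zero.1 h0] at h1
      exact (eq_mul_inv_iff_mul_eq.1 h1).symm
    · have hT0 : act (π ⟨x, h.SG hx⟩) (Additive.ofMul ⟨z, hz⟩) - Additive.ofMul ⟨z, hz⟩ ∈ OffSL2.fix act ⊤ := by
        rw [hfixT, toMul_sub, div_eq_mul_inv, coe_mul, hact, InvMemClass.coe_inv]
        show x * z * x⁻¹ * z⁻¹ ∈ _
        have := inv_mem hcen
        simpa [mul_assoc] using this
      rw [OffSL2.fix_top_act act hT0]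
      exact OffSL2.fix_top_le act A hT0
  · have h0 := (hfixA _).1 (hconf.quad _ (hof ⟨x, h.SG hx⟩ hx) (Additive.ofMul ⟨z, hz⟩))
    rwa [toMul_sub, div_eq_mul_inv, coe_mul, hact, InvMemClass.coe_inv] at h0
  · have e1 : Nat.card (Additive ↥(zc p G S)) = Nat.card ↥(zc p G S) := Nat.card_congr Additive.toMul
    rw [← e1, hp2, hcfA, ← hcA]; ring
  · rw [← hcfA, hp1, hcfT, ← hcA]; ring
  · intro H hC0 hHZ hst
    by_contra hne
    push Not at hne
    obtain ⟨hne1, hne2⟩ := hne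
    obtain ⟨U, hU⟩ : ∃ U : AddSubgroup (Additive ↥(zc p G S)), ∀ v, v ∈ U ↔ ((Additive.toMul v : ↥(zc p G S)) : W) ∈ H :=
      ⟨(H.subgroupOf (zc p G S)).toAddSubgroup, fun v => Iff.rfl⟩
    have hUs : ∀ g v, v ∈ U → act g v ∈ U := by
      intro g v hv
      obtain ⟨g, rfl⟩ := QuotientGroup.mk'_surjective C g
      rw [hU, hact]
      exact hst g g.2 _ ((hU v).1 hv)
    have hUT : OffSL2.fix act ⊤ ≤ U := fun v hv =>
      (hU v).2 (hC0 ⟨(Additive.toMul v : ↥(zc p G S)).2, (hfixT v).1 hv⟩)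
    obtain ⟨z, hz, hzC⟩ : ∃ z ∈ H, z ∉ centralizer (G : Set W) := by
      by_contra hcon
      push Not at hcon
      exact hne1 (le_antisymm (fun z hz => ⟨hHZ hz, hcon z hz⟩) hC0)
    obtain ⟨u, huU, huT⟩ : ∃ u ∈ U, u ∉ OffSL2.fix act ⊤ :=
      ⟨Additive.ofMul ⟨z, hHZ hz⟩, (hU _).2 hz, fun e => hzC ((hfixT _).1 e)⟩
    have hmoved : ∃ u' ∈ U, u' ∉ OffSL2.fix act A := by
      by_contra hcon
      push Not at hcon
      refine huT ((hconf.fix_top hg0).ge (AddSubgroup.mem_inf.2 ⟨hcon u huU, SEFF.mem_img.2 ?_⟩))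
      exact hcon _ (hUs g0⁻¹ u huU)
    obtain ⟨u', hu'U, hu'A⟩ := hmoved
    have hWU : OffSL2.fix act A ≤ U := by
      let f : A → ↥(U ⊓ OffSL2.fix act A) ⧸ (OffSL2.fix act ⊤).addSubgroupOf (U ⊓ OffSL2.fix act A) := fun a =>
        QuotientAddGroup.mk ⟨act a u' - u', AddSubgroup.mem_inf.2 ⟨sub_mem (hUs _ _ hu'U) hu'U, hconf.quad a a.2 u'⟩⟩
      have hf : Function.Injective f := by
        intro a b hab
        by_contra hne3
        have hz : -(act (a : ↥G ⧸ C) u' - u') + (act (b : ↥G ⧸ C) u' - u') ∈ OffSL2.fix act ⊤ :=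
          (QuotientAddGroup.eq.1 hab :)
        rw [neg_sub, sub_add_sub_cancel'] at hz
        have hmem : (a : ↥G ⧸ C)⁻¹ * (b : ↥G ⧸ C) ∈ A := mul_mem (inv_mem a.2) b.2
        refine hu'A (hconf.fix_elem hmem (fun e => hne3 (Subtype.ext (inv_mul_eq_one.1 e))) ?_)
        refine sub_eq_zero.1 (hconf.mov_inf hmem hg0 ?_)
        have hT0 : act ((a : ↥G ⧸ C)⁻¹ * (b : ↥G ⧸ C)) u' - u' ∈ OffSL2.fix act ⊤ := by
          rw [OffSL2.act_mul, show act (a : ↥G ⧸ C)⁻¹ (act (b : ↥G ⧸ C) u') - u' =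
            act (a : ↥G ⧸ C)⁻¹ (act (b : ↥G ⧸ C) u' - act (a : ↥G ⧸ C) u') by rw [map_sub, OffSL2.act_inv],
            OffSL2.fix_top_act act hz]
          exact hz
        rw [OffSL2.fix_top_act act hT0]
        exact OffSL2.fix_top_le act A hT0
      have h1 := Nat.card_le_card_of_injective f hf
      have h2 := AddSubgroup.card_eq_card_quotient_mul_card_addSubgroup
        ((OffSL2.fix act ⊤).addSubgroupOf (U ⊓ OffSL2.fix act A))
      rw [Nat.card_congr (AddSubgroup.addSubgroupOfEquivOfLe (le_inf hUT (OffSL2.fix_top_le act A))).toEquiv] at h2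
      have h3 : Nat.card (OffSL2.fix act A) ≤ Nat.card ↥(U ⊓ OffSL2.fix act A) := by
        rw [hp1, h2]
        exact Nat.mul_le_mul_right _ h1
      exact (AddSubgroup.eq_of_le_of_card_ge (inf_le_right : U ⊓ _ ≤ _) h3).ge.trans inf_le_left
    refine hne2 (le_antisymm hHZ fun z hz => (hU (Additive.ofMul ⟨z, hz⟩)).1 ?_)
    obtain ⟨w, x, hw, hx, e⟩ := hconf.decomp hg0 (Additive.ofMul ⟨z, hz⟩)
    rw [← e]
    refine add_mem (hWU hw) ?_
    rw [← OffSL2.act_inv' act g0 x]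
    exact hUs _ _ (hWU hx)
  · intro m hm x hx
    have h1 := hconf.normalizes ((hXmem ⟨m, h.MG hm⟩).2 hm) (hof ⟨x, h.SG hx⟩ hx)
    rw [← map_inv, ← map_mul, ← map_mul, hTA', hT] at h1
    obtain ⟨y, hy, e⟩ := h1
    exact ⟨y, hy, (hCmem _).1 (QuotientGroup.eq.1 e)⟩
  · intro H hHM hst k hk x hx
    have hkG := h.MG (hHM hk)
    obtain ⟨K, hK⟩ : ∃ K, K = (H.subgroupOf G).map π := ⟨_, rfl⟩
    have hKX : K ≤ X := hK ▸ hX ▸ map_mono fun y hy => hHM hy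
    have hKn : ∀ g y, y ∈ K → g * y * g⁻¹ ∈ K := by
      intro g y hy
      rw [hK] at hy ⊢
      obtain ⟨y, hy, rfl⟩ := hy
      obtain ⟨g, rfl⟩ := QuotientGroup.mk'_surjective C g
      exact ⟨g * y * g⁻¹, hst g g.2 y hy, by rw [map_mul, map_mul, map_inv]⟩
    have hcen : ∀ y ∈ K, ∀ a ∈ A, a * y = y * a := by
      intro y hy a ha
      by_contra hne
      obtain ⟨c, hc⟩ : ∃ c, c = a * (y * a⁻¹ * y⁻¹) := ⟨_, rfl⟩
      have hcA : c ∈ A := hc ▸ mul_mem ha (hconf.normalizes (hKX hy) (inv_mem ha))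
      have hcK : c ∈ K := by
        rw [hc, show a * (y * a⁻¹ * y⁻¹) = a * y * a⁻¹ * y⁻¹ by group]
        exact mul_mem (hKn a y hy) (inv_mem hy)
      have hc1 : c ≠ 1 := by
        intro e
        apply hne
        rw [hc, show a * (y * a⁻¹ * y⁻¹) = a * y * a⁻¹ * y⁻¹ by group, mul_inv_eq_one] at e
        exact mul_inv_eq_iff_eq_mul.1 e
      exact hg0 (hconf.sep c (hAX hcA) (hconf.Aexp c hcA) hc1 g0 (hKX (hKn g0 c hcK)))
    have hall : (centralizer ({π ⟨k, hkG⟩} : Set (↥G ⧸ C))) = ⊤ := by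
      rw [eq_top_iff, ← hconf.gen_pair hg0]
      refine sup_le (fun a ha => mem_centralizer_singleton_iff.2 (hcen _ (hK ▸ ⟨⟨k, hkG⟩, hk, rfl⟩) a ha)) ?_
      rintro _ ⟨a, ha, rfl⟩
      refine mem_centralizer_singleton_iff.2 ?_
      have h1 := hcen _ (hKn g0⁻¹ (π ⟨k, hkG⟩) (hK ▸ ⟨⟨k, hkG⟩, hk, rfl⟩)) a ha
      rw [inv_inv] at h1
      show g0 * a * g0⁻¹ * π ⟨k, hkG⟩ = π ⟨k, hkG⟩ * (g0 * a * g0⁻¹)
      calc g0 * a * g0⁻¹ * π ⟨k, hkG⟩ = g0 * (a * (g0⁻¹ * π ⟨k, hkG⟩ * g0)) * g0⁻¹ := by group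
        _ = g0 * ((g0⁻¹ * π ⟨k, hkG⟩ * g0) * a) * g0⁻¹ := by rw [h1]
        _ = _ := by group
    have h2 := mem_centralizer_singleton_iff.1 (hall.ge (mem_top (π ⟨x, hx⟩)))
    refine (hCmem ⟨k * x * k⁻¹ * x⁻¹, mul_mem (mul_mem (mul_mem hkG hx) (inv_mem hkG)) (inv_mem hx)⟩).1
      ((QuotientGroup.eq_one_iff _).1 ?_)
    show π (⟨k, hkG⟩ * ⟨x, hx⟩ * ⟨k, hkG⟩⁻¹ * ⟨x, hx⟩⁻¹) = 1
    rw [map_mul, map_mul, map_mul, map_inv, map_inv, ← h2]
    group
  · obtain ⟨F, i1, i2, ψ, ρ, hcF, hρ, hψ, hψk, hψa⟩ := hconf.natural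
    refine ⟨F, i1, i2, ψ, ρ.comp π, by rw [hcF, hcA], hρ.2.comp (QuotientGroup.mk'_surjective C), hψ, fun g => ?_,
      fun v => (hψk v).trans (hfixT v), fun g z w e => ?_⟩
    · show ρ (π g) = 1 ↔ _
      rw [map_eq_one_iff ρ hρ.1]
      exact (QuotientGroup.eq_one_iff g).trans (hCmem g)
    · refine Eq.trans ?_ (hψa (π g) (Additive.ofMul z))
      refine congrArg ψ (Additive.toMul.injective (Subtype.ext ?_))
      show (w : W) = _
      rw [hact]; exact e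

end CfsgLib.PushFam
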