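import Cfsg.Agent.Lib.LocalEven.PushUp.Graph
import Cfsg.Agent.Lib.LocalEvenB.Basic

/-!
# Pushing-up families: the hypothesis on the `p`-group

`Res p T`: `T` is generated by abelian subgroups `A` with `|A|² = |T| |Z(T)|`, the centre is elementary
abelian, `|X| |C_T(X)| ≤ |T| |Z(T)|` for all `X`, and each subgroup reaching this bound with its own centre
contains such an `A`.
-/

set_option autoImplicit false

namespace CfsgLib.PushFam

open Subgroup CfsgLib.PushUp
open CfsgLib.LocalEvenB (card_mul_card_le_sup_inf)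

variable {W : Type*} [Group W]

/-- The largest value of `|X| |C_T(X)|`. -/
noncomputable def mu (p : ℕ) (T : Subgroup W) : ℕ := Nat.card ↥T * Nat.card ↥(om p T)

/-- A large abelian subgroup. -/
structure MaxAb (p : ℕ) (T A : Subgroup W) : Prop where
  le : A ≤ T
  comm : A ≤ centralizer (A : Set W)
  card : Nat.card ↥A * Nat.card ↥A = mu p T

/-- A centrally large subgroup. -/
structure Cl (p : ℕ) (T X : Subgroup W) : Prop where
  le : X ≤ T
  card : Nat.card ↥X * Nat.card ↥(X ⊓ centralizer (X : Set W)) = mu p T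

/-- The hypothesis. -/
structure Res (p : ℕ) (T : Subgroup W) : Prop where
  pT : IsPGroup p T
  center : ∀ x ∈ T, (∀ s ∈ T, s * x = x * s) → x ^ p = 1
  cd : ∀ X : Subgroup W, X ≤ T → Nat.card ↥X * Nat.card ↥(T ⊓ centralizer (X : Set W)) ≤ mu p T
  gen : ∀ H : Subgroup W, (∀ A, MaxAb p T A → A ≤ H) → T ≤ H
  cl : ∀ X : Subgroup W, Cl p T X → ∃ A, MaxAb p T A ∧ A ≤ X

theorem comm_symm {A B : Subgroup W} (h : A ≤ centralizer (B : Set W)) : B ≤ centralizer (A : Set W) :=
  le_centralizer_iff.1 h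

theorem centralizer_anti {A B : Subgroup W} (h : A ≤ B) :
    centralizer (B : Set W) ≤ centralizer (A : Set W) := centralizer_le (SetLike.coe_subset_coe.2 h)

theorem sup_comm_le {A B C : Subgroup W} (hA : A ≤ centralizer (C : Set W)) (hB : B ≤ centralizer (C : Set W)) :
    C ≤ centralizer ((A ⊔ B : Subgroup W) : Set W) :=
  comm_symm (sup_le hA hB)

theorem abelian_sup {A B : Subgroup W} (hA : A ≤ centralizer (A : Set W)) (hB : B ≤ centralizer (B : Set W))
    (hAB : A ≤ centralizer (B : Set W)) : A ⊔ B ≤ centralizer ((A ⊔ B : Subgroup W) : Set W) :=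
  sup_le (sup_comm_le hA (comm_symm hAB)) (sup_comm_le hAB hB)

theorem mem_comm {A B : Subgroup W} (h : A ≤ centralizer (B : Set W)) {a b : W} (ha : a ∈ A) (hb : b ∈ B) :
    b * a = a * b := mem_centralizer_iff.1 (h ha) b hb

variable [Finite W] {p : ℕ} {T : Subgroup W}

theorem Res.mu_pos (_r : Res p T) : 0 < mu p T := Nat.mul_pos Nat.card_pos Nat.card_pos

theorem Res.inf_centralizer (r : Res p T) : T ⊓ centralizer (T : Set W) = om p T := by
  refine le_antisymm (fun x hx => ⟨hx.1, fun s hs => mem_centralizer_iff.1 hx.2 s hs,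
    r.center x hx.1 fun s hs => mem_centralizer_iff.1 hx.2 s hs⟩) fun x hx => ⟨hx.1, mem_centralizer_iff.2 hx.2.1⟩

theorem Res.card_abelian_le (r : Res p T) {B : Subgroup W} (hBT : B ≤ T) (hB : B ≤ centralizer (B : Set W)) :
    Nat.card ↥B * Nat.card ↥B ≤ mu p T :=
  (Nat.mul_le_mul_left _ (card_le_of_le (le_inf hBT hB))).trans (r.cd B hBT)

theorem Res.maxAb_of_card_ge (r : Res p T) {A B : Subgroup W} (hA : MaxAb p T A) (hBT : B ≤ T)
    (hB : B ≤ centralizer (B : Set W)) (hc : Nat.card ↥A ≤ Nat.card ↥B) : MaxAb p T B :=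
  ⟨hBT, hB, le_antisymm (r.card_abelian_le hBT hB) (hA.card ▸ Nat.mul_le_mul hc hc)⟩

theorem Res.card_le_maxAb (r : Res p T) {A B : Subgroup W} (hA : MaxAb p T A) (hBT : B ≤ T)
    (hB : B ≤ centralizer (B : Set W)) : Nat.card ↥B ≤ Nat.card ↥A :=
  Nat.mul_self_le_mul_self_iff.1 ((r.card_abelian_le hBT hB).trans_eq hA.card.symm)

theorem MaxAb.self (r : Res p T) {A : Subgroup W} (hA : MaxAb p T A) : T ⊓ centralizer (A : Set W) = A :=
  (eq_of_le_of_card_ge (le_inf hA.le hA.comm)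
    (Nat.le_of_mul_le_mul_left ((r.cd A hA.le).trans_eq hA.card.symm) Nat.card_pos)).symm

theorem MaxAb.om_le (r : Res p T) {A : Subgroup W} (hA : MaxAb p T A) : om p T ≤ A :=
  fun x hx => (hA.self r).le ⟨hx.1, mem_centralizer_iff.2 fun a ha => hx.2.1 a (hA.le ha)⟩

theorem MaxAb.cl {A : Subgroup W} (hA : MaxAb p T A) : Cl p T A :=
  ⟨hA.le, by rw [inf_eq_left.2 hA.comm, hA.card]⟩

theorem Cl.inf_centralizer (r : Res p T) {X : Subgroup W} (hX : Cl p T X) :
    T ⊓ centralizer (X : Set W) = X ⊓ centralizer (X : Set W) :=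
  (eq_of_le_of_card_ge (inf_le_inf_right _ hX.le)
    (Nat.le_of_mul_le_mul_left ((r.cd X hX.le).trans_eq hX.card.symm) Nat.card_pos)).symm

theorem Cl.centralizer_center (r : Res p T) {X : Subgroup W} (hX : Cl p T X) :
    T ⊓ centralizer ((X ⊓ centralizer (X : Set W) : Subgroup W) : Set W) = X := by
  refine (eq_of_le_of_card_ge (le_inf hX.le (comm_symm inf_le_right)) ?_).symm
  refine Nat.le_of_mul_le_mul_left ((r.cd _ (inf_le_left.trans hX.le)).trans_eq ?_)
    (Nat.card_pos (α := ↥(X ⊓ centralizer (X : Set W))))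
  rw [mul_comm]; exact hX.card.symm

theorem Cl.exists_maxAb (r : Res p T) {X : Subgroup W} (hX : Cl p T X) :
    ∃ A, MaxAb p T A ∧ A ≤ X ∧ X ⊓ centralizer (X : Set W) ≤ A := by
  obtain ⟨A, hA, hAX⟩ := r.cl X hX
  exact ⟨A, hA, hAX, le_trans (le_inf (inf_le_left.trans hX.le) (inf_le_right.trans (centralizer_anti hAX)))
    (hA.self r).le⟩

/-- Two large abelian subgroups. -/
theorem Res.pair (r : Res p T) {A B : Subgroup W} (hA : MaxAb p T A) (hB : MaxAb p T B) :
    T ⊓ centralizer ((A ⊓ B : Subgroup W) : Set W) = A ⊔ B ∧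
      Nat.card ↥(A ⊔ B) * Nat.card ↥(A ⊓ B) = mu p T := by
  have hab : Nat.card ↥A = Nat.card ↥B := Nat.mul_self_inj.1 (hA.card.trans hB.card.symm)
  have hle : A ⊔ B ≤ T ⊓ centralizer ((A ⊓ B : Subgroup W) : Set W) :=
    sup_le (le_inf hA.le (hA.comm.trans (centralizer_anti inf_le_left)))
      (le_inf hB.le (hB.comm.trans (centralizer_anti inf_le_right)))
  have h1 := card_mul_card_le_sup_inf A B
  rw [← hab, hA.card] at h1
  have h2 := r.cd (A ⊓ B) (inf_le_left.trans hA.le)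
  refine ⟨(eq_of_le_of_card_ge hle (Nat.le_of_mul_le_mul_right ?_ (Nat.card_pos (α := ↥(A ⊓ B))))).symm,
    le_antisymm ?_ h1⟩
  · rw [mul_comm] at h2; exact h2.trans h1
  · rw [mul_comm] at h2; exact (Nat.mul_le_mul_right _ (card_le_of_le hle)).trans h2

/-- The meet of two centrally large subgroups with commuting centres. -/
theorem Res.meet (r : Res p T) {X Y : Subgroup W} (hX : Cl p T X) (hY : Cl p T Y)
    (hc : X ⊓ centralizer (X : Set W) ≤ centralizer ((Y ⊓ centralizer (Y : Set W) : Subgroup W) : Set W)) :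
    Cl p T (X ⊓ Y) ∧ (X ⊓ Y) ⊓ centralizer ((X ⊓ Y : Subgroup W) : Set W) =
      (X ⊓ centralizer (X : Set W)) ⊔ (Y ⊓ centralizer (Y : Set W)) := by
  obtain ⟨C, hC⟩ : ∃ C, C = X ⊓ centralizer (X : Set W) := ⟨_, rfl⟩
  obtain ⟨D, hD⟩ : ∃ D, D = Y ⊓ centralizer (Y : Set W) := ⟨_, rfl⟩
  rw [← hC, ← hD] at hc ⊢
  have hCX : C ≤ X := hC ▸ inf_le_left
  have hDY : D ≤ Y := hD ▸ inf_le_left
  have hCY : C ≤ Y := le_trans (le_inf (hCX.trans hX.le) hc) (hD ▸ (hY.centralizer_center r).le)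
  have hDX : D ≤ X := le_trans (le_inf (hDY.trans hY.le) (comm_symm hc)) (hC ▸ (hX.centralizer_center r).le)
  have hZ : C ⊔ D ≤ (X ⊓ Y) ⊓ centralizer ((X ⊓ Y : Subgroup W) : Set W) :=
    le_inf (sup_le (le_inf hCX hCY) (le_inf hDX hDY))
      (sup_le (hC ▸ inf_le_right.trans (centralizer_anti inf_le_left))
        (hD ▸ inf_le_right.trans (centralizer_anti inf_le_right)))
  have h1 := card_mul_card_le_sup_inf X Y
  have h2 := card_mul_card_le_sup_inf C D
  have h3 : Nat.card ↥(C ⊓ D) * Nat.card ↥(X ⊔ Y) ≤ mu p T := by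
    refine le_trans (Nat.mul_le_mul_left _ (card_le_of_le ?_)) (r.cd _ ((inf_le_left.trans hCX).trans hX.le))
    exact sup_le (le_inf hX.le (comm_symm (inf_le_left.trans (hC ▸ inf_le_right))))
      (le_inf hY.le (comm_symm (inf_le_right.trans (hD ▸ inf_le_right))))
  have h4 : Nat.card ↥(X ⊓ Y) * Nat.card ↥((X ⊓ Y) ⊓ centralizer ((X ⊓ Y : Subgroup W) : Set W)) ≤ mu p T :=
    (Nat.mul_le_mul_left _ (card_le_of_le (inf_le_inf_right _ (inf_le_left.trans hX.le)))).trans
      (r.cd _ (inf_le_left.trans hX.le))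
  have h5 : mu p T ≤ Nat.card ↥(X ⊓ Y) * Nat.card ↥(C ⊔ D) := by
    refine Nat.le_of_mul_le_mul_left ?_ r.mu_pos
    calc mu p T * mu p T = (Nat.card ↥X * Nat.card ↥Y) * (Nat.card ↥C * Nat.card ↥D) := by
          conv_lhs => arg 1; rw [← hX.card, ← hC]
          conv_lhs => arg 2; rw [← hY.card, ← hD]
          ring
      _ ≤ (Nat.card ↥(X ⊔ Y) * Nat.card ↥(X ⊓ Y)) * (Nat.card ↥(C ⊔ D) * Nat.card ↥(C ⊓ D)) :=
          Nat.mul_le_mul h1 h2
      _ = (Nat.card ↥(C ⊓ D) * Nat.card ↥(X ⊔ Y)) * (Nat.card ↥(X ⊓ Y) * Nat.card ↥(C ⊔ D)) := by ring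
      _ ≤ _ := Nat.mul_le_mul_right _ h3
  exact ⟨⟨inf_le_left.trans hX.le, le_antisymm h4 (h5.trans (Nat.mul_le_mul_left _ (card_le_of_le hZ)))⟩,
    (eq_of_le_of_card_ge hZ (Nat.le_of_mul_le_mul_left (h4.trans h5) Nat.card_pos)).symm⟩

/-! ### Conjugation -/

omit [Finite W] in
theorem cj_inf (a : W) (A B : Subgroup W) : cj a (A ⊓ B) = cj a A ⊓ cj a B :=
  map_inf A B _ (MulAut.conj a).injective

omit [Finite W] in
theorem cj_centralizer (a : W) (A : Subgroup W) :
    cj a (centralizer (A : Set W)) = centralizer (cj a A : Set W) := by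
  ext x
  simp only [mem_cj, mem_centralizer_iff, SetLike.mem_coe]
  constructor
  · intro h y hy
    have h1 := h _ hy
    calc y * x = a * ((a⁻¹ * y * a) * (a⁻¹ * x * a)) * a⁻¹ := by group
      _ = a * ((a⁻¹ * x * a) * (a⁻¹ * y * a)) * a⁻¹ := by rw [h1]
      _ = x * y := by group
  · intro h y hy
    have h1 := h (a * y * a⁻¹) (by simpa [mul_assoc] using hy)
    calc y * (a⁻¹ * x * a) = a⁻¹ * ((a * y * a⁻¹) * x) * a := by group
      _ = a⁻¹ * (x * (a * y * a⁻¹)) * a := by rw [h1]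
      _ = _ := by group

omit [Finite W] in
theorem mu_cj (a : W) : mu p (cj a T) = mu p T := by
  rw [mu, mu, om_cj, card_cj, card_cj]

omit [Finite W] in
theorem MaxAb.translate {A : Subgroup W} (hA : MaxAb p T A) (a : W) : MaxAb p (cj a T) (cj a A) :=
  ⟨cj_le hA.le, cj_centralizer a A ▸ cj_le hA.comm, by rw [mu_cj, card_cj, hA.card]⟩

omit [Finite W] in
theorem Cl.translate {X : Subgroup W} (hX : Cl p T X) (a : W) : Cl p (cj a T) (cj a X) :=
  ⟨cj_le hX.le, by rw [mu_cj, ← cj_centralizer, ← cj_inf, card_cj, card_cj, hX.card]⟩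

/-- A conjugate of `A` inside `T` is again large abelian. -/
theorem MaxAb.of_cj {A : Subgroup W} (hA : MaxAb p T A) {a : W} (h : cj a A ≤ T) : MaxAb p T (cj a A) :=
  ⟨h, cj_centralizer a A ▸ cj_le hA.comm, by rw [card_cj, hA.card]⟩

theorem Res.translate (r : Res p T) (a : W) : Res p (cj a T) where
  pT := r.pT.map _
  center x hx hc := by
    have h1 := r.center _ (mem_cj.1 hx) fun s hs => by
      have h2 := hc _ (conj_mem_cj (a := a) hs)
      calc s * (a⁻¹ * x * a) = a⁻¹ * ((a * s * a⁻¹) * x) * a := by group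
        _ = a⁻¹ * (x * (a * s * a⁻¹)) * a := by rw [h2]
        _ = _ := by group
    calc x ^ p = (a * (a⁻¹ * x * a) * a⁻¹) ^ p := by group
      _ = 1 := by rw [conj_pow, h1, mul_one, mul_inv_cancel]
  cd X hX := by
    have hX' : cj a⁻¹ X ≤ T := by
      have := cj_le (a := a⁻¹) hX
      rwa [← cj_mul, inv_mul_cancel, cj_one] at this
    have h1 := r.cd _ hX'
    have e : cj a (T ⊓ centralizer (cj a⁻¹ X : Set W)) = cj a T ⊓ centralizer (X : Set W) := by
      rw [cj_inf, cj_centralizer, cj_cancel]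
    rwa [card_cj, ← card_cj a (T ⊓ _), e, ← mu_cj a] at h1
  gen H hH := by
    have h1 : T ≤ cj a⁻¹ H := r.gen _ fun A hA => by
      have := cj_le (a := a⁻¹) (hH _ (hA.translate a))
      rwa [← cj_mul, inv_mul_cancel, cj_one] at this
    have := cj_le (a := a) h1
    rwa [cj_cancel] at this
  cl X hX := by
    have h0 := hX.translate a⁻¹
    rw [← cj_mul, inv_mul_cancel, cj_one] at h0
    obtain ⟨A, hA, hAX⟩ := r.cl _ h0
    exact ⟨cj a A, hA.translate a, (cj_le hAX).trans_eq (cj_cancel a X)⟩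

end CfsgLib.PushFam
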