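import Cfsg.Agent.Lib.Core.Basic
import Cfsg.Agent.Lib.LocalEvenB.PushFam.Res
import Cfsg.Agent.Lib.LocalEvenB.PushFam.Natural

/-!
# Pushing-up families: large abelian subgroups outside the core
-/

set_option autoImplicit false

namespace CfsgLib.PushFam

open Subgroup CfsgLib.PushUp
open scoped commutatorElement

variable {W : Type*} [Group W]

/-- An element of `G` normalizing. -/
theorem st_cj_eq [Finite W] {G H : Subgroup W} (h : Stable G H) {g : W} (hg : g ∈ G) : cj g H = H :=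
  cj_eq_of_forall fun x hx => h g hg x hx

theorem st_le_normalizer {G H : Subgroup W} (h : Stable G H) : G ≤ normalizer (H : Set W) :=
  le_normalizer_iff.2 fun g hg x hx => h g hg x hx

theorem st_inter {G A B : Subgroup W} (hA : Stable G A) (hB : Stable G B) : Stable G (A ⊓ B) :=
  fun g hg x hx => ⟨hA g hg x hx.1, hB g hg x hx.2⟩

theorem st_mono {G G' A : Subgroup W} (h : Stable G A) (hle : G' ≤ G) : Stable G' A :=
  fun g hg => h g (hle hg)

variable [Finite W] {p : ℕ} [Fact p.Prime] {G S Q M : Subgroup W}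

omit [Fact p.Prime] in
theorem Bad.translate (h : Bad p G S Q M) (a : W) : Bad p (cj a G) (cj a S) (cj a Q) (cj a M) := by
  have key : ∀ {H : Subgroup W}, cj a⁻¹ (cj a H) = H := fun {H} => by rw [← cj_mul, inv_mul_cancel, cj_one]
  have hback : ∀ {A B : Subgroup W}, A ≤ cj a B → cj a⁻¹ A ≤ B := fun {A B} hAB => (cj_le hAB).trans key.le
  have hto : ∀ {A B : Subgroup W}, cj a A ≤ B → A ≤ cj a⁻¹ B := fun {A B} hAB => key.ge.trans (cj_le hAB)
  have hcm : ∀ {x y : W}, a⁻¹ * ⁅x, y⁆ * a = ⁅a⁻¹ * x * a, a⁻¹ * y * a⁆ := fun {x y} => by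
    simp only [commutatorElement_def]; group
  exact
    { SG := cj_le h.SG
      MG := cj_le h.MG
      SM := cj_le h.SM
      Mne := fun e => h.Mne (by rw [← key (H := M), e, key])
      pS := h.pS.map _
      syl := fun H hH hSH D hDH hD => by
        obtain ⟨k, hk, hDk⟩ := h.syl (cj a⁻¹ H) (hback hH) (hto hSH) (cj a⁻¹ D) (cj_le hDH) (hD.map _)
        refine ⟨a * k * a⁻¹, ?_, ?_⟩
        · simpa [mul_assoc] using mem_cj.1 hk
        · calc D = cj a (cj a⁻¹ D) := (cj_cancel a D).symm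
            _ ≤ cj a (cj k S) := cj_le hDk
            _ = _ := by rw [← cj_mul, ← cj_mul]; congr 1; group
      huniq := fun H hSH hH hne => by
        have := cj_le (a := a) (h.huniq (cj a⁻¹ H) (hto hSH) (hback hH)
          fun e => hne (by rw [← cj_cancel a H, e]))
        rwa [cj_cancel] at this
      QS := cj_le h.QS
      SQ := fun e => h.SQ ((hto e).trans key.le)
      Qn := h.Qn.translate a
      Qmax := fun D hD hst => by
        have hD' : Stable G (cj a⁻¹ D) := Stable.of_translate (a := a) (by rwa [cj_cancel])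
        have := cj_le (a := a) (h.Qmax _ (hback hD) hD')
        rwa [cj_cancel] at this
      selfC := by
        rw [← cj_centralizer, ← cj_inf]
        exact cj_le h.selfC
      ti := fun g hg hgM x hx hx' => by
        rw [mem_cj] at hg hgM hx hx' ⊢
        refine h.ti _ hg hgM _ hx ?_
        simpa [mul_assoc] using hx'
      ab := fun x hx y hy => by
        rw [mem_cj] at hx hy ⊢
        rw [hcm]
        exact h.ab _ hx _ hy
      pw := fun x hx => by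
        rw [mem_cj] at hx ⊢
        have e : a⁻¹ * x ^ p * a = (a⁻¹ * x * a⁻¹⁻¹) ^ p := by rw [conj_pow, inv_inv]
        rw [e, inv_inv]
        exact h.pw _ hx
      nfix := fun e => h.nfix (by
        rw [om_cj, ← cj_centralizer] at e
        exact (hto e).trans key.le) }

omit [Finite W] [Fact p.Prime] in
theorem zc_cj (a : W) : zc p (cj a G) (cj a S) = cj a (zc p G S) := by
  rw [zc, zc]
  refine Eq.trans ?_ (MonoidHom.map_closure _ _).symm
  congr 1
  ext x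
  constructor
  · rintro ⟨g, hg, hx⟩
    rw [om_cj] at hx
    refine ⟨a⁻¹ * x * a, ⟨a⁻¹ * g * a, mem_cj.1 hg, ?_⟩, ?_⟩
    · simpa [mul_assoc] using mem_cj.1 hx
    · show a * (a⁻¹ * x * a) * a⁻¹ = x
      group
  · rintro ⟨y, ⟨g, hg, hy⟩, rfl⟩
    refine ⟨a * g * a⁻¹, conj_mem_cj hg, ?_⟩
    rw [om_cj, mem_cj]
    show a⁻¹ * ((a * g * a⁻¹)⁻¹ * (a * y * a⁻¹) * (a * g * a⁻¹)) * a ∈ _
    simpa [mul_assoc] using hy

variable (h : Bad p G S Q M) (r : Res p S)
include h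

/-- The module generated from a conjugate Sylow subgroup is the same. -/
theorem Bad.zc_conj {g : W} (hg : g ∈ G) : zc p G (cj g S) = zc p G S := by
  have e := zc_cj (p := p) (G := G) (S := S) g
  rw [st_cj_eq (G := G) (fun a ha x hx => cj_self ha hx) hg] at e
  rw [e]
  exact st_cj_eq (zc_stable G S) hg

theorem Bad.zc_abelian : zc p G S ≤ centralizer (zc p G S : Set W) :=
  fun _ hx => mem_centralizer_iff.2 fun _ hy => h.zc_comm hy (h.zc_le_Q hx)

theorem Bad.zc_cent {H : Subgroup W} (hH : H ≤ Q) : zc p G S ≤ centralizer (H : Set W) :=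
  (h.zc_le.trans inf_le_right).trans (centralizer_anti hH)

include r

theorem Bad.exists_outer : ∃ A, MaxAb p S A ∧ ¬ A ≤ Q := by
  by_contra hc
  push Not at hc
  exact h.SQ (r.gen Q hc)

/-- An offender exists. -/
theorem Bad.off : Off p G S Q := by
  obtain ⟨A, hA, hAQ⟩ := h.exists_outer r
  obtain ⟨Z, hZ⟩ : ∃ Z, Z = zc p G S := ⟨_, rfl⟩
  have hAn : A ≤ normalizer (Q : Set W) := (hA.le.trans h.SG).trans (st_le_normalizer h.Qn)
  refine ⟨A ⊔ Q, le_sup_right, sup_le hA.le h.QS, fun e => hAQ (le_sup_left.trans e.le), ?_⟩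
  rw [← hZ]
  have hRab : Z ⊔ (A ⊓ Q) ≤ centralizer ((Z ⊔ (A ⊓ Q) : Subgroup W) : Set W) :=
    abelian_sup (hZ ▸ h.zc_abelian) ((inf_le_left.trans hA.comm).trans (centralizer_anti inf_le_left))
      (hZ ▸ h.zc_cent inf_le_right)
  have e1 : Nat.card ↥(Z ⊔ (A ⊓ Q)) ≤ Nat.card ↥A :=
    r.card_le_maxAb hA (sup_le (hZ ▸ h.zc_le_S) (inf_le_left.trans hA.le)) hRab
  have e2 := CfsgLib.Core.card_sup_mul_card_inf Z (A ⊓ Q)
    ((hZ ▸ h.zc_cent inf_le_right).trans (centralizer_le_normalizer _))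
  have e3 := CfsgLib.Core.card_sup_mul_card_inf A Q hAn
  have e4 : Nat.card ↥(Z ⊓ (A ⊓ Q)) ≤ Nat.card ↥(Z ⊓ centralizer ((A ⊔ Q : Subgroup W) : Set W)) :=
    card_le_of_le (le_inf inf_le_left (sup_comm_le (comm_symm (inf_le_right.trans (inf_le_left.trans hA.comm)))
      (comm_symm (inf_le_left.trans (hZ ▸ h.zc_cent le_rfl)))))
  refine Nat.le_of_mul_le_mul_right ?_ (Nat.card_pos (α := ↥(A ⊓ Q)))
  calc Nat.card ↥Z * Nat.card ↥Q * Nat.card ↥(A ⊓ Q)
      = (Nat.card ↥Z * Nat.card ↥(A ⊓ Q)) * Nat.card ↥Q := by ring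
    _ = Nat.card ↥(Z ⊔ (A ⊓ Q)) * Nat.card ↥(Z ⊓ (A ⊓ Q)) * Nat.card ↥Q := by rw [e2]
    _ ≤ Nat.card ↥A * Nat.card ↥(Z ⊓ centralizer ((A ⊔ Q : Subgroup W) : Set W)) * Nat.card ↥Q :=
        Nat.mul_le_mul_right _ (Nat.mul_le_mul e1 e4)
    _ = (Nat.card ↥A * Nat.card ↥Q) * Nat.card ↥(Z ⊓ centralizer ((A ⊔ Q : Subgroup W) : Set W)) := by ring
    _ = (Nat.card ↥(A ⊔ Q) * Nat.card ↥(A ⊓ Q)) * _ := by rw [e3]
    _ = _ := by ring

/-- The module is natural. -/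
theorem Bad.natural : Facts p G S Q M := h.facts (h.off r)

/-- The consequences of a large abelian subgroup outside the core. -/
theorem Bad.outer {A : Subgroup W} (hA : MaxAb p S A) (hAQ : ¬ A ≤ Q) :
    zc p G S ⊓ A = om p S ∧ A ⊔ Q = S ∧ MaxAb p S (zc p G S ⊔ (A ⊓ Q)) ∧
      Q ⊓ centralizer ((A ⊓ Q : Subgroup W) : Set W) = zc p G S ⊔ (A ⊓ Q) := by
  have F := h.natural r
  obtain ⟨Z, hZ⟩ : ∃ Z, Z = zc p G S := ⟨_, rfl⟩
  have hcardZ := F.cardZ
  rw [← hZ] at hcardZ ⊢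
  obtain ⟨x, hxA, hxQ⟩ := SetLike.not_le_iff_exists.1 hAQ
  have hZA : Z ⊓ A = om p S := by
    refine le_antisymm (fun z hz => ?_) (le_inf (hZ ▸ om_le_zc G S) (hA.om_le r))
    exact F.fixed x (hA.le hxA) hxQ z (hZ ▸ hz.1) (mem_comm hA.comm hz.2 hxA)
  have hAn : A ≤ normalizer (Q : Set W) := (hA.le.trans h.SG).trans (st_le_normalizer h.Qn)
  obtain ⟨R, hR⟩ : ∃ R, R = Z ⊔ (A ⊓ Q) := ⟨_, rfl⟩
  rw [← hR]
  have hRQ : R ≤ Q := hR ▸ sup_le (hZ ▸ h.zc_le_Q) inf_le_right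
  have hRab : R ≤ centralizer (R : Set W) :=
    hR ▸ abelian_sup (hZ ▸ h.zc_abelian) ((inf_le_left.trans hA.comm).trans (centralizer_anti inf_le_left))
      (hZ ▸ h.zc_cent inf_le_right)
  have e1 : Nat.card ↥R ≤ Nat.card ↥A := r.card_le_maxAb hA (hRQ.trans h.QS) hRab
  have e2 := CfsgLib.Core.card_sup_mul_card_inf Z (A ⊓ Q)
    ((hZ ▸ h.zc_cent inf_le_right).trans (centralizer_le_normalizer _))
  rw [← hR, show Z ⊓ (A ⊓ Q) = om p S by rw [← inf_assoc, hZA, inf_eq_left.2 h.om_le_Q]] at e2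
  have e3 := CfsgLib.Core.card_sup_mul_card_inf A Q hAn
  have h5 : Nat.card ↥(A ⊔ Q) ≤ Nat.card ↥S := card_le_of_le (sup_le hA.le h.QS)
  -- `|A| ≤ |R|` and `|S| ≤ |A ⊔ Q|`
  have e6 : Nat.card ↥R * (Nat.card ↥Q * Nat.card ↥(om p S)) =
      Nat.card ↥S * Nat.card ↥(om p S) * Nat.card ↥(A ⊓ Q) := by
    calc Nat.card ↥R * (Nat.card ↥Q * Nat.card ↥(om p S))
        = (Nat.card ↥R * Nat.card ↥(om p S)) * Nat.card ↥Q := by ring
      _ = Nat.card ↥Z * Nat.card ↥(A ⊓ Q) * Nat.card ↥Q := by rw [e2]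
      _ = (Nat.card ↥Z * Nat.card ↥Q) * Nat.card ↥(A ⊓ Q) := by ring
      _ = _ := by rw [hcardZ]
  have e7 : Nat.card ↥A ≤ Nat.card ↥R := by
    refine Nat.le_of_mul_le_mul_right ?_ (Nat.mul_pos (Nat.card_pos (α := Q)) (Nat.card_pos (α := ↥(om p S))))
    rw [e6]
    calc Nat.card ↥A * (Nat.card ↥Q * Nat.card ↥(om p S))
        = (Nat.card ↥A * Nat.card ↥Q) * Nat.card ↥(om p S) := by ring
      _ = Nat.card ↥(A ⊔ Q) * Nat.card ↥(A ⊓ Q) * Nat.card ↥(om p S) := by rw [e3]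
      _ ≤ Nat.card ↥S * Nat.card ↥(A ⊓ Q) * Nat.card ↥(om p S) :=
          Nat.mul_le_mul_right _ (Nat.mul_le_mul_right _ h5)
      _ = _ := by ring
  have hAQS : A ⊔ Q = S := by
    refine eq_of_le_of_card_ge (sup_le hA.le h.QS) ?_
    refine Nat.le_of_mul_le_mul_right ?_ (Nat.mul_pos (Nat.card_pos (α := ↥(om p S))) (Nat.card_pos (α := ↥(A ⊓ Q))))
    calc Nat.card ↥S * (Nat.card ↥(om p S) * Nat.card ↥(A ⊓ Q))
        = Nat.card ↥R * (Nat.card ↥Q * Nat.card ↥(om p S)) := by rw [e6]; ring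
      _ ≤ Nat.card ↥A * (Nat.card ↥Q * Nat.card ↥(om p S)) := Nat.mul_le_mul_right _ e1
      _ = (Nat.card ↥A * Nat.card ↥Q) * Nat.card ↥(om p S) := by ring
      _ = _ := by rw [← e3]; ring
  have hRmax : MaxAb p S R := r.maxAb_of_card_ge hA (hRQ.trans h.QS) hRab e7
  refine ⟨hZA, hAQS, hRmax, ?_⟩
  obtain ⟨C, hC⟩ : ∃ C, C = Q ⊓ centralizer ((A ⊓ Q : Subgroup W) : Set W) := ⟨_, rfl⟩
  have hRC : R ≤ C := hC ▸ le_inf hRQ (hRab.trans (centralizer_anti (hR ▸ le_sup_right)))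
  rw [← hC]
  refine (eq_of_le_of_card_ge hRC (le_trans ?_ e7)).symm
  have e8 := CfsgLib.LocalEvenB.card_mul_card_le_sup_inf A C
  rw [show A ⊓ C = A ⊓ Q from le_antisymm (inf_le_inf_left _ (hC ▸ inf_le_left))
    (le_inf inf_le_left (hC ▸ le_inf inf_le_right (inf_le_left.trans (hA.comm.trans (centralizer_anti inf_le_left)))))]
    at e8
  have e9 := r.cd (A ⊓ Q) (inf_le_left.trans hA.le)
  have e10 : Nat.card ↥(A ⊔ C) ≤ Nat.card ↥(S ⊓ centralizer ((A ⊓ Q : Subgroup W) : Set W)) :=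
    card_le_of_le (sup_le (le_inf hA.le (hA.comm.trans (centralizer_anti inf_le_left)))
      (hC ▸ inf_le_inf_right _ h.QS))
  refine Nat.le_of_mul_le_mul_left ?_ (Nat.card_pos (α := A))
  rw [hA.card]
  exact e8.trans ((Nat.mul_le_mul_right _ e10).trans ((mul_comm _ _).trans_le e9))

/-- The core is centrally large, with the module as centre. -/
theorem Bad.core_cl : Cl p S Q ∧ Q ⊓ centralizer (Q : Set W) = zc p G S ∧
    S ⊓ centralizer (Q : Set W) = zc p G S := by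
  have F := h.natural r
  have h1 : zc p G S ≤ Q ⊓ centralizer (Q : Set W) := h.zc_le
  have h2 : Q ⊓ centralizer (Q : Set W) ≤ S ⊓ centralizer (Q : Set W) := inf_le_inf_right _ h.QS
  have e : Nat.card ↥Q * Nat.card ↥(zc p G S) = mu p S := by rw [mul_comm]; exact F.cardZ
  have h3 : Nat.card ↥Q * Nat.card ↥(S ⊓ centralizer (Q : Set W)) ≤ mu p S := r.cd Q h.QS
  have h4 : zc p G S = S ⊓ centralizer (Q : Set W) :=
    eq_of_le_of_card_ge (h1.trans h2) (Nat.le_of_mul_le_mul_left (h3.trans_eq e.symm) Nat.card_pos)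
  have h5 : Q ⊓ centralizer (Q : Set W) = zc p G S := le_antisymm (h2.trans h4.ge) h1
  exact ⟨⟨h.QS, by rw [h5, e]⟩, h5, h4.symm⟩

end CfsgLib.PushFam
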