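import Cfsg.Agent.Lib.LocalEvenB.PushFam.Frattini

/-!
# Pushing-up families: coordinates on the module, and an element inverting it
-/

set_option autoImplicit false

namespace CfsgLib.PushFam

open Subgroup CfsgLib.PushUp Matrix
open scoped commutatorElement

variable {F : Type*} [Field F]

/-- A braid pair of unipotents: the square of `A B A` is `-1`. -/
theorem exists_braid_neg {A : SpecialLinearGroup (Fin 2) F} (hA : A ≠ 1)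
    (hq : ∀ v, (A : Matrix (Fin 2) (Fin 2) F) *ᵥ ((A : Matrix (Fin 2) (Fin 2) F) *ᵥ v - v) =
      (A : Matrix (Fin 2) (Fin 2) F) *ᵥ v - v) :
    ∃ R : SpecialLinearGroup (Fin 2) F,
      (((A * (R * A * R⁻¹) * A) * (A * (R * A * R⁻¹) * A) : SpecialLinearGroup (Fin 2) F) :
        Matrix (Fin 2) (Fin 2) F) = -1 ∧
      A * (R * A * R⁻¹) * A = (R * A * R⁻¹) * A * (R * A * R⁻¹) := by
  obtain ⟨R, hbr, h0⟩ := exists_braid hA hq
  obtain ⟨B, hB⟩ : ∃ B, B = R * A * R⁻¹ := ⟨_, rfl⟩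
  rw [← hB] at hbr h0
  obtain ⟨a, ha⟩ : ∃ a, a = fun v => (A : Matrix (Fin 2) (Fin 2) F) *ᵥ v := ⟨_, rfl⟩
  obtain ⟨b, hb⟩ : ∃ b, b = fun v => (B : Matrix (Fin 2) (Fin 2) F) *ᵥ v := ⟨_, rfl⟩
  have hbq : ∀ v, (B : Matrix (Fin 2) (Fin 2) F) *ᵥ ((B : Matrix (Fin 2) (Fin 2) F) *ᵥ v - v) =
      (B : Matrix (Fin 2) (Fin 2) F) *ᵥ v - v := by
    intro v
    have e1 : (B : Matrix (Fin 2) (Fin 2) F) = (R : Matrix (Fin 2) (Fin 2) F) * (A : Matrix (Fin 2) (Fin 2) F) *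
        ((R⁻¹ : SpecialLinearGroup (Fin 2) F) : Matrix (Fin 2) (Fin 2) F) := by
      rw [hB, Matrix.SpecialLinearGroup.coe_mul, Matrix.SpecialLinearGroup.coe_mul]
    have e2 : ((R⁻¹ : SpecialLinearGroup (Fin 2) F) : Matrix (Fin 2) (Fin 2) F) *
        (R : Matrix (Fin 2) (Fin 2) F) = 1 := by
      rw [← Matrix.SpecialLinearGroup.coe_mul, inv_mul_cancel, Matrix.SpecialLinearGroup.coe_one]
    have e3 : (R : Matrix (Fin 2) (Fin 2) F) *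
        ((R⁻¹ : SpecialLinearGroup (Fin 2) F) : Matrix (Fin 2) (Fin 2) F) = 1 := by
      rw [← Matrix.SpecialLinearGroup.coe_mul, mul_inv_cancel, Matrix.SpecialLinearGroup.coe_one]
    obtain ⟨w, hw⟩ : ∃ w, w = ((R⁻¹ : SpecialLinearGroup (Fin 2) F) : Matrix (Fin 2) (Fin 2) F) *ᵥ v := ⟨_, rfl⟩
    have hv : v = (R : Matrix (Fin 2) (Fin 2) F) *ᵥ w := by
      rw [hw, Matrix.mulVec_mulVec, e3, Matrix.one_mulVec]
    have key : ∀ u, (B : Matrix (Fin 2) (Fin 2) F) *ᵥ ((R : Matrix (Fin 2) (Fin 2) F) *ᵥ u) =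
        (R : Matrix (Fin 2) (Fin 2) F) *ᵥ ((A : Matrix (Fin 2) (Fin 2) F) *ᵥ u) := by
      intro u
      rw [Matrix.mulVec_mulVec, Matrix.mulVec_mulVec, e1, Matrix.mul_assoc, e2, Matrix.mul_one]
    rw [hv, key, ← Matrix.mulVec_sub, key, hq]
  obtain ⟨x, hx⟩ : ∃ x, (A : Matrix (Fin 2) (Fin 2) F) *ᵥ x ≠ x := by
    by_contra hc
    push Not at hc
    refine hA (Subtype.ext (eq_of_two (f := ![1, 0]) (a := ![0, 1]) (by simp) ?_ ?_))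
    · rw [hc]; exact (Matrix.one_mulVec _).symm
    · rw [hc]; exact (Matrix.one_mulVec _).symm
  obtain ⟨f, hf⟩ : ∃ f, f = (A : Matrix (Fin 2) (Fin 2) F) *ᵥ x - x := ⟨_, rfl⟩
  have hAf : (A : Matrix (Fin 2) (Fin 2) F) *ᵥ f = f := by rw [hf]; exact hq x
  have hf0 : f ≠ 0 := fun e => hx (sub_eq_zero.1 (hf ▸ e))
  obtain ⟨g, hg⟩ : ∃ g, g = (B : Matrix (Fin 2) (Fin 2) F) *ᵥ f - f := ⟨_, rfl⟩
  have hBg : (B : Matrix (Fin 2) (Fin 2) F) *ᵥ g = g := by rw [hg]; exact hbq f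
  have hBf : (B : Matrix (Fin 2) (Fin 2) F) *ᵥ f = f + g := by rw [hg]; abel
  obtain ⟨X, hX⟩ : ∃ X, X = (A : Matrix (Fin 2) (Fin 2) F) *ᵥ g - g := ⟨_, rfl⟩
  have hAX : (A : Matrix (Fin 2) (Fin 2) F) *ᵥ X = X := by rw [hX]; exact hq g
  have hAg : (A : Matrix (Fin 2) (Fin 2) F) *ᵥ g = g + X := by rw [hX]; abel
  have hbrv : ∀ v, (A : Matrix (Fin 2) (Fin 2) F) *ᵥ ((B : Matrix (Fin 2) (Fin 2) F) *ᵥ
      ((A : Matrix (Fin 2) (Fin 2) F) *ᵥ v)) = (B : Matrix (Fin 2) (Fin 2) F) *ᵥ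
      ((A : Matrix (Fin 2) (Fin 2) F) *ᵥ ((B : Matrix (Fin 2) (Fin 2) F) *ᵥ v)) := by
    intro v
    have := congrArg (fun N : SpecialLinearGroup (Fin 2) F => (N : Matrix (Fin 2) (Fin 2) F) *ᵥ v) hbr
    simpa only [Matrix.SpecialLinearGroup.coe_mul, ← Matrix.mulVec_mulVec] using this
  have hBX : (B : Matrix (Fin 2) (Fin 2) F) *ᵥ X = X - g := by
    have e := hbrv f
    rw [hAf, hBf, Matrix.mulVec_add, hAf, hAg, Matrix.mulVec_add, Matrix.mulVec_add, hBf, hBg] at e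
    rw [eq_comm, ← sub_eq_zero] at e
    rw [← sub_eq_zero]
    exact Eq.trans (by abel) e
  have hXf : X + f = 0 := h0 _ (by rw [Matrix.mulVec_add, hAX, hAf]) (by rw [Matrix.mulVec_add, hBX, hBf]; abel)
  have hAg' : (A : Matrix (Fin 2) (Fin 2) F) *ᵥ g = g - f := by
    rw [hAg, eq_neg_of_add_eq_zero_left hXf]; abel
  have hind : f 0 * g 1 - f 1 * g 0 ≠ 0 := det_ne_zero_of_moved hAf hf0 (by
    rw [hAg']
    intro e
    exact hf0 (sub_eq_self.1 e))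
  refine ⟨R, ?_, by rw [← hB]; exact hbr⟩
  rw [← hB]
  refine eq_of_two hind ?_ ?_
  · simp only [Matrix.SpecialLinearGroup.coe_mul, ← Matrix.mulVec_mulVec, hAf, hBf, hBg, hAg', Matrix.mulVec_add,
      Matrix.mulVec_sub, Matrix.neg_mulVec, Matrix.one_mulVec]
    abel
  · simp only [Matrix.SpecialLinearGroup.coe_mul, ← Matrix.mulVec_mulVec, hAf, hBf, hBg, hAg', Matrix.mulVec_add,
      Matrix.mulVec_sub, Matrix.neg_mulVec, Matrix.one_mulVec]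
    abel

variable {W : Type*} [Group W] [Finite W] {p : ℕ} [Fact p.Prime] {G S Q M : Subgroup W}
  (h : Bad p G S Q M) (r : Res p S)
include h r

/-- Coordinates on the module, as a function on the ambient group. -/
theorem Bad.zCoord :
    ∃ (F : Type) (_ : Field F) (_ : Fintype F) (χ : W → (Fin 2 → F)) (ρ : ↥G →* SpecialLinearGroup (Fin 2) F),
      p ∣ Fintype.card F ∧ Function.Surjective ρ ∧
      (∀ u ∈ zc p G S, ∀ v ∈ zc p G S, χ (u * v) = χ u + χ v) ∧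
      (∀ w, ∃ u ∈ zc p G S, χ u = w) ∧
      (∀ u ∈ zc p G S, (χ u = 0 ↔ u ∈ centralizer (G : Set W))) ∧
      (∀ g : ↥G, ρ g = 1 ↔ (g : W) ∈ centralizer (zc p G S : Set W)) ∧
      ∀ g : ↥G, ∀ u ∈ zc p G S, χ ((g : W) * u * (g : W)⁻¹) = (ρ g : Matrix (Fin 2) (Fin 2) F) *ᵥ χ u := by
  classical
  obtain ⟨F, i1, i2, ψ, ρ, hcF, hρ, hψ, hk, hψk, hψa⟩ := (h.natural r).coord
  have hdvd : p ∣ Fintype.card F := by
    obtain ⟨a, ha⟩ := h.pS.exists_card_eq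
    obtain ⟨k, -, hk'⟩ := (Nat.dvd_prime_pow (Fact.out : p.Prime)).1 (ha ▸ Dvd.intro _ hcF : Fintype.card F ∣ p ^ a)
    rcases Nat.eq_zero_or_pos k with rfl | hk0
    · rw [hk', pow_zero, one_mul] at hcF
      exact absurd (Subgroup.eq_of_le_of_card_ge h.QS hcF.ge) fun e => h.SQ e.ge
    · exact hk' ▸ dvd_pow_self p hk0.ne'
  refine ⟨F, i1, i2, fun x => if hx : x ∈ zc p G S then ψ (Additive.ofMul ⟨x, hx⟩) else 0, ρ, hdvd, hρ,
    fun u hu v hv => ?_, fun w => ?_, fun u hu => ?_, hk, fun g u hu => ?_⟩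
  · show dite _ _ _ = dite _ _ _ + dite _ _ _
    rw [dif_pos hu, dif_pos hv, dif_pos (mul_mem hu hv), ← map_add]
    rfl
  · obtain ⟨z, hz⟩ := hψ w
    exact ⟨(Additive.toMul z : ↥(zc p G S)), (Additive.toMul z : ↥(zc p G S)).2, by
      show dite _ _ _ = w
      rw [dif_pos (Additive.toMul z : ↥(zc p G S)).2]; exact hz⟩
  · show dite _ _ _ = 0 ↔ _
    rw [dif_pos hu]
    exact hψk _
  · show dite _ _ _ = _ *ᵥ dite _ _ _
    rw [dif_pos hu, dif_pos (zc_stable G S (g : W) g.2 u hu)]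
    exact hψa g ⟨u, hu⟩ ⟨_, zc_stable G S (g : W) g.2 u hu⟩ rfl

/-- An element of `G` normalizing `S` and inverting the module modulo its centralized part. -/
theorem Bad.exists_torus : ∃ τ ∈ G, (∀ x ∈ S, τ * x * τ⁻¹ ∈ S) ∧
    (∀ w ∈ zc p G S, τ * w * τ⁻¹ * w ∈ centralizer (G : Set W)) ∧
    τ * τ ∈ centralizer (zc p G S : Set W) ∧
    (∀ g ∈ G, ⁅τ, g⁆ ∈ centralizer (zc p G S : Set W)) ∧
    ∀ a ∈ S, a ∉ Q → ∃ r ∈ G,
      a * (r * a * r⁻¹) * a * (a * (r * a * r⁻¹) * a) * τ⁻¹ ∈ centralizer (zc p G S : Set W) ∧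
      (r * a * r⁻¹) * a * (r * a * r⁻¹) * ((r * a * r⁻¹) * a * (r * a * r⁻¹)) * τ⁻¹ ∈
        centralizer (zc p G S : Set W) := by
  classical
  obtain ⟨F, i1, i2, χ, ρ, -, hρs, hadd, hsur, hker, hρk, hact⟩ := h.zCoord r
  let N : SpecialLinearGroup (Fin 2) F := ⟨-1, by simp [Matrix.det_neg]⟩
  have hN : (N : Matrix (Fin 2) (Fin 2) F) = -1 := rfl
  obtain ⟨t, ht⟩ := hρs N
  obtain ⟨C, hC⟩ : ∃ C, C = G ⊓ centralizer (zc p G S : Set W) := ⟨_, rfl⟩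
  have hCG : C ≤ G := hC ▸ inf_le_left
  have hNc : ∀ x : SpecialLinearGroup (Fin 2) F, N * x = x * N := fun x => Subtype.ext (by
    rw [Matrix.SpecialLinearGroup.coe_mul, Matrix.SpecialLinearGroup.coe_mul, hN, neg_one_mul, mul_neg_one])
  have hCS : ∀ x ∈ S, (t : W) * x * (t : W)⁻¹ ∈ C ⊔ S := by
    intro x hx
    have h1 : ρ (t * ⟨x, h.SG hx⟩ * t⁻¹ * ⟨x, h.SG hx⟩⁻¹) = 1 := by
      rw [map_mul, map_mul, map_mul, map_inv, map_inv, ht, hNc, mul_inv_cancel_right, mul_inv_cancel]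
    have h2 : (t : W) * x * (t : W)⁻¹ * x⁻¹ ∈ C := hC ▸ ⟨G.mul_mem (G.mul_mem (G.mul_mem t.2 (h.SG hx)) (G.inv_mem t.2)) (G.inv_mem (h.SG hx)), (hρk _).1 h1⟩
    have h3 := Subgroup.mul_mem_sup h2 hx
    rwa [inv_mul_cancel_right] at h3
  obtain ⟨k, hk, hkS⟩ := h.syl (C ⊔ S) (sup_le hCG h.SG) le_sup_right (cj (t : W) S) (by
    rintro _ ⟨x, hx, rfl⟩
    exact hCS x hx) (h.pS.map _)
  rw [sup_comm] at hk
  obtain ⟨s0, hs0, c0, hc0, rfl⟩ := mem_sup_mul (h.SG.trans (st_le_normalizer (hC ▸ h.cz_stable))) hk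
  obtain ⟨c, hc', s, hs, e0⟩ : ∃ c, c ∈ C ∧ ∃ s, s ∈ S ∧ c * s = s0 * c0 :=
    ⟨s0 * c0 * s0⁻¹, (hC ▸ h.cz_stable : Stable G C) s0 (h.SG hs0) c0 hc0, s0, hs0, by group⟩
  rw [← e0] at hkS
  have hc := hc'
  have hcG : c ∈ G := hCG hc
  obtain ⟨τ, hτ⟩ : ∃ τ : ↥G, τ = ⟨c, hcG⟩⁻¹ * t := ⟨_, rfl⟩
  have hρτ : ρ τ = N := by
    rw [hτ, map_mul, map_inv, (hρk _).2 (hC.le hc).2, inv_one, one_mul, ht]
  have hτC : ∀ g : ↥G, ρ g = 1 → (g : W) ∈ centralizer (zc p G S : Set W) := fun g hg => (hρk g).1 hg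
  refine ⟨(τ : W), τ.2, fun x hx => ?_, fun w hw => ?_, hτC (τ * τ) ?_, fun g hg => ?_, fun a ha haQ => ?_⟩
  · obtain ⟨y, hy, e⟩ := hkS (conj_mem_cj (a := (t : W)) hx)
    rw [hτ]
    show c⁻¹ * (t : W) * x * (c⁻¹ * (t : W))⁻¹ ∈ S
    have e' : (c * s) * y * (c * s)⁻¹ = (t : W) * x * (t : W)⁻¹ := e
    have h1 : s * y * s⁻¹ ∈ S := mul_mem (mul_mem hs hy) (inv_mem hs)
    convert h1 using 1
    calc c⁻¹ * (t : W) * x * (c⁻¹ * (t : W))⁻¹ = c⁻¹ * ((t : W) * x * (t : W)⁻¹) * c := by group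
      _ = _ := by rw [← e']; group
  · have h1 := zc_stable G S (τ : W) τ.2 w hw
    rw [← hker _ (mul_mem h1 hw), hadd _ h1 _ hw, hact τ w hw, hρτ, hN, Matrix.neg_mulVec, Matrix.one_mulVec,
      neg_add_cancel]
  · rw [map_mul, hρτ]
    exact Subtype.ext (by rw [Matrix.SpecialLinearGroup.coe_mul, hN]; simp)
  · have h1 : ρ ⁅τ, ⟨g, hg⟩⁆ = 1 := by
      rw [map_commutatorElement, hρτ, commutatorElement_eq_one_iff_mul_comm, hNc]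
    exact hτC _ h1
  · obtain ⟨A, hA⟩ : ∃ A, A = ρ ⟨a, h.SG ha⟩ := ⟨_, rfl⟩
    have hA1 : A ≠ 1 := fun e => haQ (h.inf_cz.le ⟨ha, hτC _ (hA ▸ e)⟩)
    have hq : ∀ v, (A : Matrix (Fin 2) (Fin 2) F) *ᵥ ((A : Matrix (Fin 2) (Fin 2) F) *ᵥ v - v) =
        (A : Matrix (Fin 2) (Fin 2) F) *ᵥ v - v := by
      intro v
      obtain ⟨z, hz, rfl⟩ := hsur v
      have h2 := (h.natural r).quad a ha z hz
      obtain ⟨d, hd⟩ : ∃ d, d = a * z * a⁻¹ * z⁻¹ := ⟨_, rfl⟩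
      rw [← hd] at h2
      have hdZ : d ∈ zc p G S := om_le_zc G S h2
      have e1 : χ d + χ z = (A : Matrix (Fin 2) (Fin 2) F) *ᵥ χ z := by
        rw [hA, ← hact ⟨a, h.SG ha⟩ z hz, ← hadd d hdZ z hz, hd, inv_mul_cancel_right]
      rw [← e1, add_sub_cancel_right, hA, ← hact ⟨a, h.SG ha⟩ d hdZ]
      show χ (a * d * a⁻¹) = χ d
      rw [h2.2.1 a ha, mul_inv_cancel_right]
    obtain ⟨R, hR, hbr⟩ := exists_braid_neg hA1 hq
    obtain ⟨r', hr'⟩ := hρs R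
    obtain ⟨b, hb⟩ : ∃ b : ↥G, b = r' * ⟨a, h.SG ha⟩ * r'⁻¹ := ⟨_, rfl⟩
    have hρb : ρ b = R * A * R⁻¹ := by rw [hb, map_mul, map_mul, map_inv, hr', hA]
    have hsq : A * (R * A * R⁻¹) * A * (A * (R * A * R⁻¹) * A) = N := Subtype.ext (by rw [hR, hN])
    refine ⟨(r' : W), r'.2, ?_, ?_⟩
    · have h3 : ρ (⟨a, h.SG ha⟩ * b * ⟨a, h.SG ha⟩ * (⟨a, h.SG ha⟩ * b * ⟨a, h.SG ha⟩) * τ⁻¹) = 1 := by
        simp only [map_mul, map_inv, hρb, ← hA, hρτ, hsq, mul_inv_cancel]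
      rw [hb] at h3
      exact hτC _ h3
    · have h3 : ρ (b * ⟨a, h.SG ha⟩ * b * (b * ⟨a, h.SG ha⟩ * b) * τ⁻¹) = 1 := by
        simp only [map_mul, map_inv, hρb, ← hA, hρτ, ← hbr, hsq, mul_inv_cancel]
      rw [hb] at h3
      exact hτC _ h3

end CfsgLib.PushFam
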