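import Cfsg.Agent.Lib.LocalEvenB.PushFam.Linear
import Cfsg.Agent.Lib.LocalEvenB.PushFam.Szero
import Cfsg.Agent.Lib.LocalEvenB.PushFam.Torus

/-!
# Pushing-up families: quadratic action on `Q/Φ(Q)` for `p > 3`, and `S₀`
-/

set_option autoImplicit false

namespace CfsgLib.PushFam

open Subgroup CfsgLib.PushUp
open CfsgLib.LocalEvenB.PushCL (phi map_phi)
open scoped commutatorElement

variable {W : Type*} [Group W] [Finite W] {p : ℕ} [Fact p.Prime] {G S Q M : Subgroup W}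
variable (h : Bad p G S Q M) (r : Res p S)
  (hW : zc p G S ⊓ phi p Q ≤ centralizer (G : Set W))
include h

theorem Bad.cz_coprime {H : Type*} [Group H] (f : ↥(G ⊓ centralizer (zc p G S : Set W)) →* H)
    (hf : ∀ x : ↥(G ⊓ centralizer (zc p G S : Set W)), (x : W) ∈ Q → f x = 1) : Nat.Coprime (Nat.card f.range) p := by
  obtain ⟨C, hC⟩ : ∃ C, C = G ⊓ centralizer (zc p G S : Set W) := ⟨_, rfl⟩
  have hQC : Q ≤ G ⊓ centralizer (zc p G S : Set W) :=
    le_inf (h.QS.trans h.SG) (h.inf_cz.ge.trans inf_le_right)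
  have hdvd : Nat.card f.range ∣ Q.relIndex (G ⊓ centralizer (zc p G S : Set W)) := by
    rw [← Subgroup.index_ker]
    exact Subgroup.index_dvd_of_le fun x hx => hf x hx
  refine Nat.Coprime.coprime_dvd_left hdvd ((Fact.out : p.Prime).coprime_iff_not_dvd.2 ?_).symm
  intro hd
  obtain ⟨k, hk⟩ := (h.pS.to_le h.QS).exists_card_eq
  have h1 : p ^ (k + 1) ∣ Nat.card ↥(G ⊓ centralizer (zc p G S : Set W)) := by
    rw [pow_succ, ← hk, ← Subgroup.relIndex_bot_left Q]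
    rw [← Subgroup.relIndex_bot_left (G ⊓ centralizer (zc p G S : Set W)),
      ← Subgroup.relIndex_mul_relIndex ⊥ Q _ bot_le hQC]
    exact Nat.mul_dvd_mul_left _ hd
  obtain ⟨D, hD⟩ := Sylow.exists_subgroup_card_pow_prime p h1
  obtain ⟨D', hD'⟩ : ∃ D', D' = D.map (G ⊓ centralizer (zc p G S : Set W)).subtype := ⟨_, rfl⟩
  have hc : Nat.card ↥D' = p ^ (k + 1) := by rw [hD', card_map_of_injective (subtype_injective _), hD]
  have hD'C : D' ≤ G ⊓ centralizer (zc p G S : Set W) := hD' ▸ map_subtype_le D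
  obtain ⟨g, hg, hgS⟩ := h.syl G le_rfl h.SG D' (hD'C.trans inf_le_left) (IsPGroup.of_card hc)
  have hle : D' ≤ Q := fun x hx => by
    have h2 : g⁻¹ * x * g ∈ Q := h.inf_cz.le ⟨mem_cj.1 (hgS hx), (h.cz_stable.inv hg (hD'C hx)).2⟩
    simpa [mul_assoc] using h.Qn g hg _ h2
  have h3 := card_le_of_le hle
  rw [hc, hk] at h3
  exact absurd h3 (not_le.2 (Nat.pow_lt_pow_right (Fact.out : p.Prime).one_lt (by omega)))

include r hW

set_option maxHeartbeats 800000 in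
/-- For `p > 3` the square of the action is trivial. -/
theorem Bad.sq_big (hp : 3 < p) {A : Subgroup W} (hA : MaxAb p S A) (hAQ : ¬ A ≤ Q) :
    ∀ o ∈ Q, ∀ a ∈ A, a ∉ Q → ⁅a, ⁅o, a⁆⁆ ∈ (zc p G S ⊓ centralizer (G : Set W)) ⊔ phi p Q := by
  classical
  intro o ho a ha haQ
  obtain ⟨N0, hN0⟩ : ∃ N0, N0 = (zc p G S ⊓ centralizer (G : Set W)) ⊔ phi p Q := ⟨_, rfl⟩
  rw [← hN0]
  have hN0s : Stable G N0 := by
    intro g hg x hx
    rw [hN0] at hx ⊢
    obtain ⟨f, hf, φ, hφ, e⟩ := mem_sup_mul ((inf_le_left.trans (h.zc_le_S.trans h.SG)).trans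
      (st_le_normalizer h.phi_stable')) hx
    have e2 : g * f * g⁻¹ = f := by rw [mem_centralizer_iff.1 hf.2 g hg, mul_inv_cancel_right]
    have h1 := Subgroup.mul_mem_sup (show g * f * g⁻¹ ∈ zc p G S ⊓ centralizer (G : Set W) by rw [e2]; exact hf)
      (h.phi_stable' g hg φ hφ)
    convert h1 using 1
    rw [← e]; group
  obtain ⟨L, hL⟩ : ∃ L, L = N0.subgroupOf Q := ⟨_, rfl⟩
  haveI hLn : L.Normal := hL ▸ normal_subgroupOf_of_le_normalizer
    ((h.QS.trans h.SG).trans (st_le_normalizer hN0s))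
  have hcomm : ∀ x y : ↥Q ⧸ L, x * y = y * x := by
    intro x y
    obtain ⟨x, rfl⟩ := QuotientGroup.mk'_surjective L x
    obtain ⟨y, rfl⟩ := QuotientGroup.mk'_surjective L y
    rw [← map_mul, ← map_mul]
    refine QuotientGroup.eq.2 ?_
    rw [hL, mem_subgroupOf, hN0]
    refine mem_sup_right ?_
    have h1 := comm_mem_phi (p := p) (inv_mem y.2) (inv_mem x.2)
    convert h1 using 1
    rw [Subgroup.coe_mul, InvMemClass.coe_inv, Subgroup.coe_mul, Subgroup.coe_mul, commutatorElement_def]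
    group
  letI : CommGroup (↥Q ⧸ L) := { (inferInstance : Group (↥Q ⧸ L)) with mul_comm := hcomm }
  obtain ⟨mk, hmk⟩ : ∃ mk : ↥Q → Additive (↥Q ⧸ L), mk = fun x => Additive.ofMul (QuotientGroup.mk' L x) :=
    ⟨_, rfl⟩
  have mk_surj : ∀ u, ∃ x, mk x = u := fun u => by
    obtain ⟨x, hx⟩ := QuotientGroup.mk'_surjective L (Additive.toMul u)
    exact ⟨x, by rw [hmk]; exact congrArg Additive.ofMul hx⟩
  have mk_sub : ∀ x y : ↥Q, mk x - mk y = mk (x * y⁻¹) := fun x y => by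
    rw [hmk]
    show _ = Additive.ofMul (QuotientGroup.mk' L (x * y⁻¹))
    rw [map_mul, map_inv, ofMul_mul, ofMul_inv, sub_eq_add_neg]
  have mk_zero : ∀ x : ↥Q, mk x = 0 ↔ (x : W) ∈ N0 := fun x => by
    rw [hmk]
    exact (QuotientGroup.eq_one_iff x).trans (by rw [hL, mem_subgroupOf])
  have mk_eq : ∀ x y : ↥Q, (x : W) * (y : W)⁻¹ ∈ N0 → mk x = mk y := fun x y hxy =>
    sub_eq_zero.1 ((mk_sub x y).trans ((mk_zero _).2 hxy))
  have hGQ : G ≤ normalizer (Q : Set W) := st_le_normalizer h.Qn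
  have hmap : ∀ g : ↥G, L ≤ L.comap (Q.normalizerMonoidHom ⟨(g : W), hGQ g.2⟩).toMonoidHom := fun g x hx => by
    rw [hL, mem_subgroupOf] at hx
    rw [mem_comap, hL, mem_subgroupOf]
    exact hN0s g g.2 _ hx
  obtain ⟨act, hact⟩ : ∃ act : ↥G →* AddMonoid.End (Additive (↥Q ⧸ L)), ∀ (g : ↥G) (x : ↥Q),
      act g (mk x) = mk ⟨(g : W) * x * (g : W)⁻¹, h.Qn g g.2 _ x.2⟩ :=
    ⟨{ toFun := fun g => MonoidHom.toAdditive (QuotientGroup.map L L _ (hmap g))
       map_one' := AddMonoidHom.ext fun u => by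
         obtain ⟨x, rfl⟩ := mk_surj u
         subst hmk
         show Additive.ofMul (QuotientGroup.mk' L _) = Additive.ofMul (QuotientGroup.mk' L x)
         congr 2
         exact Subtype.ext (show (1 : W) * (x : W) * (1 : W)⁻¹ = (x : W) by simp)
       map_mul' := fun g k => AddMonoidHom.ext fun u => by
         obtain ⟨x, rfl⟩ := mk_surj u
         subst hmk
         show Additive.ofMul (QuotientGroup.mk' L _) = Additive.ofMul (QuotientGroup.mk' L _)
         congr 2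
         exact Subtype.ext (show ((g : W) * k) * x * ((g : W) * k)⁻¹ = (g : W) * ((k : W) * x * (k : W)⁻¹) * (g : W)⁻¹ by
           group) },
      fun g x => by subst hmk; rfl⟩
  obtain ⟨ZI, hZI⟩ : ∃ ZI : AddSubgroup (Additive (↥Q ⧸ L)), ∀ u, u ∈ ZI ↔ ∃ x : ↥Q, (x : W) ∈ zc p G S ∧ mk x = u :=
    ⟨(((zc p G S).subgroupOf Q).map (QuotientGroup.mk' L)).toAddSubgroup, fun u => by
      subst hmk
      exact ⟨fun ⟨x, hx, e⟩ => ⟨x, hx, congrArg Additive.ofMul e⟩,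
        fun ⟨x, hx, e⟩ => ⟨x, hx, congrArg Additive.toMul e⟩⟩⟩
  have hZst : ∀ g, ∀ u ∈ ZI, act g u ∈ ZI := fun g u hu => by
    obtain ⟨x, hx, rfl⟩ := (hZI u).1 hu
    rw [hact]
    exact (hZI _).2 ⟨_, zc_stable G S g g.2 _ hx, rfl⟩
  obtain ⟨C, hC⟩ : ∃ C, C = (G ⊓ centralizer (zc p G S : Set W)).subgroupOf G := ⟨_, rfl⟩
  haveI : C.Normal := hC ▸ normal_subgroupOf_of_le_normalizer (st_le_normalizer h.cz_stable)
  have hCmem : ∀ {g : ↥G}, (g : W) ∈ centralizer (zc p G S : Set W) → g ∈ C := fun {g} hg => by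
    rw [hC, mem_subgroupOf]; exact ⟨g.2, hg⟩
  have hZC : ∀ c ∈ C, ∀ u ∈ ZI, act c u = u := fun c hc u hu => by
    obtain ⟨x, hx, rfl⟩ := (hZI u).1 hu
    rw [hC, mem_subgroupOf] at hc
    rw [hact]
    congr 1
    exact Subtype.ext (by
      show (c : W) * x * (c : W)⁻¹ = x
      rw [← mem_centralizer_iff.1 hc.2 _ hx, mul_inv_cancel_right])
  have hQact : ∀ g : ↥G, (g : W) ∈ Q → act g = 1 := fun g hg => AddMonoidHom.ext fun u => by
    obtain ⟨x, rfl⟩ := mk_surj u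
    show act g (mk x) = mk x
    rw [hact]
    refine mk_eq _ _ ?_
    show (g : W) * x * (g : W)⁻¹ * (x : W)⁻¹ ∈ N0
    rw [hN0]
    exact mem_sup_right (commutatorElement_def (g : W) (x : W) ▸ comm_mem_phi hg x.2)
  have hp0 : ∀ u : Additive (↥Q ⧸ L), p • u = 0 := fun u => by
    obtain ⟨x, rfl⟩ := mk_surj u
    subst hmk
    show Additive.ofMul ((QuotientGroup.mk' L x) ^ p) = 0
    rw [← map_pow]
    refine congrArg Additive.ofMul ((QuotientGroup.eq_one_iff _).2 ?_)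
    rw [hL, mem_subgroupOf, SubgroupClass.coe_pow, hN0]
    exact mem_sup_right (pow_mem_phi x.2)
  have hcop : Nat.Coprime (Nat.card (C.map act.toHomUnits)) p := by
    let f : ↥(G ⊓ centralizer (zc p G S : Set W)) →* (AddMonoid.End (Additive (↥Q ⧸ L)))ˣ :=
      act.toHomUnits.comp (Subgroup.inclusion inf_le_left)
    have e : C.map act.toHomUnits = f.range := by
      ext y
      constructor
      · rintro ⟨c, hc, rfl⟩
        rw [hC] at hc
        exact ⟨⟨(c : W), hc⟩, rfl⟩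
      · rintro ⟨c, rfl⟩
        exact ⟨⟨(c : W), c.2.1⟩, hCmem c.2.2, rfl⟩
    rw [e]
    exact h.cz_coprime f fun x hx => Units.ext (hQact _ hx)
  obtain ⟨τ, hτG, hτS, hτinv, hτ2, hτg, hbraid⟩ := h.exists_torus r
  obtain ⟨t, htG, hb1, hb2⟩ := hbraid a (hA.le ha) haQ
  have haG := h.SG (hA.le ha)
  obtain ⟨aG, haG'⟩ : ∃ x : ↥G, x = ⟨a, haG⟩ := ⟨_, rfl⟩
  -- the facts about one element
  have key : ∀ x : ↥Q, act aG (act aG (mk x) - mk x) - (act aG (mk x) - mk x) ∈ ZI ∧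
      act aG (act aG (act aG (mk x) - mk x) - (act aG (mk x) - mk x)) =
        act aG (act aG (mk x) - mk x) - (act aG (mk x) - mk x) := by
    intro x
    have hc := inv_mem (h.commutator_mem r hW hA hAQ x.2 ha)
    rw [commutatorElement_inv] at hc
    obtain ⟨w, hw, k, hk, e⟩ := mem_sup_mul ((h.zc_cent (sup_le inf_le_right (phi_le_self Q))).trans
      (centralizer_le_normalizer _)) hc
    obtain ⟨a0, ha0, φ, hφ, e'⟩ := mem_sup_mul ((inf_le_left.trans (hA.le.trans h.SG)).trans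
      (st_le_normalizer h.phi_stable')) hk
    have h1 : act aG (mk x) - mk x = mk ⟨w * a0, mul_mem (h.zc_le_Q hw) ha0.2⟩ := by
      rw [haG', hact, mk_sub]
      refine mk_eq _ _ ?_
      show a * x * a⁻¹ * (x : W)⁻¹ * (w * a0)⁻¹ ∈ N0
      rw [← commutatorElement_def, ← e, ← e', show w * (a0 * φ) * (w * a0)⁻¹ = (w * a0) * φ * (w * a0)⁻¹ by group,
        hN0]
      exact mem_sup_right (h.phi_stable' _ (h.SG (h.QS (mul_mem (h.zc_le_Q hw) ha0.2))) _ hφ)
    obtain ⟨d, hd⟩ : ∃ d, d = a * w * a⁻¹ * w⁻¹ := ⟨_, rfl⟩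
    have hdom : d ∈ om p S := hd ▸ (h.natural r).quad a (hA.le ha) w hw
    have hdQ : d ∈ Q := h.om_le_Q hdom
    have h2 : act aG (mk ⟨w * a0, mul_mem (h.zc_le_Q hw) ha0.2⟩) - mk ⟨w * a0, mul_mem (h.zc_le_Q hw) ha0.2⟩ =
        mk ⟨d, hdQ⟩ := by
      rw [haG', hact, mk_sub]
      congr 1
      refine Subtype.ext ?_
      show a * (w * a0) * a⁻¹ * (w * a0)⁻¹ = d
      have ec : a * a0 * a⁻¹ = a0 := by rw [mem_comm hA.comm ha0.1 ha, mul_inv_cancel_right]
      calc a * (w * a0) * a⁻¹ * (w * a0)⁻¹ = (a * w * a⁻¹) * (a * a0 * a⁻¹) * a0⁻¹ * w⁻¹ := by group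
        _ = _ := by rw [ec, hd]; group
    rw [h1, h2]
    refine ⟨(hZI _).2 ⟨_, om_le_zc G S hdom, rfl⟩, ?_⟩
    rw [haG', hact]
    congr 1
    exact Subtype.ext (by
      show a * d * a⁻¹ = d
      rw [hdom.2.1 a (hA.le ha), mul_inv_cancel_right])
  have hA' : ∀ u, act aG (act aG u - u) - (act aG u - u) ∈ ZI := fun u => by
    obtain ⟨x, rfl⟩ := mk_surj u; exact (key x).1
  have hA3 : ∀ u, act aG (act aG (act aG u - u) - (act aG u - u)) = act aG (act aG u - u) - (act aG u - u) :=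
    fun u => by obtain ⟨x, rfl⟩ := mk_surj u; exact (key x).2
  have hAZ : ∀ u ∈ ZI, act aG (act aG u - u) = act aG u - u := fun u hu => by
    obtain ⟨x, hx, rfl⟩ := (hZI u).1 hu
    rw [haG', hact, mk_sub, hact]
    congr 1
    refine Subtype.ext ?_
    show a * (a * x * a⁻¹ * (x : W)⁻¹) * a⁻¹ = a * x * a⁻¹ * (x : W)⁻¹
    rw [((h.natural r).quad a (hA.le ha) _ hx).2.1 a (hA.le ha), mul_inv_cancel_right]
  obtain ⟨rG, hrG⟩ : ∃ x : ↥G, x = ⟨t, htG⟩ := ⟨_, rfl⟩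
  have hconj : ∀ u, act (rG * aG * rG⁻¹) u = act rG (act aG (act rG⁻¹ u)) := fun u => by
    rw [map_mul, map_mul]; rfl
  have hinv : ∀ u, act rG⁻¹ (act rG u) = u := fun u => by
    show (act rG⁻¹ * act rG) u = u
    rw [← map_mul, inv_mul_cancel, map_one]; rfl
  have hinv' : ∀ u, ∃ u', act rG u' = u := fun u => ⟨act rG⁻¹ u, by
    show (act rG * act rG⁻¹) u = u
    rw [← map_mul, mul_inv_cancel, map_one]; rfl⟩
  have hbr : ∀ u, act (rG * aG * rG⁻¹) (act rG u) = act rG (act aG u) := fun u => by rw [hconj, hinv]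
  have hstep : ∀ u, act (rG * aG * rG⁻¹) (act rG u) - act rG u = act rG (act aG u - u) := fun u => by
    rw [hbr, map_sub]
  have hB' : ∀ u, act (rG * aG * rG⁻¹) (act (rG * aG * rG⁻¹) u - u) - (act (rG * aG * rG⁻¹) u - u) ∈ ZI := fun u => by
    obtain ⟨u, rfl⟩ := hinv' u
    rw [hstep, hstep]
    exact hZst rG _ (hA' u)
  have hB3 : ∀ u, act (rG * aG * rG⁻¹) (act (rG * aG * rG⁻¹) (act (rG * aG * rG⁻¹) u - u) -
      (act (rG * aG * rG⁻¹) u - u)) = act (rG * aG * rG⁻¹) (act (rG * aG * rG⁻¹) u - u) -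
      (act (rG * aG * rG⁻¹) u - u) := fun u => by
    obtain ⟨u, rfl⟩ := hinv' u
    rw [hstep, hstep, hbr, hA3]
  have hBZ : ∀ u ∈ ZI, act (rG * aG * rG⁻¹) (act (rG * aG * rG⁻¹) u - u) = act (rG * aG * rG⁻¹) u - u :=
    fun u hu => by
    have hu' := hZst rG⁻¹ u hu
    obtain ⟨u, rfl⟩ := hinv' u
    rw [hinv] at hu'
    rw [hstep, hbr, hAZ u hu']
  have hτc : ∀ g : ↥G, (g * ⟨τ, hτG⟩)⁻¹ * (⟨τ, hτG⟩ * g) ∈ C := fun g => by
    refine hCmem ?_
    have h0 : τ * (g : W) * τ⁻¹ * (g : W)⁻¹ ∈ G ⊓ centralizer (zc p G S : Set W) :=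
      ⟨G.mul_mem (G.mul_mem (G.mul_mem hτG g.2) (G.inv_mem hτG)) (G.inv_mem g.2),
        commutatorElement_def τ (g : W) ▸ hτg (g : W) g.2⟩
    have h1 : ((g : W) * τ)⁻¹ * (τ * (g : W) * τ⁻¹ * (g : W)⁻¹) * ((g : W) * τ) ∈
        centralizer (zc p G S : Set W) := (h.cz_stable.inv (G.mul_mem g.2 hτG) h0).2
    show ((g : W) * τ)⁻¹ * (τ * (g : W)) ∈ centralizer (zc p G S : Set W)
    rw [show ((g : W) * τ)⁻¹ * (τ * (g : W)) =
      ((g : W) * τ)⁻¹ * (τ * (g : W) * τ⁻¹ * (g : W)⁻¹) * ((g : W) * τ) by group]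
    exact h1
  have hfin := quad_end hp act hp0 C hcop ZI hZst hZC aG (rG * aG * rG⁻¹) ⟨τ, hτG⟩ (hCmem hτ2) (hτc _) (hτc _)
    (hCmem (by rw [haG', hrG]; exact hb1)) (hCmem (by rw [haG', hrG]; exact hb2))
    (fun u hu => by
      obtain ⟨x, hx, rfl⟩ := (hZI u).1 hu
      rw [hact, ← add_eq_zero_iff_eq_neg, ← neg_neg (mk x), ← sub_eq_add_neg]
      have e : -mk x = mk x⁻¹ := by
        rw [hmk]
        show _ = Additive.ofMul (QuotientGroup.mk' L x⁻¹)
        rw [map_inv, ofMul_inv]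
      rw [e, mk_sub, mk_zero, hN0]
      refine mem_sup_left ⟨?_, ?_⟩
      · show τ * x * τ⁻¹ * ((x : W)⁻¹)⁻¹ ∈ zc p G S
        exact mul_mem (zc_stable G S τ hτG _ hx) (by rwa [inv_inv])
      · show τ * x * τ⁻¹ * ((x : W)⁻¹)⁻¹ ∈ centralizer (G : Set W)
        rw [inv_inv]; exact hτinv _ hx)
    hA' hAZ hB' hBZ hA3 hB3 (mk ⟨o, ho⟩)
  rw [← sub_eq_zero, haG', hact, mk_sub, hact, mk_sub, mk_zero] at hfin
  change a * (a * o * a⁻¹ * o⁻¹) * a⁻¹ * (a * o * a⁻¹ * o⁻¹)⁻¹ ∈ N0 at hfin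
  have hoG := h.SG (h.QS ho)
  have h5 := inv_mem (hN0s (o * a * o⁻¹ * a⁻¹)
    (mul_mem (mul_mem (mul_mem hoG haG) (inv_mem hoG)) (inv_mem haG)) _ hfin)
  convert h5 using 1
  rw [commutatorElement_def, commutatorElement_def]
  group

omit h r hW in
/-- The power of a product when the commutator is central. -/
theorem mul_pow_of_central {K : Type*} [Group K] {x y c : K} (hc : c = y * x * y⁻¹ * x⁻¹)
    (hcx : c * x = x * c) (hcy : c * y = y * c) (n : ℕ) : (x * y) ^ n = c ^ n.choose 2 * x ^ n * y ^ n := by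
  induction n with
  | zero => simp
  | succ n ih =>
    have hyx : ∀ m : ℕ, y ^ m * x = c ^ m * x * y ^ m := by
      intro m
      induction m with
      | zero => simp
      | succ m ihm =>
        have e1 : y * x = c * x * y := by rw [hc]; group
        calc y ^ (m + 1) * x = y * (y ^ m * x) := by rw [pow_succ', mul_assoc]
          _ = (y * c ^ m) * x * y ^ m := by rw [ihm]; simp only [mul_assoc]
          _ = (c ^ m * y) * x * y ^ m := by rw [((show Commute c y from hcy).pow_left m).eq.symm]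
          _ = c ^ m * (y * x) * y ^ m := by simp only [mul_assoc]
          _ = c ^ m * (c * x * y) * y ^ m := by rw [e1]
          _ = _ := by rw [pow_succ c, pow_succ' y]; simp only [mul_assoc]
    rw [pow_succ, ih, Nat.choose_succ_succ', Nat.choose_one_right, add_comm n, pow_add c]
    calc c ^ n.choose 2 * x ^ n * y ^ n * (x * y) = c ^ n.choose 2 * (x ^ n * (y ^ n * x)) * y := by
          simp only [mul_assoc]
      _ = c ^ n.choose 2 * ((x ^ n * c ^ n) * x * y ^ n) * y := by rw [hyx n]; simp only [mul_assoc]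
      _ = c ^ n.choose 2 * ((c ^ n * x ^ n) * x * y ^ n) * y := by
          rw [((show Commute c x from hcx).pow_pow n n).eq]
      _ = _ := by rw [pow_succ x, pow_succ y]; simp only [mul_assoc]

/-- `S₀ ∩ Z` is central for `p > 3`. -/
theorem Bad.szero_central_big (hp : 3 < p) : om p S ⊓ szero p S ≤ centralizer (G : Set W) := by
  classical
  obtain ⟨A, hA, hAQ⟩ := h.exists_outer r
  have hT := h.commutator_tset r hW hA hAQ (h.sq_big r hW hp hA hAQ)
  obtain ⟨τ, hτG, hτS, hτinv, hτ2, hτg, -⟩ := h.exists_torus r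
  obtain ⟨Φ, hΦ⟩ : ∃ Φ, Φ = phi p Q := ⟨_, rfl⟩
  have hΦs : Stable G Φ := hΦ ▸ h.phi_stable'
  obtain ⟨L, hL⟩ : ∃ L, L = Φ.subgroupOf S := ⟨_, rfl⟩
  haveI : L.Normal := hL ▸ normal_subgroupOf_of_le_normalizer (h.SG.trans (st_le_normalizer hΦs))
  let π := QuotientGroup.mk' L
  have hπ : ∀ x : ↥S, π x = 1 ↔ (x : W) ∈ Φ := fun x => (QuotientGroup.eq_one_iff x).trans (by
    rw [hL, mem_subgroupOf])
  -- powers modulo `Φ(Q)`
  have hpow : ∀ (x : ↥S) (q : ↥S), (q : W) ∈ Q → π ((x * q) ^ p) = π (x ^ p) := by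
    intro x q hq
    obtain ⟨c, hc⟩ : ∃ c : ↥S, c = q * x * q⁻¹ * x⁻¹ := ⟨_, rfl⟩
    have hcT : (c : W) ∈ tset Q S (phi p Q) (fun g hg => h.phi_stable' g (h.SG (h.QS hg))) := by
      refine hT (mem_sup_left ?_)
      rw [hc]
      simp only [Subgroup.coe_mul, InvMemClass.coe_inv, ← commutatorElement_def]
      exact commutator_mem_commutator q.2 x.2
    have hcc : ∀ s : ↥S, π c * π s = π s * π c := fun s => by
      rw [← commutatorElement_eq_one_iff_mul_comm, ← map_commutatorElement, hπ]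
      rw [hΦ]
      simp only [commutatorElement_def, Subgroup.coe_mul, InvMemClass.coe_inv]
      have := (mem_tset.1 hcT).2 s s.2
      rwa [commutatorElement_def] at this
    rw [map_pow, map_mul, mul_pow_of_central (c := π c) (by rw [hc]; simp only [map_mul, map_inv]) (hcc x) (hcc q) p]
    have h1 : π c ^ p.choose 2 = 1 := by
      obtain ⟨m, hm⟩ := (Fact.out : p.Prime).dvd_choose_self two_ne_zero (by omega : 2 < p)
      rw [hm, pow_mul, ← map_pow, (hπ _).2 (by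
        rw [hΦ, SubgroupClass.coe_pow]; exact pow_mem_phi (mem_tset.1 hcT).1), one_pow]
    rw [h1, one_mul, map_pow, ← map_pow π q, (hπ (q ^ p)).2 (by
      rw [hΦ, SubgroupClass.coe_pow]; exact pow_mem_phi hq), mul_one]
  obtain ⟨P, hP⟩ : ∃ P : Subgroup W, ∀ x, x ∈ P ↔ x ∈ Q ∧ τ * x * τ⁻¹ * x⁻¹ ∈ Φ :=
    ⟨{ carrier := {x | x ∈ Q ∧ τ * x * τ⁻¹ * x⁻¹ ∈ Φ}
       one_mem' := ⟨one_mem _, by simp⟩
       mul_mem' := fun {x y} hx hy => ⟨mul_mem hx.1 hy.1, by
         have h1 := Φ.mul_mem hx.2 (hΦs x (h.SG (h.QS hx.1)) _ hy.2)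
         convert h1 using 1
         group⟩
       inv_mem' := fun {x} hx => ⟨inv_mem hx.1, by
         have h1 := hΦs x⁻¹ (inv_mem (h.SG (h.QS hx.1))) _ (inv_mem hx.2)
         convert h1 using 1
         group⟩ }, fun _ => Iff.rfl⟩
  have hΦP : Φ ≤ P := fun x hx => (hP x).2 ⟨phi_le_self Q (hΦ ▸ hx), mul_mem (hΦs τ hτG x hx) (inv_mem hx)⟩
  have hsP : ∀ s ∈ S, s ^ p ∈ P := by
    intro s hs
    refine (hP _).2 ⟨h.pw s hs, ?_⟩
    have hτs : τ * s * τ⁻¹ * s⁻¹ ∈ Q := h.inf_cz.le ⟨S.mul_mem (hτS s hs) (S.inv_mem hs),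
      commutatorElement_def τ s ▸ hτg s (h.SG hs)⟩
    have h1 := hpow ⟨s, hs⟩ ⟨s⁻¹ * (τ * s * τ⁻¹), mul_mem (inv_mem hs) (hτS s hs)⟩ (by
      show s⁻¹ * (τ * s * τ⁻¹) ∈ Q
      have := h.Qn s⁻¹ (inv_mem (h.SG hs)) _ hτs
      convert this using 1
      group)
    have h2 := (hπ _).1 (show π ((⟨s, hs⟩ * ⟨s⁻¹ * (τ * s * τ⁻¹), mul_mem (inv_mem hs) (hτS s hs)⟩ : ↥S) ^ p *
      ((⟨s, hs⟩ : ↥S) ^ p)⁻¹) = 1 by rw [map_mul, map_inv, h1, mul_inv_cancel])
    simp only [Subgroup.coe_mul, SubgroupClass.coe_pow, InvMemClass.coe_inv, mul_inv_cancel_left, conj_pow] at h2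
    exact h2
  have hS0 : szero p S ≤ P := by
    rw [szero, if_neg (by omega : ¬ p = 2), if_neg (by omega : ¬ p = 3)]
    refine sup_le ((commutator_le.2 fun x hx s hs => ?_) : ⁅phi p S, S⁆ ≤ P) ((closure_le _).2 ?_)
    · exact hΦP (hΦ ▸ (mem_tset.1 (hT hx)).2 s hs)
    · rintro _ ⟨s, hs, rfl⟩
      exact hsP s hs
  rintro z ⟨hz, hz0⟩
  have hzZ := om_le_zc G S hz
  have h3 : τ * z * τ⁻¹ * z⁻¹ ∈ centralizer (G : Set W) :=
    hW ⟨(zc p G S).mul_mem (zc_stable G S τ hτG z hzZ) ((zc p G S).inv_mem hzZ), hΦ ▸ ((hP z).1 (hS0 hz0)).2⟩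
  have h4 : z * z ∈ centralizer (G : Set W) := by
    have h5 := mul_mem (inv_mem h3) (hτinv z hzZ)
    convert h5 using 1
    group
  obtain ⟨m, hm⟩ : ∃ m, p = 2 * m + 1 := (Fact.out : p.Prime).odd_of_ne_two (by omega)
  have h6 : z ^ p = 1 := h.zc_pow z hzZ
  rw [hm, pow_succ, pow_mul] at h6
  rw [eq_inv_of_mul_eq_one_right h6]
  exact inv_mem (pow_mem (by rw [pow_two]; exact h4) m)

/-- `S₀ ∩ Z` is central. -/
theorem Bad.szero_central : om p S ⊓ szero p S ≤ centralizer (G : Set W) := by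
  have h2 := (Fact.out : p.Prime).two_le
  rcases eq_or_ne p 2 with e | e
  · exact h.szero_central_two r hW e
  rcases eq_or_ne p 3 with e' | e'
  · exact h.szero_central_three r hW e'
  exact h.szero_central_big r hW (by omega)

end CfsgLib.PushFam
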