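import Mathlib

/-!
# An identity for two cubic unipotent operators of a braid pair

If `(1 + a)(1 + b)(1 + a)` and `(1 + b)(1 + a)(1 + b)` square to `-1`, the squares of `a` and `b`
annihilate each other and `6` is cancellable, then `a * a = 0`.
-/

set_option autoImplicit false

namespace CfsgLib.PushFam

variable {R : Type*} [Ring R]

/-- The two facts extracted from one relation. -/
theorem braid_rel {a b : R} (h2 : ∀ x : R, x + x = 0 → x = 0)
    (ha : a * (a * a) = 0) (hb : b * (b * b) = 0)
    (hab : a * (a * (b * b)) = 0) (hba : b * (b * (a * a)) = 0)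
    (haba : a * (a * (b * (a * a))) = 0)
    (hw : (1 + a) * (1 + b) * (1 + a) * ((1 + a) * (1 + b) * (1 + a)) = -1) :
    a * (b * (a * a)) = -(a * a) ∧
    (a * b + b * a + 1) + (a * b + b * a + 1) + ((a * a) + (a * a) + (a * a)) - a * (a * b) - b * (a * a)
      + a * (a * (b * a)) + b * b - a * (b * b) - b * (b * a) + a * (b * (b * a)) = 0 := by
  have zA : ∀ x : R, a * (a * (a * x)) = 0 := fun x => by
    rw [show a * (a * (a * x)) = (a * (a * a)) * x by noncomm_ring, ha, zero_mul]
  have zB : ∀ x : R, b * (b * (b * x)) = 0 := fun x => by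
    rw [show b * (b * (b * x)) = (b * (b * b)) * x by noncomm_ring, hb, zero_mul]
  have zAB : ∀ x : R, a * (a * (b * (b * x))) = 0 := fun x => by
    rw [show a * (a * (b * (b * x))) = (a * (a * (b * b))) * x by noncomm_ring, hab, zero_mul]
  have zBA : ∀ x : R, b * (b * (a * (a * x))) = 0 := fun x => by
    rw [show b * (b * (a * (a * x))) = (b * (b * (a * a))) * x by noncomm_ring, hba, zero_mul]
  have zABA : ∀ x : R, a * (a * (b * (a * (a * x)))) = 0 := fun x => by
    rw [show a * (a * (b * (a * (a * x)))) = (a * (a * (b * (a * a)))) * x by noncomm_ring, haba, zero_mul]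
  obtain ⟨w, hwd⟩ : ∃ w, w = (1 + a) * (1 + b) * (1 + a) := ⟨_, rfl⟩
  obtain ⟨v, hvd⟩ : ∃ v, v = (1 - a + a * a) * (1 - b + b * b) * (1 - a + a * a) := ⟨_, rfl⟩
  rw [← hwd] at hw
  have ea : (1 + a) * (1 - a + a * a) = 1 := by
    rw [show (1 + a) * (1 - a + a * a) = 1 + a * (a * a) by noncomm_ring, ha, add_zero]
  have eb : (1 + b) * (1 - b + b * b) = 1 := by
    rw [show (1 + b) * (1 - b + b * b) = 1 + b * (b * b) by noncomm_ring, hb, add_zero]
  have hwv : w * v = 1 := by
    rw [hwd, hvd]
    calc _ = (1 + a) * ((1 + b) * ((1 + a) * (1 - a + a * a)) * (1 - b + b * b)) * (1 - a + a * a) := by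
          noncomm_ring
      _ = 1 := by rw [ea, mul_one, eb, mul_one, ea]
  have hsum : w + v = 0 := by
    have e : w * (w * v) = w * w * v := (mul_assoc _ _ _).symm
    rw [hwv, mul_one, hw, neg_one_mul] at e
    rw [e, neg_add_cancel]
  rw [hwd, hvd] at hsum
  have e1 := hsum
  simp only [mul_add, add_mul, mul_sub, sub_mul, one_mul, mul_one, mul_assoc, zA, zB, zAB, zBA, zABA,
    ha, hb, hab, hba, haba, mul_zero, sub_zero, add_zero] at e1
  have e2 := congrArg (fun x => x * (a * a)) e1
  simp only [mul_add, add_mul, mul_sub, sub_mul, one_mul, mul_one, mul_assoc, zA, zB, zAB, zBA, zABA,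
    ha, hb, hab, hba, haba, mul_zero, sub_zero, add_zero, zero_mul] at e2
  have e3 : a * (b * (a * a)) = -(a * a) := by
    refine eq_neg_of_add_eq_zero_left (h2 _ (Eq.trans ?_ e2))
    abel
  refine ⟨e3, Eq.trans ?_ e1⟩
  rw [e3]
  abel

/-- The identity. -/
theorem braid_quadratic {a b : R} (h2 : ∀ x : R, x + x = 0 → x = 0) (h3 : ∀ x : R, x + x + x = 0 → x = 0)
    (ha : a * (a * a) = 0) (hb : b * (b * b) = 0)
    (hab : a * (a * (b * b)) = 0) (hba : b * (b * (a * a)) = 0)
    (haba : a * (a * (b * (a * a))) = 0) (hbab : b * (b * (a * (b * b))) = 0)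
    (hw : (1 + a) * (1 + b) * (1 + a) * ((1 + a) * (1 + b) * (1 + a)) = -1)
    (hw' : (1 + b) * (1 + a) * (1 + b) * ((1 + b) * (1 + a) * (1 + b)) = -1) :
    a * a = 0 := by
  obtain ⟨pa, ea⟩ := braid_rel h2 ha hb hab hba haba hw
  obtain ⟨pb, eb⟩ := braid_rel h2 hb ha hba hab hbab hw'
  have zA : ∀ x : R, a * (a * (a * x)) = 0 := fun x => by
    rw [show a * (a * (a * x)) = (a * (a * a)) * x by noncomm_ring, ha, zero_mul]
  have zB : ∀ x : R, b * (b * (b * x)) = 0 := fun x => by
    rw [show b * (b * (b * x)) = (b * (b * b)) * x by noncomm_ring, hb, zero_mul]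
  have zAB : ∀ x : R, a * (a * (b * (b * x))) = 0 := fun x => by
    rw [show a * (a * (b * (b * x))) = (a * (a * (b * b))) * x by noncomm_ring, hab, zero_mul]
  have zBA : ∀ x : R, b * (b * (a * (a * x))) = 0 := fun x => by
    rw [show b * (b * (a * (a * x))) = (b * (b * (a * a))) * x by noncomm_ring, hba, zero_mul]
  have zABA : ∀ x : R, a * (a * (b * (a * (a * x)))) = 0 := fun x => by
    rw [show a * (a * (b * (a * (a * x)))) = (a * (a * (b * (a * a)))) * x by noncomm_ring, haba, zero_mul]
  have zBAB : ∀ x : R, b * (b * (a * (b * (b * x)))) = 0 := fun x => by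
    rw [show b * (b * (a * (b * (b * x)))) = (b * (b * (a * (b * b)))) * x by noncomm_ring, hbab, zero_mul]
  have qa : ∀ x : R, a * (b * (a * (a * x))) = -(a * (a * x)) := fun x => by
    rw [show a * (b * (a * (a * x))) = (a * (b * (a * a))) * x by noncomm_ring, pa, neg_mul, mul_assoc]
  have qb : ∀ x : R, b * (a * (b * (b * x))) = -(b * (b * x)) := fun x => by
    rw [show b * (a * (b * (b * x))) = (b * (a * (b * b))) * x by noncomm_ring, pb, neg_mul, mul_assoc]
  have l1 := congrArg (fun x => a * x) ea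
  have r1 := congrArg (fun x => x * a) ea
  have l2 := congrArg (fun x => b * x) eb
  have r2 := congrArg (fun x => x * b) eb
  simp only [mul_add, add_mul, mul_sub, sub_mul, one_mul, mul_one, mul_assoc, zA, zB, zAB, zBA, zABA, zBAB,
    qa, qb, pa, pb, ha, hb, hab, hba, haba, hbab, mul_zero, zero_mul, sub_zero, add_zero, mul_neg, neg_mul] at l1 r1 l2 r2
  -- the differences
  have s1 : a * (a * b) + a * (a * b) - (b * (a * a) + b * (a * a)) + a * a + a * (b * b)
      + a * (a * (b * a)) - b * (b * a) = 0 := by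
    have e := congrArg₂ (fun x y => x - y) l1 r1
    simp only [sub_self] at e
    refine Eq.trans ?_ e
    abel
  have s2 : b * (b * a) + b * (b * a) - (a * (b * b) + a * (b * b)) + b * b + b * (a * a)
      + b * (b * (a * b)) - a * (a * b) = 0 := by
    have e := congrArg₂ (fun x y => x - y) l2 r2
    simp only [sub_self] at e
    refine Eq.trans ?_ e
    abel
  have t1 := congrArg (fun x => a * x) s1
  have t2 := congrArg (fun x => a * x) s2
  simp only [mul_add, add_mul, mul_sub, sub_mul, one_mul, mul_one, mul_assoc, zA, zB, zAB, zBA, zABA, zBAB,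
    qa, qb, pa, pb, ha, hb, hab, hba, haba, hbab, mul_zero, zero_mul, sub_zero, add_zero, mul_neg, neg_mul] at t1 t2
  -- `a b² a = 2 a²`
  have eA : a * (b * (b * a)) = a * a + a * a := by
    rw [← sub_eq_zero]
    refine Eq.trans ?_ (neg_eq_zero.2 t1)
    abel
  have qA : ∀ x : R, a * (b * (b * (a * x))) = a * (a * x) + a * (a * x) := fun x => by
    rw [show a * (b * (b * (a * x))) = (a * (b * (b * a))) * x by noncomm_ring, eA, add_mul, mul_assoc]
  simp only [qA, eA, mul_add, add_mul, zA, qa, pa, mul_zero, add_zero] at t2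
  -- `a b² = -3 a² - 2 a² b`
  have eB : a * a + a * a + a * a + a * (b * b) + (a * (a * b) + a * (a * b)) = 0 := by
    refine Eq.trans ?_ t2
    abel
  have u1 := congrArg (fun x => x * a) eB
  simp only [mul_add, add_mul, mul_sub, sub_mul, mul_assoc, zA, ha, eA, mul_zero, zero_mul, add_zero,
    zero_add] at u1
  -- `a² b a = -a²`
  have eC : a * (a * (b * a)) = -(a * a) := by
    refine eq_neg_of_add_eq_zero_left (h2 _ (Eq.trans ?_ u1))
    abel
  -- left multiply the symmetric form
  have t3 := congrArg (fun x => b * x) s2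
  have t4 := congrArg (fun x => b * x) s1
  simp only [mul_add, add_mul, mul_sub, sub_mul, one_mul, mul_one, mul_assoc, zA, zB, zAB, zBA, zABA, zBAB,
    qa, qb, pa, pb, ha, hb, hab, hba, haba, hbab, mul_zero, zero_mul, sub_zero, add_zero, mul_neg, neg_mul] at t3 t4
  have eA' : b * (a * (a * b)) = b * b + b * b := by
    rw [← sub_eq_zero]
    refine Eq.trans ?_ (neg_eq_zero.2 t3)
    abel
  have qA' : ∀ x : R, b * (a * (a * (b * x))) = b * (b * x) + b * (b * x) := fun x => by
    rw [show b * (a * (a * (b * x))) = (b * (a * (a * b))) * x by noncomm_ring, eA', add_mul, mul_assoc]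
  simp only [qA', eA', mul_add, add_mul, zB, qb, pb, mul_zero, add_zero] at t4
  have eB' : b * b + b * b + b * b + b * (a * a) + (b * (b * a) + b * (b * a)) = 0 := by
    refine Eq.trans ?_ t4
    abel
  have u2 := congrArg (fun x => a * x) eB'
  simp only [mul_add, add_mul, mul_sub, sub_mul, mul_assoc, pa, eA, mul_zero, zero_mul, add_zero,
    zero_add] at u2
  -- `a b² = -a²`
  have eD : a * (b * b) + a * a = 0 := by
    refine h3 _ (Eq.trans ?_ u2)
    abel
  have eE : a * a + a * (a * b) = 0 := by
    refine h2 _ ?_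
    calc a * a + a * (a * b) + (a * a + a * (a * b))
        = (a * a + a * a + a * a + a * (b * b) + (a * (a * b) + a * (a * b))) - (a * (b * b) + a * a) := by abel
      _ = 0 := by rw [eB, eD, sub_zero]
  have u3 := congrArg (fun x => x * a) eD
  simp only [add_mul, mul_assoc, eA, ha, zero_mul, add_zero] at u3
  exact h2 _ u3

end CfsgLib.PushFam
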